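import Mathlib
set_option linter.all false

/-!
# The 4371-dimensional model of the Baby Monster: the interface

`BModel W` collects the (finitely checkable) facts about the concrete model from which the
abstract theorem (simplicity, order, class of transpositions) is derived.

Dictionary: `C = 2^{1+22}.Co2`, `Q = 2^{1+22}`, `z` its central involution, `τ` the triality
element, `d₀ = u₀ + e₀` the base axis, `t₀ ∈ Q` its transposition, `u₀` in the `23`-part,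
`e₀` in the `2300`-part, `d j` representatives of the `C`-orbits on the `2 * 13571955000`
signed axes.
-/

namespace Cfsg.Agent.BabyM.Model

/-- The data of the model. -/
structure BData (W : Type) [AddCommGroup W] [Module ℚ W] where
  /-- the invariant form -/
  F : LinearMap.BilinForm ℚ W
  /-- `2^{1+22}.Co2` -/
  C : Subgroup (W ≃ₗ[ℚ] W)
  /-- `2^{1+22}` -/
  Q : Subgroup (W ≃ₗ[ℚ] W)
  /-- the triality element -/
  τ : W ≃ₗ[ℚ] W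
  /-- the central involution of `C` -/
  z : W ≃ₗ[ℚ] W
  /-- the transposition of the base axis -/
  t₀ : W ≃ₗ[ℚ] W
  /-- `23`-part of the base axis -/
  u₀ : W
  /-- `2300`-part of the base axis -/
  e₀ : W
  /-- index set of the `C`-orbits of signed axes -/
  J : Type
  /-- index of the orbit of the base axis -/
  j₀ : J
  /-- representatives of the `C`-orbits of signed axes -/
  d : J → W

namespace BData

variable {W : Type} [AddCommGroup W] [Module ℚ W] (M : BData W)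

/-- the group generated by `C` and `τ` -/
def G : Subgroup (W ≃ₗ[ℚ] W) := Subgroup.closure ((M.C : Set (W ≃ₗ[ℚ] W)) ∪ {M.τ})

/-- base axis -/
def d₀ : W := M.u₀ + M.e₀

/-- partner of the base axis -/
def d₁ : W := M.u₀ - M.e₀

/-- the `23`-part -/
def U : Submodule ℚ W := Submodule.span ℚ {x | ∃ g ∈ M.C, x = g M.u₀}

/-- the `2300`-part -/
def E : Submodule ℚ W := Submodule.span ℚ {x | ∃ g ∈ M.C, x = g M.e₀}

/-- the `C`-orbit of the base axis (`9200` signed axes) -/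
def S : Set W := {x | ∃ g ∈ M.C, x = g M.d₀}

/-- the signed axes -/
def D : Set W := {x | ∃ j, ∃ g ∈ M.C, x = g (M.d j)}

end BData

/-- Facts about the group `C = 2^{1+22}.Co2`. -/
structure BGroup {W : Type} [AddCommGroup W] [Module ℚ W] (M : BData W) (K₀ : Type) [Group K₀] :
    Prop where
  z_mem : M.z ∈ M.Q
  z_ne : M.z ≠ 1
  z_sq : M.z * M.z = 1
  Q_le : M.Q ≤ M.C
  Q_card : Nat.card M.Q = 2 ^ 23
  z_comm : ∀ g ∈ M.C, g * M.z = M.z * g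
  Q_comm : ∀ x ∈ M.Q, ∀ y ∈ M.Q, x * y = y * x ∨ x * y = y * x * M.z
  Q_sq : ∀ x ∈ M.Q, x * x = 1 ∨ x * x = M.z
  Q_center : ∀ x ∈ M.Q, (∀ y ∈ M.Q, x * y = y * x) → x = 1 ∨ x = M.z
  /-- `C` acts irreducibly on `Q/⟨z⟩` -/
  Q_irred : ∀ N : Subgroup (W ≃ₗ[ℚ] W), N ≤ M.Q → (∀ g ∈ M.C, ∀ n ∈ N, g * n * g⁻¹ ∈ N) →
    (∀ n ∈ N, n = 1 ∨ n = M.z) ∨ N = M.Q
  /-- `C/Q` is simple of the order of `Co2` -/
  quot : ∃ π : M.C →* K₀, Function.Surjective π ∧ ∀ g : M.C, π g = 1 ↔ (g : W ≃ₗ[ℚ] W) ∈ M.Q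
  simple : IsSimpleGroup K₀
  card : Nat.card K₀ = 42305421312000

/-- Facts about the action of `C` on `W`. -/
structure BRep {W : Type} [AddCommGroup W] [Module ℚ W] (M : BData W) : Prop where
  finrank_eq : Module.finrank ℚ W = 4371
  F_symm : ∀ x y, M.F x y = M.F y x
  F_nondeg : ∀ x, (∀ y, M.F x y = 0) → x = 0
  C_isom : ∀ g ∈ M.C, ∀ x y, M.F (g x) (g y) = M.F x y
  /-- the fixed space of `z` is the sum of the `23`-part and the `2300`-part -/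
  fix_z : ∀ x, M.z x = x → ∃ u ∈ M.U, ∃ e ∈ M.E, x = u + e
  u₀_norm : M.F M.u₀ M.u₀ = 3
  e₀_norm : M.F M.e₀ M.e₀ = 4
  Q_u₀ : ∀ q ∈ M.Q, q M.u₀ = M.u₀
  z_e₀ : M.z M.e₀ = M.e₀
  t₀_mem : M.t₀ ∈ M.Q
  t₀_ne : M.t₀ ≠ 1
  t₀_ne_z : M.t₀ ≠ M.z
  t₀_sq : M.t₀ * M.t₀ = 1
  /-- an element of `Q` fixes `e₀` if it commutes with `t₀` and negates it otherwise -/
  Q_e₀_pos : ∀ q ∈ M.Q, q * M.t₀ = M.t₀ * q → q M.e₀ = M.e₀
  Q_e₀_neg : ∀ q ∈ M.Q, q * M.t₀ ≠ M.t₀ * q → q M.e₀ = - M.e₀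
  /-- stabilisers in `C` of `±u₀` and `±e₀` agree -/
  stab_u₀ : ∀ g ∈ M.C, (g M.u₀ = M.u₀ ∨ g M.u₀ = - M.u₀) → g M.e₀ = M.e₀ ∨ g M.e₀ = - M.e₀
  stab_e₀ : ∀ g ∈ M.C, (g M.e₀ = M.e₀ ∨ g M.e₀ = - M.e₀) → g M.u₀ = M.u₀ ∨ g M.u₀ = - M.u₀
  /-- the signed stabiliser of `d₀` in `C` centralises `t₀` -/
  t₀_comm : ∀ g ∈ M.C, (g M.d₀ = M.d₀ ∨ g M.d₀ = - M.d₀) → g * M.t₀ = M.t₀ * g
  neg : ∃ g ∈ M.C, g M.d₀ = - M.d₀
  /-- different lines of the `2300`-part are separated by `Q` -/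
  sep : ∀ g ∈ M.C, g M.e₀ ≠ M.e₀ → g M.e₀ ≠ - M.e₀ →
    ∃ q ∈ M.Q, q M.e₀ = M.e₀ ∧ q (g M.e₀) = - g M.e₀
  /-- `t₀` negates the `e_r` with `(u_r, u₀) = 0` -/
  t₀_e : ∀ g ∈ M.C, M.t₀ (g M.e₀) = g M.e₀ → g M.e₀ = M.e₀ ∨ g M.e₀ = - M.e₀ ∨
    M.F (g M.u₀) M.u₀ = 1 ∨ M.F (g M.u₀) M.u₀ = -1
  /-- the `u_r` with `(u_r, u₀) = -1` span the `23`-part -/
  U_span : ∀ g ∈ M.C, g M.u₀ ∈ Submodule.span ℚ
    {x | ∃ h ∈ M.C, M.F (h M.u₀) M.u₀ = -1 ∧ x = h M.u₀}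
  /-- there are `9200` signed axes in the base orbit -/
  S_card : M.S.ncard = 9200
  /-- there are `4600` vectors `±e_r` -/
  e_card : {x | ∃ g ∈ M.C, x = g M.e₀}.ncard = 4600
  /-- design property of the `4600` vectors `u_r` -/
  design : ∀ g ∈ M.C, ∑ᶠ c ∈ M.S, M.F c (g M.u₀) • c = (1200 : ℚ) • g M.u₀
  /-- the commutant of `Q` on the `2048`-part consists of scalars -/
  scalar : ∀ f : W →ₗ[ℚ] W, (∀ m, M.z m = -m → M.z (f m) = - f m) →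
    (∀ q ∈ M.Q, ∀ m, M.z m = -m → f (q m) = q (f m)) →
    ∃ α : ℚ, ∀ m, M.z m = -m → f m = α • m
  /-- `Q` is irreducible on the `2048`-part -/
  irred : ∀ s, M.z s = - s → s ≠ 0 → ∀ m, M.z m = -m →
    m ∈ Submodule.span ℚ {x | ∃ q ∈ M.Q, x = q s}
  /-- the automorphisms of the `4600` vectors in the `23`-part are `±Co2` -/
  rigid : ∀ k : W ≃ₗ[ℚ] W, (∀ x ∈ M.U, ∀ y ∈ M.U, M.F (k x) (k y) = M.F x y) →
    (∀ g ∈ M.C, ∃ h ∈ M.C, k (g M.u₀) = h M.u₀) →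
    ∃ c ∈ M.C, (∀ g ∈ M.C, k (g M.u₀) = c (g M.u₀)) ∨ (∀ g ∈ M.C, k (g M.u₀) = - c (g M.u₀))

/-- Facts about the triality element and the orbit representatives. -/
structure BOrbit {W : Type} [AddCommGroup W] [Module ℚ W] (M : BData W) : Prop where
  finite : Finite M.J
  d_j₀ : M.d M.j₀ = M.u₀ + M.e₀
  τ_isom : ∀ x y, M.F (M.τ x) (M.τ y) = M.F x y
  τ_cube : M.τ * M.τ * M.τ = 1
  τ_z : M.τ * M.z * M.τ⁻¹ ∈ M.Q
  τ_z_ne : M.τ * M.z * M.τ⁻¹ ≠ M.z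
  τ_q : ∃ q ∈ M.Q, M.τ * q * M.τ⁻¹ ∈ M.C ∧ M.τ * q * M.τ⁻¹ ∉ M.Q
  /-- an element of `C` inverting `τ` modulo `C` -/
  τ_inv : ∃ s ∈ M.C, s * M.τ * s⁻¹ * M.τ ∈ M.C
  /-- closure of the set of axes under `τ` -/
  closed : ∀ j, ∀ g ∈ M.C, ∃ k, ∃ h ∈ M.C, M.τ (g (M.d j)) = h (M.d k)
  disjoint : ∀ j k, ∀ g ∈ M.C, g (M.d j) = M.d k → j = k
  /-- the axes fixed by `z` outside the base orbit lie in the `2300`-part -/
  z_d : ∀ j, M.z (M.d j) = M.d j → j = M.j₀ ∨ M.d j ∈ M.E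
  /-- `t_b` fixes `d j` when the inner product is `-1` -/
  t_d : ∀ j, ∀ g ∈ M.C, M.F (g M.d₀) (M.d j) = -1 → (g * M.t₀ * g⁻¹) (M.d j) = M.d j
  /-- some axis of inner product `-1` with `d₀` is not fixed by `z` -/
  exists_moved : ∃ j, ∃ g ∈ M.C, M.F (g (M.d j)) M.d₀ = -1 ∧ M.z (M.d j) ≠ M.d j
  /-- all representatives are conjugate under `G` to the base axis -/
  trans : ∀ j, ∃ g ∈ M.G, g (M.d j) = M.d₀
  /-- all pairs of inner product `-1` are conjugate under `G` -/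
  trans₂ : ∀ j, ∀ b ∈ M.S, M.F b (M.d j) = -1 → ∃ g ∈ M.G, g (M.d j) = M.d₀ ∧ g b = M.d₁
  /-- the number of signed axes is `2 * 13571955000` -/
  card_D : M.D.ncard = 27143910000
  /-- the number of pairs (signed axis, element of the base orbit) of inner product `-1` -/
  card_pairs : {p : W × W | p.1 ∈ M.D ∧ p.2 ∈ M.S ∧ M.F p.2 p.1 = -1}.ncard = 9200 * 3968055

/-- Facts for the transposition property. -/
structure BTrans {W : Type} [AddCommGroup W] [Module ℚ W] (M : BData W) : Prop where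
  /-- for all `j` there is `g ∈ G` with `g d₀ = d j`, with `(t_b t_{d j})^n = 1`, `n ≤ 4`, for all
  `b` in the base orbit -/
  order_le : ∀ j, ∃ g ∈ M.G, g M.d₀ = M.d j ∧ ∀ h ∈ M.C, ∃ n : ℕ, 0 < n ∧ n ≤ 4 ∧
    ((h * M.t₀ * h⁻¹) * (g * M.t₀ * g⁻¹)) ^ n = 1
  /-- for `j ≠ j₀` the transposition of `d j` moves some vector of the `23`-part -/
  moves : ∀ j, j ≠ M.j₀ → ∃ g ∈ M.G, g M.d₀ = M.d j ∧ ∃ x ∈ M.U, (g * M.t₀ * g⁻¹) x ≠ x

end Cfsg.Agent.BabyM.Model
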