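/-
The groups of the concrete model of the Baby Monster: membership of words, the element `τ`.
-/
import Cfsg.Agent.BabyM.ConcEq
import Cfsg.Agent.BabyM.ConcRelT
import Cfsg.Agent.BabyM.ConcRelX
import Cfsg.Agent.BabyM.ConcRelS
import Cfsg.Agent.BabyM.Model
import Cfsg.Agent.MonsterX.CertOrb
set_option linter.all false

set_option autoImplicit false

namespace Cfsg.Agent.BabyM.ConcGrp

open Cfsg.Agent.Monster.VecEngine Cfsg.Agent.Monster.VecSpace Cfsg.Agent.BabyM.Conc Cfsg.Agent.BabyM.ConcEq

/-! ### Small words -/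

theorem W_two (a b : Ltr) : W [a, b] = E b * E a := by rw [W_cons, W_single]

theorem W_three (a b c : Ltr) : W [a, b, c] = E c * E b * E a := by rw [W_cons, W_two]

theorem mul_eq {a b : Ltr} {v : List Ltr} (h : W [a, b] = W v) : E b * E a = W v := by rw [← h, W_two]

theorem inv_of {a b : Ltr} (h : W [a, b] = W []) : E b = (E a)⁻¹ := by
  rw [W_two, W_nil] at h
  exact eq_inv_of_mul_eq_one_left h

theorem E_hi : E .hi = (E .h)⁻¹ := inv_of w_hi

theorem E_xii : E .xii = (E .xi)⁻¹ := inv_of w_xii

theorem E_taui : E .taui = τ⁻¹ := inv_of w_taui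

theorem E_tau : E .tau = τ := rfl

theorem E_p10 : E .p10 = (E .p)⁻¹ := by
  have h := w_p11
  rw [W_two, W_nil] at h
  exact eq_inv_of_mul_eq_one_right h

theorem z_eq : z = E .Z0 * E .X0 * E .Z0 * E .X0 := by
  have h := w_z
  rw [W_cons, W_three, W_single] at h
  exact h.symm

theorem z_sq : z * z = 1 := by
  have h := w_zz
  rw [W_two, W_nil] at h
  exact h

theorem X10_sq : E .X10 * E .X10 = 1 := by
  have h := w_X10
  rw [W_two, W_nil] at h
  exact h

theorem X10_inv : (E .X10)⁻¹ = E .X10 := inv_eq_of_mul_eq_one_left X10_sq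

/-! ### Membership -/

/-- A word lies in a subgroup if all its letters do. -/
theorem W_mem {H : Subgroup (V ≃ₗ[ℚ] V)} {v : List Ltr} (h : ∀ l ∈ v, E l ∈ H) : W v ∈ H := by
  induction v with
  | nil => exact H.one_mem
  | cons l v ih =>
    rw [W_cons]
    exact H.mul_mem (ih fun l' hl' => h l' (by simp [hl'])) (h l (by simp))

/-- Letters lying in `Q`. -/
def inQ (l : Ltr) : Bool := l.isQ || match l with | .z => true | _ => false

theorem mem_Q {l : Ltr} (h : inQ l = true) : E l ∈ Q := by
  by_cases h1 : l.isQ = true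
  · exact E_mem_Q h1
  · cases l <;> first
      | exact absurd rfl h1
      | (exact absurd (show false = true from h) (by simp))
      | (show z ∈ Q
         rw [z_eq]
         exact Q.mul_mem (Q.mul_mem (Q.mul_mem (E_mem_Q rfl) (E_mem_Q rfl)) (E_mem_Q rfl)) (E_mem_Q rfl))

theorem W_mem_Q {v : List Ltr} (h : v.all inQ = true) : W v ∈ Q :=
  W_mem fun l hl => mem_Q (List.all_eq_true.1 h l hl)

theorem z_mem_Q : z ∈ Q := mem_Q (l := .z) rfl

/-- `p` and its powers. -/
theorem mem_pow {H : Subgroup (V ≃ₗ[ℚ] V)} (h : E .p ∈ H) :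
    E .p2 ∈ H ∧ E .p3 ∈ H ∧ E .p4 ∈ H ∧ E .p5 ∈ H ∧ E .p6 ∈ H ∧ E .p7 ∈ H ∧ E .p8 ∈ H ∧ E .p9 ∈ H ∧ E .p10 ∈ H := by
  have st : ∀ {a b : Ltr}, W [a, .p] = W [b] → E a ∈ H → E b ∈ H := by
    intro a b h1 h2
    rw [W_two, W_single] at h1
    rw [← h1]; exact H.mul_mem h h2
  have h2 := st w_p2 h
  have h3 := st w_p3 h2
  have h4 := st w_p4 h3
  have h5 := st w_p5 h4
  have h6 := st w_p6 h5
  have h7 := st w_p7 h6
  have h8 := st w_p8 h7
  have h9 := st w_p9 h8
  exact ⟨h2, h3, h4, h5, h6, h7, h8, h9, st w_p10 h9⟩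

/-- Letters lying in `C`: all but `τ`, `τ⁻¹`. -/
def inC (l : Ltr) : Bool := match l with | .tau => false | .taui => false | _ => true

theorem mem_C {l : Ltr} (h : inC l = true) : E l ∈ C := by
  obtain ⟨h2, h3, h4, h5, h6, h7, h8, h9, h10⟩ := mem_pow (E_mem_C (l := .p) rfl)
  by_cases h1 : l.isC = true
  · exact E_mem_C h1
  · cases l <;> first
      | exact absurd rfl h1
      | (exact absurd (show false = true from h) (by simp))
      | assumption
      | exact Q_le_C z_mem_Q
      | (rw [E_hi]; exact C.inv_mem (E_mem_C rfl))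
      | (rw [E_xii]; exact C.inv_mem (E_mem_C rfl))

theorem W_mem_C {v : List Ltr} (h : v.all inC = true) : W v ∈ C :=
  W_mem fun l hl => mem_C (List.all_eq_true.1 h l hl)

/-- The letters generating `N`: `X_k`, `Z_k`, `y_k`, `p`, `h`. -/
def isN (l : Ltr) : Bool := l.isC && match l with | .xi => false | _ => true

/-- The letters generating `N_0 = N_xyz`: the same without `X_10`. -/
def isN0 (l : Ltr) : Bool := isN l && match l with | .X10 => false | _ => true

/-- The stabiliser `N` of the frame. -/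
noncomputable def N : Subgroup (V ≃ₗ[ℚ] V) := Subgroup.closure {g | ∃ l : Ltr, isN l = true ∧ g = E l}

/-- The subgroup `N_xyz` of index two of `N`. -/
noncomputable def N0 : Subgroup (V ≃ₗ[ℚ] V) := Subgroup.closure {g | ∃ l : Ltr, isN0 l = true ∧ g = E l}

theorem N0_le_N : N0 ≤ N := by
  apply Subgroup.closure_mono
  rintro g ⟨l, hl, rfl⟩
  exact ⟨l, (Bool.and_eq_true_iff.1 hl).1, rfl⟩

theorem N_le_C : N ≤ C := by
  apply Subgroup.closure_mono
  rintro g ⟨l, hl, rfl⟩
  exact ⟨l, (Bool.and_eq_true_iff.1 hl).1, rfl⟩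

/-- Letters lying in `N0`. -/
def inN0 (l : Ltr) : Bool := match l with
  | .tau => false | .taui => false | .xi => false | .xii => false | .X10 => false | _ => true

/-- Letters lying in `N`. -/
def inN (l : Ltr) : Bool := match l with | .tau => false | .taui => false | .xi => false | .xii => false | _ => true

theorem mem_N0 {l : Ltr} (h : inN0 l = true) : E l ∈ N0 := by
  have g : ∀ {l : Ltr}, isN0 l = true → E l ∈ N0 := fun {l} hl => Subgroup.subset_closure ⟨l, hl, rfl⟩
  obtain ⟨h2, h3, h4, h5, h6, h7, h8, h9, h10⟩ := mem_pow (g (l := .p) rfl)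
  by_cases h1 : isN0 l = true
  · exact g h1
  · cases l <;> first
      | exact absurd rfl h1
      | (exact absurd (show false = true from h) (by simp))
      | assumption
      | (show z ∈ N0
         rw [z_eq]
         exact N0.mul_mem (N0.mul_mem (N0.mul_mem (g rfl) (g rfl)) (g rfl)) (g rfl))
      | (rw [E_hi]; exact N0.inv_mem (g rfl))

theorem W_mem_N0 {v : List Ltr} (h : v.all inN0 = true) : W v ∈ N0 :=
  W_mem fun l hl => mem_N0 (List.all_eq_true.1 h l hl)

theorem mem_N {l : Ltr} (h : inN l = true) : E l ∈ N := by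
  by_cases h1 : inN0 l = true
  · exact N0_le_N (mem_N0 h1)
  · cases l <;> first
      | exact absurd rfl h1
      | (exact absurd (show false = true from h) (by simp))
      | exact Subgroup.subset_closure ⟨.X10, rfl, rfl⟩

theorem W_mem_N {v : List Ltr} (h : v.all inN = true) : W v ∈ N :=
  W_mem fun l hl => mem_N (List.all_eq_true.1 h l hl)

/-- `C` is generated by `N` and `ξ`. -/
theorem C_eq : C = Subgroup.closure ((N : Set (V ≃ₗ[ℚ] V)) ∪ {E .xi}) := by
  apply le_antisymm
  · apply (Subgroup.closure_le _).2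
    rintro g ⟨l, hl, rfl⟩
    by_cases h1 : isN l = true
    · exact Subgroup.subset_closure (Or.inl (Subgroup.subset_closure ⟨l, h1, rfl⟩))
    · apply Subgroup.subset_closure
      right
      cases l <;> first
        | exact absurd rfl h1
        | (exact absurd (show false = true from hl) (by simp))
        | exact Set.mem_singleton _
  · apply (Subgroup.closure_le _).2
    rintro g (hg | hg)
    · exact N_le_C hg
    · rw [Set.mem_singleton_iff] at hg
      subst hg
      exact E_mem_C rfl

/-! ### Conjugation by `τ` -/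

theorem conj_of {g : Ltr} {v : List Ltr} (h : W [.taui, g, .tau] = W v) : τ * E g * τ⁻¹ = W v := by
  rw [← h, W_three, E_tau, E_taui]

theorem conj_of' {g : Ltr} {v : List Ltr} (h : W [.tau, g, .taui] = W v) : τ⁻¹ * E g * τ = W v := by
  rw [← h, W_three, E_tau, E_taui]

theorem conj_e {g : Ltr} {v : List Ltr} (h : W [.X10, g, .X10] = W v) : E .X10 * E g * (E .X10)⁻¹ = W v := by
  rw [← h, W_three, X10_inv]

theorem τ_cube : τ * τ * τ = 1 := by
  have h := w_tau3
  rw [W_three, W_nil] at h
  exact h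

theorem e_inv : E .X10 * τ * (E .X10)⁻¹ = τ⁻¹ := by
  have h := w_e
  rw [W_cons, W_three, W_nil] at h
  rw [X10_inv]
  exact eq_inv_of_mul_eq_one_right (by rw [← mul_assoc, ← mul_assoc]; exact h)

theorem τ_z_eq : τ * z * τ⁻¹ = E .Z10 := by
  rw [show z = E .z from rfl, conj_of ConcRelT.tau_z, W_single]

/-! ### `N_xyz` and `τ` -/

/-- Conjugation maps a closure into a subgroup if it maps the generators into it. -/
theorem conj_closure {S : Set (V ≃ₗ[ℚ] V)} {K : Subgroup (V ≃ₗ[ℚ] V)} {t : V ≃ₗ[ℚ] V}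
    (h : ∀ s ∈ S, t * s * t⁻¹ ∈ K) : ∀ x ∈ Subgroup.closure S, t * x * t⁻¹ ∈ K := by
  intro x hx
  induction hx using Subgroup.closure_induction with
  | mem s hs => exact h s hs
  | one => rw [mul_one, mul_inv_cancel]; exact K.one_mem
  | mul a b _ _ ha hb =>
    have : t * (a * b) * t⁻¹ = (t * a * t⁻¹) * (t * b * t⁻¹) := by group
    rw [this]; exact K.mul_mem ha hb
  | inv a _ ha =>
    have : t * a⁻¹ * t⁻¹ = (t * a * t⁻¹)⁻¹ := by group
    rw [this]; exact K.inv_mem ha

theorem tau_gen (l : Ltr) (h : isN0 l = true) : τ * E l * τ⁻¹ ∈ N := by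
  cases l
  case X0 => rw [conj_of ConcRelT.tau_X0]; exact W_mem_N rfl
  case X1 => rw [conj_of ConcRelT.tau_X1]; exact W_mem_N rfl
  case X2 => rw [conj_of ConcRelT.tau_X2]; exact W_mem_N rfl
  case X3 => rw [conj_of ConcRelT.tau_X3]; exact W_mem_N rfl
  case X4 => rw [conj_of ConcRelT.tau_X4]; exact W_mem_N rfl
  case X5 => rw [conj_of ConcRelT.tau_X5]; exact W_mem_N rfl
  case X6 => rw [conj_of ConcRelT.tau_X6]; exact W_mem_N rfl
  case X7 => rw [conj_of ConcRelT.tau_X7]; exact W_mem_N rfl
  case X8 => rw [conj_of ConcRelT.tau_X8]; exact W_mem_N rfl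
  case X9 => rw [conj_of ConcRelT.tau_X9]; exact W_mem_N rfl
  case Z0 => rw [conj_of ConcRelT.tau_Z0]; exact W_mem_N rfl
  case Z1 => rw [conj_of ConcRelT.tau_Z1]; exact W_mem_N rfl
  case Z2 => rw [conj_of ConcRelT.tau_Z2]; exact W_mem_N rfl
  case Z3 => rw [conj_of ConcRelT.tau_Z3]; exact W_mem_N rfl
  case Z4 => rw [conj_of ConcRelT.tau_Z4]; exact W_mem_N rfl
  case Z5 => rw [conj_of ConcRelT.tau_Z5]; exact W_mem_N rfl
  case Z6 => rw [conj_of ConcRelT.tau_Z6]; exact W_mem_N rfl
  case Z7 => rw [conj_of ConcRelT.tau_Z7]; exact W_mem_N rfl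
  case Z8 => rw [conj_of ConcRelT.tau_Z8]; exact W_mem_N rfl
  case Z9 => rw [conj_of ConcRelT.tau_Z9]; exact W_mem_N rfl
  case Z10 => rw [conj_of ConcRelT.tau_Z10]; exact W_mem_N rfl
  case y1 => rw [conj_of ConcRelT.tau_y1]; exact W_mem_N rfl
  case y2 => rw [conj_of ConcRelT.tau_y2]; exact W_mem_N rfl
  case y3 => rw [conj_of ConcRelT.tau_y3]; exact W_mem_N rfl
  case y4 => rw [conj_of ConcRelT.tau_y4]; exact W_mem_N rfl
  case y5 => rw [conj_of ConcRelT.tau_y5]; exact W_mem_N rfl
  case y6 => rw [conj_of ConcRelT.tau_y6]; exact W_mem_N rfl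
  case y7 => rw [conj_of ConcRelT.tau_y7]; exact W_mem_N rfl
  case y8 => rw [conj_of ConcRelT.tau_y8]; exact W_mem_N rfl
  case y9 => rw [conj_of ConcRelT.tau_y9]; exact W_mem_N rfl
  case y10 => rw [conj_of ConcRelT.tau_y10]; exact W_mem_N rfl
  case p => rw [conj_of ConcRelT.tau_p]; exact W_mem_N rfl
  case h => rw [conj_of ConcRelT.tau_h]; exact W_mem_N rfl
  all_goals exact absurd (show false = true from h) (by simp)

theorem taui_gen (l : Ltr) (h : isN0 l = true) : τ⁻¹ * E l * τ ∈ N := by
  cases l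
  case X0 => rw [conj_of' ConcRelT.taui_X0]; exact W_mem_N rfl
  case X1 => rw [conj_of' ConcRelT.taui_X1]; exact W_mem_N rfl
  case X2 => rw [conj_of' ConcRelT.taui_X2]; exact W_mem_N rfl
  case X3 => rw [conj_of' ConcRelT.taui_X3]; exact W_mem_N rfl
  case X4 => rw [conj_of' ConcRelT.taui_X4]; exact W_mem_N rfl
  case X5 => rw [conj_of' ConcRelT.taui_X5]; exact W_mem_N rfl
  case X6 => rw [conj_of' ConcRelT.taui_X6]; exact W_mem_N rfl
  case X7 => rw [conj_of' ConcRelT.taui_X7]; exact W_mem_N rfl
  case X8 => rw [conj_of' ConcRelT.taui_X8]; exact W_mem_N rfl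
  case X9 => rw [conj_of' ConcRelT.taui_X9]; exact W_mem_N rfl
  case Z0 => rw [conj_of' ConcRelT.taui_Z0]; exact W_mem_N rfl
  case Z1 => rw [conj_of' ConcRelT.taui_Z1]; exact W_mem_N rfl
  case Z2 => rw [conj_of' ConcRelT.taui_Z2]; exact W_mem_N rfl
  case Z3 => rw [conj_of' ConcRelT.taui_Z3]; exact W_mem_N rfl
  case Z4 => rw [conj_of' ConcRelT.taui_Z4]; exact W_mem_N rfl
  case Z5 => rw [conj_of' ConcRelT.taui_Z5]; exact W_mem_N rfl
  case Z6 => rw [conj_of' ConcRelT.taui_Z6]; exact W_mem_N rfl
  case Z7 => rw [conj_of' ConcRelT.taui_Z7]; exact W_mem_N rfl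
  case Z8 => rw [conj_of' ConcRelT.taui_Z8]; exact W_mem_N rfl
  case Z9 => rw [conj_of' ConcRelT.taui_Z9]; exact W_mem_N rfl
  case Z10 => rw [conj_of' ConcRelT.taui_Z10]; exact W_mem_N rfl
  case y1 => rw [conj_of' ConcRelT.taui_y1]; exact W_mem_N rfl
  case y2 => rw [conj_of' ConcRelT.taui_y2]; exact W_mem_N rfl
  case y3 => rw [conj_of' ConcRelT.taui_y3]; exact W_mem_N rfl
  case y4 => rw [conj_of' ConcRelT.taui_y4]; exact W_mem_N rfl
  case y5 => rw [conj_of' ConcRelT.taui_y5]; exact W_mem_N rfl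
  case y6 => rw [conj_of' ConcRelT.taui_y6]; exact W_mem_N rfl
  case y7 => rw [conj_of' ConcRelT.taui_y7]; exact W_mem_N rfl
  case y8 => rw [conj_of' ConcRelT.taui_y8]; exact W_mem_N rfl
  case y9 => rw [conj_of' ConcRelT.taui_y9]; exact W_mem_N rfl
  case y10 => rw [conj_of' ConcRelT.taui_y10]; exact W_mem_N rfl
  case p => rw [conj_of' ConcRelT.taui_p]; exact W_mem_N rfl
  case h => rw [conj_of' ConcRelT.taui_h]; exact W_mem_N rfl
  all_goals exact absurd (show false = true from h) (by simp)

theorem e_gen (l : Ltr) (h : isN0 l = true) : E .X10 * E l * (E .X10)⁻¹ ∈ N0 := by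
  cases l
  case X0 => rw [conj_e ConcRelT.e_X0]; exact W_mem_N0 rfl
  case X1 => rw [conj_e ConcRelT.e_X1]; exact W_mem_N0 rfl
  case X2 => rw [conj_e ConcRelT.e_X2]; exact W_mem_N0 rfl
  case X3 => rw [conj_e ConcRelT.e_X3]; exact W_mem_N0 rfl
  case X4 => rw [conj_e ConcRelT.e_X4]; exact W_mem_N0 rfl
  case X5 => rw [conj_e ConcRelT.e_X5]; exact W_mem_N0 rfl
  case X6 => rw [conj_e ConcRelT.e_X6]; exact W_mem_N0 rfl
  case X7 => rw [conj_e ConcRelT.e_X7]; exact W_mem_N0 rfl
  case X8 => rw [conj_e ConcRelT.e_X8]; exact W_mem_N0 rfl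
  case X9 => rw [conj_e ConcRelT.e_X9]; exact W_mem_N0 rfl
  case Z0 => rw [conj_e ConcRelT.e_Z0]; exact W_mem_N0 rfl
  case Z1 => rw [conj_e ConcRelT.e_Z1]; exact W_mem_N0 rfl
  case Z2 => rw [conj_e ConcRelT.e_Z2]; exact W_mem_N0 rfl
  case Z3 => rw [conj_e ConcRelT.e_Z3]; exact W_mem_N0 rfl
  case Z4 => rw [conj_e ConcRelT.e_Z4]; exact W_mem_N0 rfl
  case Z5 => rw [conj_e ConcRelT.e_Z5]; exact W_mem_N0 rfl
  case Z6 => rw [conj_e ConcRelT.e_Z6]; exact W_mem_N0 rfl
  case Z7 => rw [conj_e ConcRelT.e_Z7]; exact W_mem_N0 rfl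
  case Z8 => rw [conj_e ConcRelT.e_Z8]; exact W_mem_N0 rfl
  case Z9 => rw [conj_e ConcRelT.e_Z9]; exact W_mem_N0 rfl
  case Z10 => rw [conj_e ConcRelT.e_Z10]; exact W_mem_N0 rfl
  case y1 => rw [conj_e ConcRelT.e_y1]; exact W_mem_N0 rfl
  case y2 => rw [conj_e ConcRelT.e_y2]; exact W_mem_N0 rfl
  case y3 => rw [conj_e ConcRelT.e_y3]; exact W_mem_N0 rfl
  case y4 => rw [conj_e ConcRelT.e_y4]; exact W_mem_N0 rfl
  case y5 => rw [conj_e ConcRelT.e_y5]; exact W_mem_N0 rfl
  case y6 => rw [conj_e ConcRelT.e_y6]; exact W_mem_N0 rfl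
  case y7 => rw [conj_e ConcRelT.e_y7]; exact W_mem_N0 rfl
  case y8 => rw [conj_e ConcRelT.e_y8]; exact W_mem_N0 rfl
  case y9 => rw [conj_e ConcRelT.e_y9]; exact W_mem_N0 rfl
  case y10 => rw [conj_e ConcRelT.e_y10]; exact W_mem_N0 rfl
  case p => rw [conj_e ConcRelT.e_p]; exact W_mem_N0 rfl
  case h => rw [conj_e ConcRelT.e_h]; exact W_mem_N0 rfl
  all_goals exact absurd (show false = true from h) (by simp)

theorem tau_conj : ∀ d ∈ N0, τ * d * τ⁻¹ ∈ N := by
  apply conj_closure
  rintro s ⟨l, hl, rfl⟩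
  exact tau_gen l hl

theorem tau_conj' : ∀ d ∈ N0, τ⁻¹ * d * τ ∈ N := by
  have := conj_closure (S := {g | ∃ l : Ltr, isN0 l = true ∧ g = E l}) (K := N) (t := τ⁻¹) ?_
  · intro d hd
    have h := this d hd
    rwa [inv_inv] at h
  · rintro s ⟨l, hl, rfl⟩
    rw [inv_inv]
    exact taui_gen l hl

theorem e_conj : ∀ d ∈ N0, E .X10 * d * E .X10 ∈ N0 := by
  intro d hd
  have := conj_closure (S := {g | ∃ l : Ltr, isN0 l = true ∧ g = E l}) (K := N0) (t := E .X10) (by
    rintro s ⟨l, hl, rfl⟩
    exact e_gen l hl) d hd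
  rwa [X10_inv] at this

theorem cosets : ∀ d ∈ N, d ∈ N0 ∨ d * E .X10 ∈ N0 := by
  have hee := X10_sq
  intro d hd
  induction hd using Subgroup.closure_induction with
  | mem s hs =>
    obtain ⟨l, hl, rfl⟩ := hs
    by_cases h1 : isN0 l = true
    · exact Or.inl (Subgroup.subset_closure ⟨l, h1, rfl⟩)
    · right
      cases l <;> first
        | exact absurd rfl h1
        | (exact absurd (show false = true from hl) (by simp))
        | (rw [hee]; exact N0.one_mem)
  | one => exact Or.inl N0.one_mem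
  | mul a b _ _ ha hb =>
    rcases ha with ha | ha <;> rcases hb with hb | hb
    · exact Or.inl (N0.mul_mem ha hb)
    · right
      rw [mul_assoc]; exact N0.mul_mem ha hb
    · right
      have : a * b * E .X10 = (a * E .X10) * (E .X10 * b * E .X10) := by
        calc a * b * E .X10 = a * (E .X10 * E .X10) * b * E .X10 := by rw [hee, mul_one]
          _ = _ := by group
      rw [this]; exact N0.mul_mem ha (e_conj b hb)
    · left
      have : a * b = (a * E .X10) * (E .X10 * (b * E .X10) * E .X10) := by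
        calc a * b = a * (E .X10 * E .X10) * b * (E .X10 * E .X10) := by rw [hee, mul_one, mul_one]
          _ = _ := by group
      rw [this]; exact N0.mul_mem ha (e_conj _ hb)
  | inv a _ ha =>
    rcases ha with ha | ha
    · exact Or.inl (N0.inv_mem ha)
    · right
      have : a⁻¹ * E .X10 = E .X10 * (a * E .X10)⁻¹ * E .X10 := by
        rw [mul_inv_rev, X10_inv, ← mul_assoc, hee, one_mul]
      rw [this]; exact e_conj _ (N0.inv_mem ha)

/-- The lanes `Y_d`. -/
def maskY : ℕ := 0xffffffffffffffffffffffffffffffffffffffffffffffffffffffffffffffffffffffffffffffffffffffffffffffffffffffffffffffffffffffffffffffffffffffffffffffffffffffffffffffffffffffffffffffffffffffffffffffffffffffffffffffffffffffffffffffffffffffffffffffffffffffffffffffff0000000000000000000000000000000000000000000000000000000000000000000000000000000000000000000000000000000000000000000000000000000000000000000000000000000000000000000000000000000000000000000000000000000000000000000000000000000000000000000000000000000000000000000000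000000000000000000000000000000000000000000000000000000000000000000000000000000000000000000000000000000000000000000000000000000000000000000000000000000000000000000000000000000000000000000000000000000000000000000000000000000000000000000000000000000000000000000000000000000000000000000000000000000000000000000000000000000000000000000000000000000000000000000000000000000000000000000000000000000000000000000000000000000000000000000000000000000000000000000000000000000000000000000000000000000000000000000000000000000000000000000000000000000000000000000000000000000000000000000000000000000000000000000000000000000000000000000000000000000000000000000000000000000000000000000000000000000000000000000000000000000000000000000000000000000000000000000000000000000000000000000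

/-- Vectors supported on the lanes of a mask `M`. -/
def supp (M : ℕ) : Submodule ℚ V where
  carrier := {f | ∀ i : Lane U, M.testBit i.1 = false → f i = 0}
  add_mem' {f g} hf hg i hi := by rw [Pi.add_apply, hf i hi, hg i hi, add_zero]
  zero_mem' _ _ := rfl
  smul_mem' c f hf i hi := by rw [Pi.smul_apply, hf i hi, smul_zero]

theorem E_supp {M : ℕ} {l : Ltr} (h : fol l.prog M M = true) {f : V} (hf : f ∈ supp M) : E l f ∈ supp M := by
  intro i hi
  have h1 : Cfsg.Agent.Monster.VecSpace.ind ℚ M (ext ℚ U f) = ext ℚ U f := by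
    funext j
    unfold Cfsg.Agent.Monster.VecSpace.ind
    by_cases h2 : M.testBit j = true
    · rw [if_pos h2]
    · rw [if_neg h2]
      by_cases h3 : U.testBit j = true
      · rw [ext_apply_of_true ℚ h3, hf ⟨j, h3⟩ (by simpa using h2)]
      · rw [ext_apply_of_not ℚ h3]
  have h2 := ind_sem ℚ (good_prog l).ok h (ext ℚ U f)
  rw [h1] at h2
  rw [E_apply]
  show sem ℚ l.prog (ext ℚ U f) i.1 = 0
  rw [← h2]
  unfold Cfsg.Agent.Monster.VecSpace.ind
  rw [if_neg (by rw [hi]; simp)]

theorem map_supp {M : ℕ} {g : V ≃ₗ[ℚ] V} (h : ∀ f ∈ supp M, g f ∈ supp M) :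
    ∀ f ∈ supp M, g⁻¹ f ∈ supp M := by
  have h1 : (supp M).map (g : V →ₗ[ℚ] V) = supp M := by
    apply Submodule.eq_of_le_of_finrank_eq
    · rintro _ ⟨f, hf, rfl⟩
      exact h f hf
    · exact LinearEquiv.finrank_map_eq g _
  intro f hf
  rw [← h1] at hf
  obtain ⟨f', hf', rfl⟩ := hf
  have : g⁻¹ ((g : V →ₗ[ℚ] V) f') = f' := g.symm_apply_apply f'
  rw [this]; exact hf'

theorem N0_supp : ∀ d ∈ N0, ∀ f ∈ supp maskY, d f ∈ supp maskY := by
  intro d hd
  induction hd using Subgroup.closure_induction with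
  | mem s hs =>
    obtain ⟨l, hl, rfl⟩ := hs
    intro f hf
    apply E_supp _ hf
    cases l
    case X0 => decide +kernel
    case X1 => decide +kernel
    case X2 => decide +kernel
    case X3 => decide +kernel
    case X4 => decide +kernel
    case X5 => decide +kernel
    case X6 => decide +kernel
    case X7 => decide +kernel
    case X8 => decide +kernel
    case X9 => decide +kernel
    case Z0 => decide +kernel
    case Z1 => decide +kernel
    case Z2 => decide +kernel
    case Z3 => decide +kernel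
    case Z4 => decide +kernel
    case Z5 => decide +kernel
    case Z6 => decide +kernel
    case Z7 => decide +kernel
    case Z8 => decide +kernel
    case Z9 => decide +kernel
    case Z10 => decide +kernel
    case y1 => decide +kernel
    case y2 => decide +kernel
    case y3 => decide +kernel
    case y4 => decide +kernel
    case y5 => decide +kernel
    case y6 => decide +kernel
    case y7 => decide +kernel
    case y8 => decide +kernel
    case y9 => decide +kernel
    case y10 => decide +kernel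
    case p => decide +kernel
    case h => decide +kernel
    all_goals exact absurd (show false = true from hl) (by simp)
  | one => intro f hf; exact hf
  | mul a b _ _ ha hb => intro f hf; exact ha _ (hb f hf)
  | inv a _ ha => exact map_supp ha

/-- The unit vector of a lane. -/
noncomputable def uv (k : ℕ) : V := vecU ℚ U (.cons (Nat.shiftLeft 1 k) (.sgn 0))

theorem uv_apply (k : ℕ) (i : Lane U) : uv k i = if i.1 = k then 1 else 0 := by
  show ((val (.cons (1 <<< k) (.sgn 0)) i.1 : ℤ) : ℚ) = _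
  rw [val_cons, val_sgn]
  unfold bt
  have h1 : (1 <<< k : ℕ).testBit i.1 = decide (i.1 = k) := by
    rw [Nat.shiftLeft_eq, one_mul, Nat.testBit_two_pow]
    simp [eq_comm]
  rw [h1]
  by_cases h : i.1 = k <;> simp [h]

/-- The lane `k`. -/
def ln (k : ℕ) (h : U.testBit k = true) : Lane U := ⟨k, h⟩

theorem uv_self {k : ℕ} (h : U.testBit k = true) : uv k (ln k h) = 1 := by rw [uv_apply]; exact if_pos rfl

theorem e_not : E .X10 ∉ N0 := by
  intro h
  have h1 : uv 4096 ∈ supp maskY := by
    intro i hi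
    rw [uv_apply, if_neg]
    intro h2
    rw [h2] at hi
    exact absurd hi (by decide +kernel)
  have h2 := N0_supp _ h _ h1 (ln 5120 (by decide +kernel)) (by decide +kernel)
  have h3 : E .X10 (uv 4096) = uv 5120 := by
    have : W [.X10] (uv 4096) = W [] (uv 5120) := W_eq_of_check (by decide +kernel)
    rwa [W_single] at this
  rw [h3, uv_self] at h2
  exact one_ne_zero h2

theorem tauData : Cfsg.Agent.MonsterX.CertOrb.TauData N N0 τ (E .X10) where
  le := N0_le_N
  e_mem := mem_N rfl
  e_not := e_not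
  cosets := cosets
  conj := tau_conj
  conj' := tau_conj'
  inv := e_inv

/-! ### The fields of `BOrbit` about `τ` -/

theorem τ_z : τ * z * τ⁻¹ ∈ Q := by rw [τ_z_eq]; exact E_mem_Q rfl

theorem τ_z_ne : τ * z * τ⁻¹ ≠ z := by
  rw [τ_z_eq]
  intro h
  have h1 : E .Z10 (uv 4096) = uv 4096 := by
    have : W [.Z10] (uv 4096) = W [] (uv 4096) := W_eq_of_check (by decide +kernel)
    rwa [W_single] at this
  have h2 : z (uv 5120) = E .Z10 (uv 5120) := by rw [h]
  have h3 : z (uv 4096) = - uv 4096 := by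
    have : W [.z] (uv 4096) = W [] (vecU ℚ U (.cons (Nat.shiftLeft 1 4096) (.sgn (Nat.shiftLeft 1 4096)))) :=
      W_eq_of_check (by decide +kernel)
    rw [W_single, W_nil] at this
    rw [show z = E .z from rfl, this]
    funext i
    rw [Pi.neg_apply, uv_apply]
    show ((val (.cons (1 <<< 4096) (.sgn (1 <<< 4096))) i.1 : ℤ) : ℚ) = _
    rw [val_cons, val_sgn]
    unfold bt
    have h1 : (1 <<< 4096 : ℕ).testBit i.1 = decide (i.1 = 4096) := by
      rw [Nat.shiftLeft_eq, one_mul, Nat.testBit_two_pow]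
      simp [eq_comm]
    rw [h1]
    by_cases h : i.1 = 4096 <;> simp [h]
  rw [h, h3] at h1
  have h4 : - uv 4096 (ln 4096 (by decide +kernel)) = uv 4096 (ln 4096 (by decide +kernel)) :=
    congrFun h1 (ln 4096 (by decide +kernel))
  rw [uv_self] at h4
  norm_num at h4

theorem Q_head {k : ℕ} (hk : ∀ l : Ltr, l.isQ = true → E l (uv k) = uv k) : ∀ q ∈ Q, q (uv k) = uv k := by
  intro q hq
  induction hq using Subgroup.closure_induction with
  | mem s hs =>
    obtain ⟨l, hl, rfl⟩ := hs
    exact hk l hl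
  | one => rfl
  | mul a b _ _ ha hb => rw [LinearEquiv.mul_apply, hb, ha]
  | inv a _ ha =>
    have : a⁻¹ (a (uv k)) = uv k := a.symm_apply_apply _
    rwa [ha] at this

theorem Q_A1 : ∀ q ∈ Q, q (uv 1345) = uv 1345 := by
  apply Q_head
  intro l hl
  cases l
  case X0 =>
    have : W [.X0] (uv 1345) = W [] (uv 1345) := W_eq_of_check (by decide +kernel)
    rwa [W_single] at this
  case X1 =>
    have : W [.X1] (uv 1345) = W [] (uv 1345) := W_eq_of_check (by decide +kernel)
    rwa [W_single] at this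
  case X2 =>
    have : W [.X2] (uv 1345) = W [] (uv 1345) := W_eq_of_check (by decide +kernel)
    rwa [W_single] at this
  case X3 =>
    have : W [.X3] (uv 1345) = W [] (uv 1345) := W_eq_of_check (by decide +kernel)
    rwa [W_single] at this
  case X4 =>
    have : W [.X4] (uv 1345) = W [] (uv 1345) := W_eq_of_check (by decide +kernel)
    rwa [W_single] at this
  case X5 =>
    have : W [.X5] (uv 1345) = W [] (uv 1345) := W_eq_of_check (by decide +kernel)
    rwa [W_single] at this
  case X6 =>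
    have : W [.X6] (uv 1345) = W [] (uv 1345) := W_eq_of_check (by decide +kernel)
    rwa [W_single] at this
  case X7 =>
    have : W [.X7] (uv 1345) = W [] (uv 1345) := W_eq_of_check (by decide +kernel)
    rwa [W_single] at this
  case X8 =>
    have : W [.X8] (uv 1345) = W [] (uv 1345) := W_eq_of_check (by decide +kernel)
    rwa [W_single] at this
  case X9 =>
    have : W [.X9] (uv 1345) = W [] (uv 1345) := W_eq_of_check (by decide +kernel)
    rwa [W_single] at this
  case X10 =>
    have : W [.X10] (uv 1345) = W [] (uv 1345) := W_eq_of_check (by decide +kernel)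
    rwa [W_single] at this
  case Z0 =>
    have : W [.Z0] (uv 1345) = W [] (uv 1345) := W_eq_of_check (by decide +kernel)
    rwa [W_single] at this
  case Z1 =>
    have : W [.Z1] (uv 1345) = W [] (uv 1345) := W_eq_of_check (by decide +kernel)
    rwa [W_single] at this
  case Z2 =>
    have : W [.Z2] (uv 1345) = W [] (uv 1345) := W_eq_of_check (by decide +kernel)
    rwa [W_single] at this
  case Z3 =>
    have : W [.Z3] (uv 1345) = W [] (uv 1345) := W_eq_of_check (by decide +kernel)
    rwa [W_single] at this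
  case Z4 =>
    have : W [.Z4] (uv 1345) = W [] (uv 1345) := W_eq_of_check (by decide +kernel)
    rwa [W_single] at this
  case Z5 =>
    have : W [.Z5] (uv 1345) = W [] (uv 1345) := W_eq_of_check (by decide +kernel)
    rwa [W_single] at this
  case Z6 =>
    have : W [.Z6] (uv 1345) = W [] (uv 1345) := W_eq_of_check (by decide +kernel)
    rwa [W_single] at this
  case Z7 =>
    have : W [.Z7] (uv 1345) = W [] (uv 1345) := W_eq_of_check (by decide +kernel)
    rwa [W_single] at this
  case Z8 =>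
    have : W [.Z8] (uv 1345) = W [] (uv 1345) := W_eq_of_check (by decide +kernel)
    rwa [W_single] at this
  case Z9 =>
    have : W [.Z9] (uv 1345) = W [] (uv 1345) := W_eq_of_check (by decide +kernel)
    rwa [W_single] at this
  case Z10 =>
    have : W [.Z10] (uv 1345) = W [] (uv 1345) := W_eq_of_check (by decide +kernel)
    rwa [W_single] at this
  all_goals exact absurd (show false = true from hl) (by simp)

theorem y1_not_mem : E .y1 ∉ Q := by
  intro h
  have h1 := Q_A1 _ h
  have h2 : E .y1 (uv 1345) = vecU ℚ U (.cons (Nat.shiftLeft 1 1345) (.sgn (Nat.shiftLeft 1 1345))) := by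
    have : W [.y1] (uv 1345) = W [] (vecU ℚ U (.cons (Nat.shiftLeft 1 1345) (.sgn (Nat.shiftLeft 1 1345)))) :=
      W_eq_of_check (by decide +kernel)
    rwa [W_single] at this
  rw [h1] at h2
  have h3 := congrFun h2 (ln 1345 (by decide +kernel))
  rw [uv_self] at h3
  have h4 : vecU ℚ U (.cons (Nat.shiftLeft 1 1345) (.sgn (Nat.shiftLeft 1 1345)))
      (ln 1345 (by decide +kernel)) = -1 := by
    show ((val (.cons (1 <<< 1345) (.sgn (1 <<< 1345))) 1345 : ℤ) : ℚ) = _
    rw [val_cons, val_sgn]
    unfold bt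
    have h1 : (1 <<< 1345 : ℕ).testBit 1345 = true := by
      rw [Nat.shiftLeft_eq, one_mul, Nat.testBit_two_pow]
      simp
    rw [h1]
    norm_num
  rw [h4] at h3
  norm_num at h3

theorem τ_q : ∃ q ∈ Q, τ * q * τ⁻¹ ∈ C ∧ τ * q * τ⁻¹ ∉ Q := by
  refine ⟨E .X0, E_mem_Q rfl, ?_⟩
  rw [conj_of ConcRelT.tau_X0, W_single]
  exact ⟨E_mem_C rfl, y1_not_mem⟩

theorem τ_inv : ∃ s ∈ C, s * τ * s⁻¹ * τ ∈ C := by
  refine ⟨E .X10, E_mem_C rfl, ?_⟩
  rw [e_inv, inv_mul_cancel]
  exact C.one_mem

/-! ### The group `G` -/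

/-- The group generated by `C` and `τ`. -/
noncomputable def G : Subgroup (V ≃ₗ[ℚ] V) := Subgroup.closure ((C : Set (V ≃ₗ[ℚ] V)) ∪ {τ})

theorem C_le_G : C ≤ G := fun _ h => Subgroup.subset_closure (Or.inl h)

theorem τ_mem_G : τ ∈ G := Subgroup.subset_closure (Or.inr rfl)

theorem mem_G (l : Ltr) : E l ∈ G := by
  by_cases h : inC l = true
  · exact C_le_G (mem_C h)
  · cases l <;> first
      | exact absurd rfl h
      | exact τ_mem_G
      | (rw [E_taui]; exact G.inv_mem τ_mem_G)

theorem W_mem_G (v : List Ltr) : W v ∈ G := W_mem fun l _ => mem_G l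

end Cfsg.Agent.BabyM.ConcGrp
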