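import Cfsg.Agent.BabyM.KQ
import Cfsg.Agent.BabyM.ConcEq
import Cfsg.Agent.BabyM.KRowData
set_option linter.all false

/-! Conjugates of the Pauli letters under p, h (helper235). -/

set_option autoImplicit false

namespace Cfsg.Agent.BabyM.KRelP

open Cfsg.Agent.Monster.PauliBits Cfsg.Agent.BabyM.Conc Cfsg.Agent.BabyM.ConcEq Cfsg.Agent.BabyM.KTab
open Cfsg.Agent.BabyM.KRow Cfsg.Agent.BabyM.KRowData Cfsg.Agent.BabyM.KQ

theorem p_0 : W [.Z0, .p] = W [.p, .Z0, .Z1, .Z3, .Z6, .Z8] :=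
  eqM (by decide +kernel)

theorem p_1 : W [.Z1, .p] = W [.p, .Z0, .Z1, .Z4, .Z5, .Z7, .Z8] :=
  eqM (by decide +kernel)

theorem p_2 : W [.Z2, .p] = W [.p, .Z2, .Z3, .Z6, .Z7, .Z9] :=
  eqM (by decide +kernel)

theorem p_3 : W [.Z3, .p] = W [.p, .Z1, .Z3, .Z4, .Z6, .Z7, .Z8, .Z9] :=
  eqM (by decide +kernel)

theorem p_4 : W [.Z4, .p] = W [.p, .Z0, .Z2, .Z3, .Z4, .Z8, .Z9] :=
  eqM (by decide +kernel)

theorem p_5 : W [.Z5, .p] = W [.p, .Z0] :=
  eqM (by decide +kernel)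

theorem p_6 : W [.Z6, .p] = W [.p, .Z2] :=
  eqM (by decide +kernel)

theorem p_7 : W [.Z7, .p] = W [.p, .Z4] :=
  eqM (by decide +kernel)

theorem p_8 : W [.Z8, .p] = W [.p, .Z6] :=
  eqM (by decide +kernel)

theorem p_9 : W [.Z9, .p] = W [.p, .Z8] :=
  eqM (by decide +kernel)

theorem p_10 : W [.Z10, .p] = W [.p, .Z10] :=
  eqM (by decide +kernel)

theorem p_11 : W [.X0, .p] = W [.p, .Z4, .Z5, .X3, .X9] :=
  eqM (by decide +kernel)

theorem p_12 : W [.X1, .p] = W [.p, .Z3, .X5] :=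
  eqM (by decide +kernel)

theorem p_13 : W [.X2, .p] = W [.p, .Z1, .Z5, .Z6, .Z7, .Z8, .X1, .X3, .X7, .X9] :=
  eqM (by decide +kernel)

theorem p_14 : W [.X3, .p] = W [.p, .Z0, .Z3, .Z4, .Z5, .Z7, .Z8, .X1, .X3, .X5, .X9] :=
  eqM (by decide +kernel)

theorem p_15 : W [.X4, .p] = W [.p, .Z1, .Z3, .Z6, .Z8, .X5, .X7, .X9] :=
  eqM (by decide +kernel)

theorem p_16 : W [.X5, .p] = W [.p, .Z3, .Z4, .Z5, .Z7, .Z9, .X0, .X3, .X7] :=
  eqM (by decide +kernel)

theorem p_17 : W [.X6, .p] = W [.p, .Z3, .Z5, .Z6, .Z7, .X1, .X2, .X3, .X5] :=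
  eqM (by decide +kernel)

theorem p_18 : W [.X7, .p] = W [.p, .Z0, .Z1, .Z3, .Z4, .Z5, .Z8, .Z9, .X1, .X3, .X4, .X5, .X7] :=
  eqM (by decide +kernel)

theorem p_19 : W [.X8, .p] = W [.p, .Z1, .Z2, .Z3, .Z4, .Z5, .Z6, .Z7, .Z8, .X3, .X5, .X6, .X7, .X9] :=
  eqM (by decide +kernel)

theorem p_20 : W [.X9, .p] = W [.p, .Z4, .Z7, .Z9, .X1, .X5, .X7, .X8, .X9] :=
  eqM (by decide +kernel)

theorem p_21 : W [.X10, .p] = W [.p, .X10] :=
  eqM (by decide +kernel)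

theorem rel_p : ∀ k < 22, E .p * Cd.R (dec 11 (2 ^ k)) = Cd.R (dec 11 (im I_p k)) * E .p := by
  intro k hk
  interval_cases k
  · exact rel_R (v := [.Z0, .Z1, .Z3, .Z6, .Z8]) (by norm_num) (by decide) (by decide +kernel) p_0
  · exact rel_R (v := [.Z0, .Z1, .Z4, .Z5, .Z7, .Z8]) (by norm_num) (by decide) (by decide +kernel) p_1
  · exact rel_R (v := [.Z2, .Z3, .Z6, .Z7, .Z9]) (by norm_num) (by decide) (by decide +kernel) p_2
  · exact rel_R (v := [.Z1, .Z3, .Z4, .Z6, .Z7, .Z8, .Z9]) (by norm_num) (by decide) (by decide +kernel) p_3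
  · exact rel_R (v := [.Z0, .Z2, .Z3, .Z4, .Z8, .Z9]) (by norm_num) (by decide) (by decide +kernel) p_4
  · exact rel_R (v := [.Z0]) (by norm_num) (by decide) (by decide +kernel) p_5
  · exact rel_R (v := [.Z2]) (by norm_num) (by decide) (by decide +kernel) p_6
  · exact rel_R (v := [.Z4]) (by norm_num) (by decide) (by decide +kernel) p_7
  · exact rel_R (v := [.Z6]) (by norm_num) (by decide) (by decide +kernel) p_8
  · exact rel_R (v := [.Z8]) (by norm_num) (by decide) (by decide +kernel) p_9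
  · exact rel_R (v := [.Z10]) (by norm_num) (by decide) (by decide +kernel) p_10
  · exact rel_R (v := [.Z4, .Z5, .X3, .X9]) (by norm_num) (by decide) (by decide +kernel) p_11
  · exact rel_R (v := [.Z3, .X5]) (by norm_num) (by decide) (by decide +kernel) p_12
  · exact rel_R (v := [.Z1, .Z5, .Z6, .Z7, .Z8, .X1, .X3, .X7, .X9]) (by norm_num) (by decide) (by decide +kernel) p_13
  · exact rel_R (v := [.Z0, .Z3, .Z4, .Z5, .Z7, .Z8, .X1, .X3, .X5, .X9]) (by norm_num) (by decide) (by decide +kernel) p_14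
  · exact rel_R (v := [.Z1, .Z3, .Z6, .Z8, .X5, .X7, .X9]) (by norm_num) (by decide) (by decide +kernel) p_15
  · exact rel_R (v := [.Z3, .Z4, .Z5, .Z7, .Z9, .X0, .X3, .X7]) (by norm_num) (by decide) (by decide +kernel) p_16
  · exact rel_R (v := [.Z3, .Z5, .Z6, .Z7, .X1, .X2, .X3, .X5]) (by norm_num) (by decide) (by decide +kernel) p_17
  · exact rel_R (v := [.Z0, .Z1, .Z3, .Z4, .Z5, .Z8, .Z9, .X1, .X3, .X4, .X5, .X7]) (by norm_num) (by decide) (by decide +kernel) p_18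
  · exact rel_R (v := [.Z1, .Z2, .Z3, .Z4, .Z5, .Z6, .Z7, .Z8, .X3, .X5, .X6, .X7, .X9]) (by norm_num) (by decide) (by decide +kernel) p_19
  · exact rel_R (v := [.Z4, .Z7, .Z9, .X1, .X5, .X7, .X8, .X9]) (by norm_num) (by decide) (by decide +kernel) p_20
  · exact rel_R (v := [.X10]) (by norm_num) (by decide) (by decide +kernel) p_21

theorem h_0 : W [.Z0, .h] = W [.h, .Z0] :=
  eqM (by decide +kernel)

theorem h_1 : W [.Z1, .h] = W [.h, .Z1, .Z3, .Z4, .Z6, .Z7, .Z8, .Z9] :=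
  eqM (by decide +kernel)

theorem h_2 : W [.Z2, .h] = W [.h, .Z2, .Z3, .Z6, .Z7, .Z9] :=
  eqM (by decide +kernel)

theorem h_3 : W [.Z3, .h] = W [.h, .Z7] :=
  eqM (by decide +kernel)

theorem h_4 : W [.Z4, .h] = W [.h, .Z8] :=
  eqM (by decide +kernel)

theorem h_5 : W [.Z5, .h] = W [.h, .Z5] :=
  eqM (by decide +kernel)

theorem h_6 : W [.Z6, .h] = W [.h, .Z9] :=
  eqM (by decide +kernel)

theorem h_7 : W [.Z7, .h] = W [.h, .Z3] :=
  eqM (by decide +kernel)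

theorem h_8 : W [.Z8, .h] = W [.h, .Z4] :=
  eqM (by decide +kernel)

theorem h_9 : W [.Z9, .h] = W [.h, .Z6] :=
  eqM (by decide +kernel)

theorem h_10 : W [.Z10, .h] = W [.h, .Z10] :=
  eqM (by decide +kernel)

theorem h_11 : W [.X0, .h] = W [.h, .X0] :=
  eqM (by decide +kernel)

theorem h_12 : W [.X1, .h] = W [.h, .X1] :=
  eqM (by decide +kernel)

theorem h_13 : W [.X2, .h] = W [.h, .Z3, .Z4, .Z6, .Z7, .Z8, .Z9, .X2] :=
  eqM (by decide +kernel)

theorem h_14 : W [.X3, .h] = W [.h, .Z2, .Z5, .Z6, .Z7, .Z8, .Z9, .X1, .X2, .X7] :=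
  eqM (by decide +kernel)

theorem h_15 : W [.X4, .h] = W [.h, .Z2, .Z6, .X1, .X8] :=
  eqM (by decide +kernel)

theorem h_16 : W [.X5, .h] = W [.h, .Z3, .Z7, .X5] :=
  eqM (by decide +kernel)

theorem h_17 : W [.X6, .h] = W [.h, .Z2, .Z3, .Z4, .Z7, .Z8, .Z9, .X1, .X2, .X9] :=
  eqM (by decide +kernel)

theorem h_18 : W [.X7, .h] = W [.h, .Z2, .Z3, .Z5, .Z6, .Z8, .Z9, .X1, .X2, .X3] :=
  eqM (by decide +kernel)

theorem h_19 : W [.X8, .h] = W [.h, .Z2, .Z3, .Z6, .Z7, .X1, .X4] :=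
  eqM (by decide +kernel)

theorem h_20 : W [.X9, .h] = W [.h, .Z2, .Z3, .Z6, .Z7, .X1, .X2, .X6] :=
  eqM (by decide +kernel)

theorem h_21 : W [.X10, .h] = W [.h, .X10] :=
  eqM (by decide +kernel)

theorem rel_h : ∀ k < 22, E .h * Cd.R (dec 11 (2 ^ k)) = Cd.R (dec 11 (im I_h k)) * E .h := by
  intro k hk
  interval_cases k
  · exact rel_R (v := [.Z0]) (by norm_num) (by decide) (by decide +kernel) h_0
  · exact rel_R (v := [.Z1, .Z3, .Z4, .Z6, .Z7, .Z8, .Z9]) (by norm_num) (by decide) (by decide +kernel) h_1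
  · exact rel_R (v := [.Z2, .Z3, .Z6, .Z7, .Z9]) (by norm_num) (by decide) (by decide +kernel) h_2
  · exact rel_R (v := [.Z7]) (by norm_num) (by decide) (by decide +kernel) h_3
  · exact rel_R (v := [.Z8]) (by norm_num) (by decide) (by decide +kernel) h_4
  · exact rel_R (v := [.Z5]) (by norm_num) (by decide) (by decide +kernel) h_5
  · exact rel_R (v := [.Z9]) (by norm_num) (by decide) (by decide +kernel) h_6
  · exact rel_R (v := [.Z3]) (by norm_num) (by decide) (by decide +kernel) h_7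
  · exact rel_R (v := [.Z4]) (by norm_num) (by decide) (by decide +kernel) h_8
  · exact rel_R (v := [.Z6]) (by norm_num) (by decide) (by decide +kernel) h_9
  · exact rel_R (v := [.Z10]) (by norm_num) (by decide) (by decide +kernel) h_10
  · exact rel_R (v := [.X0]) (by norm_num) (by decide) (by decide +kernel) h_11
  · exact rel_R (v := [.X1]) (by norm_num) (by decide) (by decide +kernel) h_12
  · exact rel_R (v := [.Z3, .Z4, .Z6, .Z7, .Z8, .Z9, .X2]) (by norm_num) (by decide) (by decide +kernel) h_13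
  · exact rel_R (v := [.Z2, .Z5, .Z6, .Z7, .Z8, .Z9, .X1, .X2, .X7]) (by norm_num) (by decide) (by decide +kernel) h_14
  · exact rel_R (v := [.Z2, .Z6, .X1, .X8]) (by norm_num) (by decide) (by decide +kernel) h_15
  · exact rel_R (v := [.Z3, .Z7, .X5]) (by norm_num) (by decide) (by decide +kernel) h_16
  · exact rel_R (v := [.Z2, .Z3, .Z4, .Z7, .Z8, .Z9, .X1, .X2, .X9]) (by norm_num) (by decide) (by decide +kernel) h_17
  · exact rel_R (v := [.Z2, .Z3, .Z5, .Z6, .Z8, .Z9, .X1, .X2, .X3]) (by norm_num) (by decide) (by decide +kernel) h_18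
  · exact rel_R (v := [.Z2, .Z3, .Z6, .Z7, .X1, .X4]) (by norm_num) (by decide) (by decide +kernel) h_19
  · exact rel_R (v := [.Z2, .Z3, .Z6, .Z7, .X1, .X2, .X6]) (by norm_num) (by decide) (by decide +kernel) h_20
  · exact rel_R (v := [.X10]) (by norm_num) (by decide) (by decide +kernel) h_21

end Cfsg.Agent.BabyM.KRelP
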