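import Cfsg.Agent.BabyM.Inst
set_option linter.all false

/-!
# The concrete model: the central involution and the representatives of the axes

The fields `z_d` (from the description of the `2300`-part) and `exists_moved` of `BOrbit`.
-/

set_option autoImplicit false

namespace Cfsg.Agent.BabyM.InstZ

open Cfsg.Agent.Monster.VecEngine Cfsg.Agent.Monster.VecSpace Cfsg.Agent.BabyM.Conc
  Cfsg.Agent.BabyM.InstVec Cfsg.Agent.BabyM.Model Cfsg.Agent.BabyM.Inst

/-- the mask of the lanes of the spin part -/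
def mSpin : ℕ := (2 ^ 2048 - 1) <<< 4096

/-- the mask of the lanes of the `23`-part -/
def mHead : ℕ := (2 ^ 23 - 1) <<< 1344

theorem neg_congr {a b : ℕ} (h : Nat.beq a b = true) : Prog.neg a .nil = Prog.neg b .nil := by
  rw [Nat.eq_of_beq_eq_true h]

theorem gz_eq : gz = .neg mSpin .nil := by
  unfold gz
  exact neg_congr (by decide +kernel)

theorem z_apply (f : V) (i : Lane U) : z f i = if mSpin.testBit i.1 then - f i else f i := by
  show E .z f i = _
  rw [E_apply]
  show (res ℚ U (sem ℚ gz (ext ℚ U f))) i = _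
  rw [gz_eq, res_apply]
  show (if mSpin.testBit i.1 then - ext ℚ U f i.1 else ext ℚ U f i.1) = _
  rw [ext_coe]

/-- a vector with a nonzero entry in the spin part is moved by `z` -/
theorem z_ne {f : V} (i : Lane U) (hi : mSpin.testBit i.1 = true) (hf : f i ≠ 0) : z f ≠ f := by
  intro h
  have h1 := congrFun h i
  rw [z_apply, if_pos hi] at h1
  apply hf
  linarith

theorem d_apply (j : Fin 5) (i : Lane U) : d j i = 1 / 8 * ((val (dv j) i.1 : ℤ) : ℚ) := rfl

theorem d_ne (j : Fin 5) (i : Lane U) (h : val (dv j) i.1 ≠ 0) : d j i ≠ 0 := by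
  rw [d_apply]
  exact mul_ne_zero (by norm_num) (Int.cast_ne_zero.2 h)

/-- a spin lane -/
def laneS2 : Lane U := ⟨4985, by decide +kernel⟩

/-- a spin lane -/
def laneS3 : Lane U := ⟨4110, by decide +kernel⟩

/-- a spin lane -/
def laneS4 : Lane U := ⟨4141, by decide +kernel⟩

theorem z_d2 : z (d 2) ≠ d 2 :=
  z_ne laneS2 (show mSpin.testBit 4985 = true by decide +kernel)
    (d_ne 2 laneS2 (show val dv2 4985 ≠ 0 by decide +kernel))

theorem z_d3 : z (d 3) ≠ d 3 :=
  z_ne laneS3 (show mSpin.testBit 4110 = true by decide +kernel)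
    (d_ne 3 laneS3 (show val dv3 4110 ≠ 0 by decide +kernel))

theorem z_d4 : z (d 4) ≠ d 4 :=
  z_ne laneS4 (show mSpin.testBit 4141 = true by decide +kernel)
    (d_ne 4 laneS4 (show val dv4 4141 ≠ 0 by decide +kernel))

theorem d1_head (i : Lane U) (hi : mHead.testBit i.1 = true) : d 1 i = 0 := by
  rw [d_apply]
  have h : norm (msk mHead (dv 1)) = .sgn 0 :=
    eq_of_eqP (show eqP (norm (msk mHead dv1)) (.sgn 0) = true by decide +kernel)
  have h1 : val (norm (msk mHead (dv 1))) i.1 = 0 := by rw [h, val_sgn, bt_zero, neg_zero]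
  rw [val_norm, val_msk, if_pos hi] at h1
  rw [h1]
  norm_num

/-- field `z_d` of `BOrbit`, from the description of the `2300`-part -/
theorem z_d (hE : ∀ x : V, M.z x = x → (∀ i : Lane U, mHead.testBit i.1 = true → x i = 0) → x ∈ M.E) :
    ∀ j, M.z (M.d j) = M.d j → j = M.j₀ ∨ M.d j ∈ M.E := by
  intro j
  change Fin 5 at j
  intro h
  fin_cases j
  · exact Or.inl rfl
  · exact Or.inr (hE _ h d1_head)
  · exact absurd h z_d2
  · exact absurd h z_d3
  · exact absurd h z_d4

theorem vecU_neg (x : Pl) : vecU ℚ U (neg U x) = - vecU ℚ U x := by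
  funext i
  show ((val (neg U x) i.1 : ℤ) : ℚ) = - ((val x i.1 : ℤ) : ℚ)
  rw [val_neg, if_pos i.2]
  push_cast
  rfl

/-- words in the letters of `C` -/
theorem W_mem_C {v : List Ltr} (h : ∀ l ∈ v, E l ∈ C) : W v ∈ C := by
  induction v with
  | nil => exact C.one_mem
  | cons l v ih =>
    rw [W_cons]
    exact C.mul_mem (ih fun m hm => h m (by simp [hm])) (h l (by simp))

/-- the inner product with the base axis -/
theorem F_d₀ (f : V) : F f (u₀ + e₀) = 1 / 4 * f laneI - 1 / 2 * f laneA + 1 / 2 * f laneB := by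
  rw [map_add, u₀_eq, e₀_eq, map_add, F_single, F_single, F_single]
  show 1 / 16 * ((2 : ℚ) ^ (-(val wt 1344)) * f laneI * 4) +
    1 / 16 * ((2 : ℚ) ^ (-(val wt 1345)) * f laneA * -4) +
    1 / 16 * ((2 : ℚ) ^ (-(val wt 1281)) * f laneB * 8) = _
  rw [wt_I, wt_A, wt_B]
  norm_num
  ring

theorem F_d2 : F (d 2) (u₀ + e₀) = 1 := by
  rw [F_d₀, d_apply, d_apply, d_apply]
  have h1 : val (dv 2) laneI.1 = 16 := show val dv2 1344 = 16 by decide +kernel
  have h2 : val (dv 2) laneA.1 = 0 := show val dv2 1345 = 0 by decide +kernel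
  have h3 : val (dv 2) laneB.1 = 8 := show val dv2 1281 = 8 by decide +kernel
  rw [h1, h2, h3]
  norm_num

/-- field `exists_moved` of `BOrbit`; `g₀` is any element of `C` negating the base axis -/
theorem exists_moved_of (g : V ≃ₗ[ℚ] V) (hg : g ∈ C) (hneg : g (u₀ + e₀) = - (u₀ + e₀)) :
    ∃ j, ∃ g ∈ M.C, M.F (g (M.d j)) M.d₀ = -1 ∧ M.z (M.d j) ≠ M.d j := by
  refine ⟨(2 : Fin 5), g, hg, ?_, z_d2⟩
  show F (g (d 2)) (u₀ + e₀) = -1
  have h : u₀ + e₀ = g (- (u₀ + e₀)) := by rw [map_neg, hneg, neg_neg]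
  rw [h, C_isom g hg, map_neg, F_d2]

/-- an element of `C` negating the base axis -/
theorem neg_d₀ : W [.h, .p, .p, .p, .p, .p, .p, .p, .p] (u₀ + e₀) = - (u₀ + e₀) := by
  rw [← d_zero]
  show W [.h, .p, .p, .p, .p, .p, .p, .p, .p] ((1 / 8 : ℚ) • vecU ℚ U dv0) = - ((1 / 8 : ℚ) • vecU ℚ U dv0)
  rw [map_smul, W_eq_of_check (v₂ := []) (x₂ := neg U dv0) (by decide +kernel), W_nil, vecU_neg,
    LinearEquiv.coe_one, id, smul_neg]

theorem negW_mem : W [.h, .p, .p, .p, .p, .p, .p, .p, .p] ∈ C := by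
  apply W_mem_C
  intro l hl
  apply E_mem_C
  simp only [List.mem_cons, List.not_mem_nil, or_false] at hl
  rcases hl with rfl | rfl | rfl | rfl | rfl | rfl | rfl | rfl | rfl <;> rfl

/-- field `exists_moved` of `BOrbit` -/
theorem exists_moved : ∃ j, ∃ g ∈ M.C, M.F (g (M.d j)) M.d₀ = -1 ∧ M.z (M.d j) ≠ M.d j :=
  exists_moved_of _ negW_mem neg_d₀

/-- field `neg` of `BRep` -/
theorem neg : ∃ g ∈ M.C, g M.d₀ = - M.d₀ := ⟨_, negW_mem, neg_d₀⟩

end Cfsg.Agent.BabyM.InstZ
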