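/-
Programs of the vector engine which are monomial on the lanes of a mask `E`: the permutation of the lanes and the
signs are followed by the kernel.
-/
import Cfsg.Agent.Monster.VecSpace
set_option linter.all false

set_option autoImplicit false

namespace Cfsg.Agent.BabyM.STabTrack

open Cfsg.Agent.Lib.PermNet Cfsg.Agent.Monster.VecEngine Cfsg.Agent.Monster.VecSpace

/-- The permutation of lanes of a program. -/
def permOf : Prog → Equiv.Perm ℕ
  | .nil => 1
  | .perm N P => N.perm * permOf P
  | .neg _ P => permOf P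
  | .dbl _ P => permOf P
  | .half P => permOf P
  | .bfly _ _ P => permOf P

/-- The effect of the permutations of a program on a mask. -/
noncomputable def appP (P : Prog) : ℕ → ℕ :=
  Prog.rec (motive := fun _ => ℕ → ℕ)
    (fun x => x)
    (fun N _ ih x => seq (N.app x) ih)
    (fun _ _ ih x => ih x)
    (fun _ _ ih x => ih x)
    (fun _ ih x => ih x)
    (fun _ _ _ ih x => ih x) P

theorem testBit_appP {m : ℕ} {P : Prog} (hP : P.ok m = true) (M i : ℕ) :
    (appP P M).testBit i = M.testBit (permOf P i) := by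
  induction P generalizing M with
  | nil => rfl
  | perm N P ih =>
    have hP' : and (N.ok m) (P.ok m) = true := hP
    rw [Bool.and_eq_true] at hP'
    show (seq (N.app M) (appP P)).testBit i = _
    rw [seq_eq, ih hP'.2, testBit_app hP'.1]
    rfl
  | neg M' P ih => exact ih hP M
  | dbl M' P ih => exact ih hP M
  | half P ih => exact ih hP M
  | bfly M' d P ih =>
    have hP' : and (Net.ok m (.cons M' d .nil)) (P.ok m) = true := hP
    rw [Bool.and_eq_true] at hP'
    exact ih hP'.2 M

theorem permOf_lt {m : ℕ} {P : Prog} (hP : P.ok m = true) {i : ℕ} (hi : i < m) : permOf P i < m := by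
  induction P with
  | nil => exact hi
  | perm N P ih =>
    have hP' : and (N.ok m) (P.ok m) = true := hP
    rw [Bool.and_eq_true] at hP'
    exact perm_lt hP'.1 (ih hP'.2)
  | neg M' P ih => exact ih hP
  | dbl M' P ih => exact ih hP
  | half P ih => exact ih hP
  | bfly M' d P ih =>
    have hP' : and (Net.ok m (.cons M' d .nil)) (P.ok m) = true := hP
    rw [Bool.and_eq_true] at hP'
    exact ih hP'.2

/-- Follow the mask `E`, the signs `s` on `E` and the exponents `a` (doublings), `b` (halvings). -/
noncomputable def trackE (P : Prog) : ℕ → ℕ → ℕ → ℕ → (ℕ → ℕ → ℕ → ℕ → Bool) → Bool :=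
  Prog.rec (motive := fun _ => ℕ → ℕ → ℕ → ℕ → (ℕ → ℕ → ℕ → ℕ → Bool) → Bool)
    (fun E s a b k => k E s a b)
    (fun N _ ih E s a b k => seqB (N.app E) fun E' => seqB (N.app s) fun s' => ih E' s' a b k)
    (fun M _ ih E s a b k => seqB (Nat.xor s (Nat.land M E)) fun s' => ih E s' a b k)
    (fun M _ ih E s a b k => Bool.rec
      (and (Nat.beq (Nat.land M E) E) (ih E s (Nat.succ a) b k)) (ih E s a b k)
      (Nat.beq (Nat.land M E) 0))
    (fun _ ih E s a b k => ih E s a (Nat.succ b) k)
    (fun M d _ ih E s a b k => and (Nat.beq (Nat.land E (Nat.lor M (Nat.shiftLeft M d))) 0) (ih E s a b k)) P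

/-- A sign. -/
def sgQ (b : Bool) : ℚ := if b then -1 else 1

theorem sgQ_xor (a b : Bool) : sgQ (a ^^ b) = sgQ a * sgQ b := by
  cases a <;> cases b <;> simp [sgQ]

theorem sgQ_mul_self (a : Bool) : sgQ a * sgQ a = 1 := by
  cases a <;> simp [sgQ]

theorem trackE_sound {m : ℕ} {P : Prog} (hP : P.ok m = true) {E s a b : ℕ} {k : ℕ → ℕ → ℕ → ℕ → Bool}
    (h : trackE P E s a b k = true) :
    ∃ E' s' a' b', k E' s' a' b' = true ∧ (∀ i, E'.testBit i = E.testBit (permOf P i)) ∧
      ∀ (f : ℕ → ℚ) (i : ℕ), E'.testBit i = true →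
        sem ℚ P f i * ((2 : ℚ) ^ a * 2 ^ b') =
          (2 : ℚ) ^ a' * 2 ^ b * (sgQ (s'.testBit i ^^ s.testBit (permOf P i)) * f (permOf P i)) := by
  induction P generalizing E s a b with
  | nil =>
    refine ⟨E, s, a, b, h, fun i => rfl, fun f i _ => ?_⟩
    change f i * _ = _ * (sgQ (s.testBit i ^^ s.testBit i) * f i)
    rw [Bool.xor_self]
    simp only [sgQ, Bool.false_eq_true, if_false]
    ring
  | perm N P ih =>
    have hP' : and (N.ok m) (P.ok m) = true := hP
    rw [Bool.and_eq_true] at hP'
    have h' : seqB (N.app E) (fun E' => seqB (N.app s) fun s' => trackE P E' s' a b k) = true := h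
    rw [seqB_eq, seqB_eq] at h'
    obtain ⟨E', s', a', b', hk, h1, h2⟩ := ih hP'.2 h'
    refine ⟨E', s', a', b', hk, fun i => ?_, fun f i hi => ?_⟩
    · rw [h1, testBit_app hP'.1]; rfl
    · have := h2 (lcomp ℚ N.perm f) i hi
      rw [testBit_app hP'.1] at this
      exact this
  | neg M P ih =>
    have h' : seqB (Nat.xor s (Nat.land M E)) (fun s' => trackE P E s' a b k) = true := h
    rw [seqB_eq] at h'
    obtain ⟨E', s', a', b', hk, h1, h2⟩ := ih (show P.ok m = true from hP) h'
    refine ⟨E', s', a', b', hk, h1, fun f i hi => ?_⟩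
    have h3 := h2 (lneg ℚ M f) i hi
    have hE : E.testBit (permOf P i) = true := by rw [← h1, hi]
    have h4 : (Nat.xor s (Nat.land M E)).testBit (permOf P i) =
        (s.testBit (permOf P i) ^^ M.testBit (permOf P i)) := by
      show (s ^^^ (M &&& E)).testBit _ = _
      rw [Nat.testBit_xor, Nat.testBit_and, hE, Bool.and_true]
    rw [h4] at h3
    show sem ℚ P (lneg ℚ M f) i * _ = _ * (sgQ (s'.testBit i ^^ s.testBit (permOf P i)) * f (permOf P i))
    rw [h3]
    have h5 : lneg ℚ M f (permOf P i) = sgQ (M.testBit (permOf P i)) * f (permOf P i) := by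
      show (if M.testBit (permOf P i) then - f (permOf P i) else f (permOf P i)) = _
      cases M.testBit (permOf P i) <;> simp [sgQ]
    rw [h5, ← Bool.xor_assoc, sgQ_xor _ (M.testBit (permOf P i))]
    have h6 := sgQ_mul_self (M.testBit (permOf P i))
    linear_combination (2 : ℚ) ^ a' * 2 ^ b * sgQ (s'.testBit i ^^ s.testBit (permOf P i)) * f (permOf P i) * h6
  | dbl M P ih =>
    have h' : (Bool.rec (and (Nat.beq (Nat.land M E) E) (trackE P E s (Nat.succ a) b k))
      (trackE P E s a b k) (Nat.beq (Nat.land M E) 0) : Bool) = true := h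
    cases h0 : Nat.beq (Nat.land M E) 0 with
    | true =>
      rw [h0] at h'
      have hM : M &&& E = 0 := Nat.eq_of_beq_eq_true h0
      obtain ⟨E', s', a', b', hk, h1, h2⟩ := ih (show P.ok m = true from hP) h'
      refine ⟨E', s', a', b', hk, h1, fun f i hi => ?_⟩
      have h3 := h2 (ldbl ℚ M f) i hi
      have hE : E.testBit (permOf P i) = true := by rw [← h1, hi]
      have h4 : M.testBit (permOf P i) = false := by
        have := congrArg (fun x => Nat.testBit x (permOf P i)) hM
        simpa [Nat.testBit_and, hE] using this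
      have h5 : ldbl ℚ M f (permOf P i) = f (permOf P i) := by
        show (if M.testBit (permOf P i) then 2 * f (permOf P i) else f (permOf P i)) = _
        rw [h4]; simp
      rw [h5] at h3
      exact h3
    | false =>
      rw [h0] at h'
      have h'' : and (Nat.beq (Nat.land M E) E) (trackE P E s (Nat.succ a) b k) = true := h'
      rw [Bool.and_eq_true] at h''
      have hM : M &&& E = E := Nat.eq_of_beq_eq_true h''.1
      obtain ⟨E', s', a', b', hk, h1, h2⟩ := ih (show P.ok m = true from hP) h''.2
      refine ⟨E', s', a', b', hk, h1, fun f i hi => ?_⟩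
      have h3 := h2 (ldbl ℚ M f) i hi
      have hE : E.testBit (permOf P i) = true := by rw [← h1, hi]
      have h4 : M.testBit (permOf P i) = true := by
        have := congrArg (fun x => Nat.testBit x (permOf P i)) hM
        simpa [Nat.testBit_and, hE] using this
      have h5 : ldbl ℚ M f (permOf P i) = 2 * f (permOf P i) := by
        show (if M.testBit (permOf P i) then 2 * f (permOf P i) else f (permOf P i)) = _
        rw [h4]; simp
      rw [h5, Nat.succ_eq_add_one, pow_succ] at h3
      show sem ℚ P (ldbl ℚ M f) i * _ = _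
      have h6 : permOf (Prog.dbl M P) i = permOf P i := rfl
      rw [h6]
      have h7 : (2 : ℚ) * (sem ℚ P (ldbl ℚ M f) i * ((2 : ℚ) ^ a * 2 ^ b')) =
          2 * ((2 : ℚ) ^ a' * 2 ^ b * (sgQ (s'.testBit i ^^ s.testBit (permOf P i)) * f (permOf P i))) := by
        linear_combination h3
      exact mul_left_cancel₀ (by norm_num) h7
  | half P ih =>
    obtain ⟨E', s', a', b', hk, h1, h2⟩ := ih (show P.ok m = true from hP)
      (show trackE P E s a (Nat.succ b) k = true from h)
    refine ⟨E', s', a', b', hk, h1, fun f i hi => ?_⟩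
    have h3 := h2 ((2 : ℚ)⁻¹ • f) i hi
    rw [Nat.succ_eq_add_one, pow_succ] at h3
    show sem ℚ P ((2 : ℚ)⁻¹ • f) i * _ = _
    rw [h3]
    have h6 : permOf (Prog.half P) i = permOf P i := rfl
    rw [h6, Pi.smul_apply, smul_eq_mul]
    ring
  | bfly M d P ih =>
    have hP' : and (Net.ok m (.cons M d .nil)) (P.ok m) = true := hP
    rw [Bool.and_eq_true] at hP'
    have h' : and (Nat.beq (Nat.land E (Nat.lor M (Nat.shiftLeft M d))) 0) (trackE P E s a b k) = true := h
    rw [Bool.and_eq_true] at h'
    have hM : E &&& (M ||| (M <<< d)) = 0 := Nat.eq_of_beq_eq_true h'.1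
    obtain ⟨E', s', a', b', hk, h1, h2⟩ := ih hP'.2 h'.2
    refine ⟨E', s', a', b', hk, h1, fun f i hi => ?_⟩
    have h3 := h2 (lbfly ℚ M d f) i hi
    have hE : E.testBit (permOf P i) = true := by rw [← h1, hi]
    have h4 : M.testBit (permOf P i) = false ∧ ¬ (d ≤ permOf P i ∧ M.testBit (permOf P i - d) = true) := by
      have := congrArg (fun x => Nat.testBit x (permOf P i)) hM
      simp only [Nat.testBit_and, hE, Bool.true_and, Nat.testBit_or, Nat.testBit_shiftLeft,
        Nat.zero_testBit] at this
      rw [Bool.or_eq_false_iff] at this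
      refine ⟨this.1, fun hc => ?_⟩
      have h5 := this.2
      rw [hc.2, Bool.and_true, decide_eq_false_iff_not] at h5
      exact h5 hc.1
    have h5 : lbfly ℚ M d f (permOf P i) = f (permOf P i) := by
      show (if M.testBit (permOf P i) then f (permOf P i) + f (permOf P i + d) else
        if d ≤ permOf P i ∧ M.testBit (permOf P i - d) then f (permOf P i - d) - f (permOf P i)
        else f (permOf P i)) = _
      rw [if_neg (by rw [h4.1]; simp), if_neg h4.2]
    rw [h5] at h3
    exact h3

/-- `P` is monomial on `E` with signs `S`. -/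
noncomputable def monoE (P : Prog) (E S : ℕ) : Bool :=
  trackE P E 0 0 0 fun E' s' a' b' => and (and (Nat.beq E' E) (Nat.beq s' S)) (Nat.beq a' b')

theorem monoE_sound {m : ℕ} {P : Prog} (hP : P.ok m = true) {E S : ℕ} (h : monoE P E S = true) :
    (∀ i, E.testBit (permOf P i) = E.testBit i) ∧
      ∀ (f : ℕ → ℚ) (i : ℕ), E.testBit i = true → sem ℚ P f i = sgQ (S.testBit i) * f (permOf P i) := by
  obtain ⟨E', s', a', b', hk, h1, h2⟩ := trackE_sound hP h
  rw [Bool.and_eq_true, Bool.and_eq_true] at hk
  have e1 : E' = E := Nat.eq_of_beq_eq_true hk.1.1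
  have e2 : s' = S := Nat.eq_of_beq_eq_true hk.1.2
  have e3 : a' = b' := Nat.eq_of_beq_eq_true hk.2
  subst e1 e2 e3
  refine ⟨fun i => (h1 i).symm, fun f i hi => ?_⟩
  have h3 := h2 f i hi
  rw [Nat.zero_testBit, Bool.xor_false, pow_zero, one_mul, mul_one] at h3
  have h4 : (2 : ℚ) ^ a' ≠ 0 := pow_ne_zero _ (by norm_num)
  apply mul_right_cancel₀ h4
  linear_combination h3

end Cfsg.Agent.BabyM.STabTrack
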