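/-
Kernel check that a program of the vector engine acts on the families `u i` (coordinates in the `mu.length` lanes from
`hd` on, given by bit planes over `i`) and `e i = c • single i` (`i` a lane of `E`) as a letter of `STabCover`.
-/
import Cfsg.Agent.BabyM.STabCover
set_option linter.all false

set_option autoImplicit false

namespace Cfsg.Agent.BabyM.STabHead

open Cfsg.Agent.Lib.PermNet Cfsg.Agent.Monster.VecEngine Cfsg.Agent.Monster.VecSpace
open Cfsg.Agent.BabyM.STabTrack Cfsg.Agent.BabyM.STabCover

/-! ### The families -/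

/-- Value of the head coordinate number `k` of `u i`. -/
def headVal : List Pl → ℕ → ℕ → ℤ
  | [], _, _ => 0
  | m :: _, 0, i => val m i
  | _ :: ms, k + 1, i => headVal ms k i

/-- The vector `u i` as a function on lanes. -/
def uFun (hd : ℕ) (mu : List Pl) (i : ℕ) : ℕ → ℚ := fun l => if l < hd then 0 else (headVal mu (l - hd) i : ℚ)

/-- The vector `u i`. -/
def uvec (U hd : ℕ) (mu : List Pl) (i : ℕ) : Lane U → ℚ := res ℚ U (uFun hd mu i)

/-- The vector `e i` as a function on lanes. -/
def eFun (c : ℚ) (i : ℕ) : ℕ → ℚ := fun l => if l = i then c else 0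

/-- The vector `e i`. -/
def evec (U : ℕ) (c : ℚ) (i : ℕ) : Lane U → ℚ := res ℚ U (eFun c i)

theorem headVal_of_le : ∀ (mu : List Pl) (k i : ℕ), mu.length ≤ k → headVal mu k i = 0
  | [], _, _, _ => rfl
  | m :: ms, 0, _, h => absurd h (by simp)
  | m :: ms, k + 1, i, h => by
    rw [headVal]
    exact headVal_of_le ms k i (by simpa using h)

/-! ### Basis vectors -/

/-- `2 ^ t` in lane `l`. -/
noncomputable def bas (t l : ℕ) : Pl :=
  Nat.rec (motive := fun _ => Pl) (.cons (Nat.shiftLeft 1 l) (.sgn 0)) (fun _ ih => .cons 0 ih) t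

theorem bt_zero (i : ℕ) : bt 0 i = 0 := by simp [bt]

theorem val_bas (t l i : ℕ) : val (bas t l) i = if i = l then 2 ^ t else 0 := by
  induction t with
  | zero =>
    show bt (1 <<< l) i + 2 * -bt 0 i = _
    rw [bt_zero]
    unfold bt
    rw [Nat.testBit_shiftLeft]
    by_cases h : i = l
    · subst h; simp
    · rw [if_neg h]
      have : (decide (i ≥ l) && Nat.testBit 1 (i - l)) = false := by
        by_cases hl : i ≥ l
        · have h2 : i - l ≠ 0 := by omega
          obtain ⟨d, hd⟩ : ∃ d, i - l = d + 1 := ⟨i - l - 1, by omega⟩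
          rw [hd]
          simp [Nat.testBit_succ]
        · simp [hl]
      rw [this]; simp
  | succ t ih =>
    show bt 0 i + 2 * val (bas t l) i = _
    rw [bt_zero, ih]
    split_ifs
    · ring
    · ring

/-- Run the program on the basis vectors `2 ^ t • single (hd + k)` for `k < n`; the outputs are passed on in the order
`n - 1, …, 0` in front of `acc`. -/
noncomputable def heads (P : Prog) (hd t n : ℕ) : List Pl → (List Pl → Bool) → Bool :=
  Nat.rec (motive := fun _ => List Pl → (List Pl → Bool) → Bool) (fun acc k => k acc)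
    (fun j ih acc k => run P (bas t (Nat.add hd j)) fun y => ih (y :: acc) k) n

/-- The list of outputs for the basis vectors from `hd` on. -/
def Outs (P : Prog) (t : ℕ) : ℕ → List Pl → Prop
  | _, [] => True
  | l, y :: ys => vec ℚ y = sem ℚ P (vec ℚ (bas t l)) ∧ Outs P t (l + 1) ys

theorem heads_sound {m : ℕ} {P : Prog} (hP : P.ok m = true) (hd t : ℕ) :
    ∀ (n : ℕ) (acc : List Pl) (k : List Pl → Bool), Outs P t (hd + n) acc → heads P hd t n acc k = true →
      ∃ ys, ys.length = n + acc.length ∧ Outs P t hd ys ∧ k ys = true := by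
  intro n
  induction n with
  | zero => intro acc k h1 h2; exact ⟨acc, by simp, h1, h2⟩
  | succ n ih =>
    intro acc k h1 h2
    have h2' : run P (bas t (hd + n)) (fun y => heads P hd t n (y :: acc) k) = true := h2
    obtain ⟨y, hy, h3⟩ := run_sound ℚ (by norm_num) P hP _ _ h2'
    obtain ⟨ys, h4, h5, h6⟩ := ih (y :: acc) k ⟨hy, h1⟩ h3
    exact ⟨ys, by rw [h4, List.length_cons]; omega, h5, h6⟩

/-! ### Linear combinations -/

/-- `∑ (val mu_k j) (val y_k l)`. -/
def lin : List Pl → List Pl → ℕ → ℕ → ℤ
  | m :: ms, y :: ys, j, l => val m j * val y l + lin ms ys j l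
  | _, _, _, _ => 0

theorem sem_uFun {P : Prog} (t : ℕ) : ∀ (mu ys : List Pl) (hd : ℕ), ys.length = mu.length → Outs P t hd ys →
    ∀ j l, (2 : ℚ) ^ t * sem ℚ P (uFun hd mu j) l = (lin mu ys j l : ℚ) := by
  intro mu
  induction mu with
  | nil =>
    intro ys hd _ _ j l
    have h0 : uFun hd [] j = 0 := by
      funext x
      unfold uFun
      rw [headVal_of_le [] _ _ (by simp)]
      simp
    rw [h0, map_zero]
    cases ys <;> simp [lin]
  | cons m ms ih =>
    intro ys hd hlen h j l
    cases ys with
    | nil => simp at hlen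
    | cons y ys =>
      obtain ⟨h1, h2⟩ := h
      have h3 := ih ys (hd + 1) (by simpa using hlen) h2 j l
      have hdec : (2 : ℚ) ^ t • uFun hd (m :: ms) j =
          (val m j : ℚ) • vec ℚ (bas t hd) + (2 : ℚ) ^ t • uFun (hd + 1) ms j := by
        funext x
        rw [Pi.smul_apply, Pi.add_apply, Pi.smul_apply, Pi.smul_apply]
        simp only [smul_eq_mul]
        show _ * uFun hd (m :: ms) j x = _ * ((val (bas t hd) x : ℤ) : ℚ) + _ * uFun (hd + 1) ms j x
        rw [val_bas]
        unfold uFun
        by_cases h4 : x < hd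
        · rw [if_pos h4, if_neg (show ¬ x = hd by omega), if_pos (show x < hd + 1 by omega)]
          simp
        · by_cases h5 : x = hd
          · subst h5
            rw [if_neg h4, if_pos rfl, if_pos (show x < x + 1 by omega), Nat.sub_self]
            rw [headVal]
            push_cast
            ring
          · rw [if_neg h4, if_neg h5, if_neg (show ¬ x < hd + 1 by omega)]
            obtain ⟨d, rfl⟩ : ∃ d, x = hd + 1 + d := ⟨x - hd - 1, by omega⟩
            rw [show hd + 1 + d - hd = d + 1 by omega, show hd + 1 + d - (hd + 1) = d by omega, headVal]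
            push_cast
            ring
      have h6 : (2 : ℚ) ^ t * sem ℚ P (uFun hd (m :: ms) j) l =
          sem ℚ P ((2 : ℚ) ^ t • uFun hd (m :: ms) j) l := by
        rw [map_smul]; rfl
      rw [h6, hdec, map_add, map_smul, map_smul, ← h1, Pi.add_apply, Pi.smul_apply, Pi.smul_apply, smul_eq_mul,
        smul_eq_mul, h3]
      show (val m j : ℚ) * ((val y l : ℤ) : ℚ) + _ = _
      rw [lin]
      push_cast
      ring

/-- `(val y l) • m` on the lanes of `E`. -/
noncomputable def scal (E l : ℕ) (m y : Pl) : Pl :=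
  Pl.rec (motive := fun _ => Pl)
    (fun s => Bool.rec (.sgn 0) (neg E m) (tb s l))
    (fun p _ ih => Bool.rec (.cons 0 ih) (norm (add m (.cons 0 ih) 0)) (tb p l)) y

theorem bt_tb (p i : ℕ) : bt p i = if tb p i = true then 1 else 0 := by
  unfold bt; rw [tb_eq]

theorem val_scal {E : ℕ} (l : ℕ) (m y : Pl) {j : ℕ} (hj : E.testBit j = true) :
    val (scal E l m y) j = val y l * val m j := by
  induction y with
  | sgn s =>
    show val (Bool.rec (.sgn 0) (neg E m) (tb s l)) j = - bt s l * val m j
    rw [bt_tb]
    cases tb s l with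
    | false => simp [bt]
    | true =>
      show val (neg E m) j = _
      rw [val_neg, if_pos hj]; simp
  | cons p L ih =>
    show val (Bool.rec (.cons 0 (scal E l m L)) (norm (add m (.cons 0 (scal E l m L)) 0)) (tb p l)) j =
      (bt p l + 2 * val L l) * val m j
    rw [bt_tb]
    cases tb p l with
    | false =>
      show bt 0 j + 2 * val (scal E l m L) j = _
      rw [bt_zero, ih]; simp; ring
    | true =>
      show val (norm (add m (.cons 0 (scal E l m L)) 0)) j = _
      rw [val_norm, val_add, val_cons, ih, bt_zero]; simp; ring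

/-- The planes over `j` of `lin mu ys j l`. -/
noncomputable def comb (E l : ℕ) (mu : List Pl) : List Pl → Pl :=
  List.rec (motive := fun _ => List Pl → Pl) (fun _ => .sgn 0)
    (fun m _ ih ys => List.rec (motive := fun _ => Pl) (.sgn 0) (fun y ys _ => norm (add (scal E l m y) (ih ys) 0)) ys)
    mu

theorem val_comb {E : ℕ} (l : ℕ) (mu ys : List Pl) {j : ℕ} (hj : E.testBit j = true) :
    val (comb E l mu ys) j = lin mu ys j l := by
  induction mu generalizing ys with
  | nil =>
    show val (.sgn 0) j = _
    cases ys <;> simp [lin, bt]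
  | cons m ms ih =>
    cases ys with
    | nil =>
      show val (.sgn 0) j = _
      simp [lin, bt]
    | cons y ys =>
      show val (norm (add (scal E l m y) (comb E l ms ys) 0)) j = _
      rw [val_norm, val_add, val_scal l m y hj, ih, bt_zero, lin]
      ring

/-- Multiply by `2 ^ t`. -/
noncomputable def shl (t : ℕ) (m : Pl) : Pl :=
  Nat.rec (motive := fun _ => Pl) m (fun _ ih => .cons 0 ih) t

theorem val_shl (t : ℕ) (m : Pl) (i : ℕ) : val (shl t m) i = 2 ^ t * val m i := by
  induction t with
  | zero => show val m i = _; simp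
  | succ t ih => show bt 0 i + 2 * val (shl t m) i = _; rw [bt_zero, ih]; ring

/-- Apply the permutation of a program to all planes. -/
noncomputable def mapP (P : Prog) (L : Pl) : Pl :=
  Pl.rec (motive := fun _ => Pl) (fun s => seqP (appP P s) fun u => .sgn u)
    (fun p _ ih => seqP (appP P p) fun u => .cons u ih) L

theorem val_mapP {m : ℕ} {P : Prog} (h : P.ok m = true) (L : Pl) (i : ℕ) :
    val (mapP P L) i = val L (permOf P i) := by
  have hb : ∀ p, bt (appP P p) i = bt p (permOf P i) := fun p => by unfold bt; rw [testBit_appP h]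
  induction L with
  | sgn s =>
    show val (seqP (appP P s) fun u => .sgn u) i = _
    rw [seqP_eq, val_sgn, val_sgn, hb]
  | cons p L ih =>
    show val (seqP (appP P p) fun u => .cons u (mapP P L)) i = _
    rw [seqP_eq, val_cons, val_cons, hb, ih]

/-- The check in the head lanes: for every head lane `l` (from `l` on) the combination equals the new coordinate. -/
noncomputable def rows (E t δ : ℕ) (N : Prog) (mu₀ ys : List Pl) (mu : List Pl) : ℕ → Bool :=
  List.rec (motive := fun _ => ℕ → Bool) (fun _ => true)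
    (fun m _ ih l => and (eqP (norm (msk E (mapP N (comb E l mu₀ ys)))) (norm (msk E (neg δ (shl t m)))))
      (ih (Nat.succ l))) mu

theorem rows_sound {m' : ℕ} {N : Prog} (hN : N.ok m' = true) {E t δ : ℕ} {mu₀ ys : List Pl}
    (hE : ∀ i, E.testBit (permOf N i) = E.testBit i) :
    ∀ (mu : List Pl) (l : ℕ), rows E t δ N mu₀ ys mu l = true → ∀ k < mu.length, ∀ i, E.testBit i = true →
      (lin mu₀ ys (permOf N i) (l + k) : ℚ) = 2 ^ t * (sgQ (δ.testBit i) * (headVal mu k i : ℚ)) := by
  intro mu
  induction mu with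
  | nil => intro l _ k hk; exact absurd hk (by simp)
  | cons m ms ih =>
    intro l h k hk i hi
    have h' : and (eqP (norm (msk E (mapP N (comb E l mu₀ ys)))) (norm (msk E (neg δ (shl t m)))))
      (rows E t δ N mu₀ ys ms (l + 1)) = true := h
    rw [Bool.and_eq_true] at h'
    cases k with
    | zero =>
      have h1 : val (norm (msk E (mapP N (comb E l mu₀ ys)))) i = val (norm (msk E (neg δ (shl t m)))) i := by
        rw [eq_of_eqP h'.1]
      rw [val_norm, val_norm, val_msk, val_msk, if_pos hi, if_pos hi, val_mapP hN,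
        val_comb l mu₀ ys (by rw [hE, hi]), val_neg, val_shl] at h1
      rw [Nat.add_zero, h1]
      show (((if δ.testBit i = true then -(2 ^ t * val m i) else 2 ^ t * val m i : ℤ)) : ℚ) =
        2 ^ t * (sgQ (δ.testBit i) * (val m i : ℚ))
      unfold sgQ
      split_ifs <;> push_cast <;> ring
    | succ k =>
      have h2 := ih (l + 1) h'.2 k (by simpa using hk) i hi
      rw [show l + (k + 1) = l + 1 + k by omega, h2]
      rfl

/-- All planes vanish on the mask `V`. -/
noncomputable def vanish (V : ℕ) (ys : List Pl) : Bool :=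
  List.rec (motive := fun _ => Bool) true (fun y _ ih => and (eqP (norm (msk V y)) (.sgn 0)) ih) ys

theorem vanish_sound {V : ℕ} : ∀ (ys mu : List Pl), vanish V ys = true → ∀ j l, V.testBit l = true →
    lin mu ys j l = 0 := by
  intro ys
  induction ys with
  | nil => intro mu _ j l _; cases mu <;> rfl
  | cons y ys ih =>
    intro mu h j l hl
    have h' : and (eqP (norm (msk V y)) (.sgn 0)) (vanish V ys) = true := h
    rw [Bool.and_eq_true] at h'
    cases mu with
    | nil => rfl
    | cons m ms =>
      rw [lin, ih ms h'.2 j l hl]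
      have h1 : val (norm (msk V y)) l = val (.sgn 0) l := by rw [eq_of_eqP h'.1]
      rw [val_norm, val_msk, if_pos hl, val_sgn, bt_zero, neg_zero] at h1
      rw [h1]; ring

/-! ### The check of a letter -/

/-- Data of a letter: program, signs `δ` on `u`, relative signs `D` (so that the signs on `e` are `δ xor D`),
exponent `t`. -/
noncomputable def letterCheck (U E hd t : ℕ) (mu : List Pl) (P : Prog) (δ D : ℕ) : Bool :=
  and (and (seqB (Nat.xor δ D) fun ε => monoE P E ε) (fol P E E))
    (heads P hd t mu.length [] fun ys =>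
      and (rows E t δ P mu ys mu hd)
        (vanish (Nat.xor U (Nat.shiftLeft (Nat.pred (Nat.pow 2 mu.length)) hd)) ys))

theorem testBit_head (n hd l : ℕ) :
    (((2 ^ n - 1) <<< hd : ℕ)).testBit l = decide (hd ≤ l ∧ l < hd + n) := by
  rw [Nat.testBit_shiftLeft, Nat.testBit_two_pow_sub_one]
  by_cases h : hd ≤ l
  · have h2 : (l - hd < n) ↔ (hd ≤ l ∧ l < hd + n) := by omega
    simp [h, h2]
  · simp [h]

theorem letterCheck_sound {m U E hd t : ℕ} {w : Pl} {mu : List Pl} {P : Prog} {δ D : ℕ} (c : ℚ)
    (hP : GoodW m U w P) (h : letterCheck U E hd t mu P δ D = true) :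
    LetterOK E (uvec U hd mu) (evec U c) (semE ℚ U P) P D := by
  have h2 : (2 : ℚ) ≠ 0 := by norm_num
  unfold letterCheck at h
  simp only [Bool.and_eq_true, seqB_eq] at h
  obtain ⟨⟨hmono, hfol⟩, hheads⟩ := h
  obtain ⟨hmask, hm2⟩ := monoE_sound hP.ok hmono
  obtain ⟨ys, hlen, houts, hk⟩ := heads_sound hP.ok hd t mu.length [] _ trivial hheads
  rw [Bool.and_eq_true] at hk
  have hres : ∀ f : ℕ → ℚ, semE ℚ U P (res ℚ U f) = res ℚ U (sem ℚ P f) := fun f => by
    rw [semE_apply ℚ h2 hP, ← res_sem ℚ hP.pres]
  have hε : ∀ i, (Nat.xor δ D).testBit i = (δ.testBit i ^^ D.testBit i) := fun i => Nat.testBit_xor δ D i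
  refine ⟨⟨_, hP.ok⟩, fun i => δ.testBit i, fun i => (Nat.xor δ D).testBit i,
    ⟨hmask, fun i hi => ?_, fun i hi => ?_⟩, fun i hi => ?_⟩
  · -- the family `u`
    unfold uvec
    rw [hres]
    funext l
    show sem ℚ P (uFun hd mu (permOf P i)) l.1 = sgQ (δ.testBit i) * uFun hd mu i l.1
    have h3 := sem_uFun (P := P) t mu ys hd (by rw [hlen]; simp) houts (permOf P i) l.1
    have h4 : (2 : ℚ) ^ t ≠ 0 := pow_ne_zero _ h2
    apply mul_left_cancel₀ h4
    rw [h3]
    by_cases hl : hd ≤ l.1 ∧ l.1 < hd + mu.length
    · have h5 := rows_sound hP.ok hmask mu hd hk.1 (l.1 - hd) (by omega) i hi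
      rw [show hd + (l.1 - hd) = l.1 by omega] at h5
      rw [h5]
      unfold uFun
      rw [if_neg (by omega)]
    · have hl' : (U ^^^ ((2 ^ mu.length - 1) <<< hd)).testBit l.1 = true := by
        rw [Nat.testBit_xor, testBit_head, l.2, decide_eq_false hl]
        rfl
      rw [vanish_sound ys mu hk.2 _ l.1 hl']
      have h6 : uFun hd mu i l.1 = 0 := by
        unfold uFun
        split_ifs with h7
        · rfl
        · rw [headVal_of_le mu _ _ (by omega)]; simp
      rw [h6]; simp
  · -- the family `e`
    unfold evec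
    rw [hres]
    funext l
    show sem ℚ P (eFun c (permOf P i)) l.1 = sgQ ((Nat.xor δ D).testBit i) * eFun c i l.1
    by_cases hl : E.testBit l.1 = true
    · rw [hm2 _ _ hl]
      unfold eFun
      by_cases h5 : l.1 = i
      · rw [h5, if_pos rfl, if_pos rfl]
      · rw [if_neg h5, if_neg (fun h6 => h5 ((permOf P).injective h6))]; simp
    · have h3 := ind_sem ℚ hP.ok hfol (eFun c (permOf P i))
      have h4 : ind ℚ E (eFun c (permOf P i)) = eFun c (permOf P i) := by
        funext x
        unfold ind eFun
        by_cases hx : x = permOf P i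
        · rw [hx, if_pos (by rw [hmask, hi])]
        · simp [hx]
      rw [h4] at h3
      have h5 := congrFun h3 l.1
      unfold ind at h5
      rw [if_neg hl] at h5
      rw [← h5]
      unfold eFun
      rw [if_neg (fun h6 => hl (by rw [h6, hi]))]; simp
  · show (δ.testBit i ^^ (Nat.xor δ D).testBit i) = D.testBit i
    rw [hε]
    cases δ.testBit i <;> cases D.testBit i <;> rfl

end Cfsg.Agent.BabyM.STabHead
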