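/-
The products of two transpositions have order at most four: kernel checks for the representatives, transfer to all
pairs (field `order_le` of `BTrans`).
-/
import Cfsg.Agent.BabyM.TransData
import Cfsg.Agent.BabyM.AbsTrans
set_option linter.all false

set_option autoImplicit false

namespace Cfsg.Agent.BabyM.TransOrd

open Cfsg.Agent.Lib.PermNet Cfsg.Agent.Monster.VecEngine Cfsg.Agent.Monster.VecSpace Cfsg.Agent.BabyM.Conc
  Cfsg.Agent.BabyM.ConcGrp Cfsg.Agent.BabyM.TransInv Cfsg.Agent.BabyM.Inst Cfsg.Agent.BabyM.Model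
  Cfsg.Agent.BabyM.InstVec Cfsg.Agent.BabyM.InstZ Cfsg.Agent.BabyM.TransCover Cfsg.Agent.BabyM.TransData

/-! ### Products of two involutions -/

section
variable {G : Type*} [Group G] {a b : G}

theorem pow2_of (ha : a * a = 1) (hb : b * b = 1) (h : a * b * a⁻¹ = b) : (a * b) ^ 2 = 1 := by
  have hc : a * b = b * a := by rw [← mul_inv_eq_iff_eq_mul]; exact h
  calc (a * b) ^ 2 = a * b * (a * b) := pow_two _
    _ = a * b * (b * a) := by rw [← hc]
    _ = a * (b * b) * a := by group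
    _ = 1 := by rw [hb, mul_one, ha]

theorem pow3_of (ha : a * a = 1) (hb : b * b = 1) (h : a * b * a⁻¹ = b * a * b⁻¹) : (a * b) ^ 3 = 1 := by
  have ha' : a⁻¹ = a := inv_eq_of_mul_eq_one_left ha
  have hb' : b⁻¹ = b := inv_eq_of_mul_eq_one_left hb
  rw [ha', hb'] at h
  calc (a * b) ^ 3 = a * b * a * (b * a * b) := by simp only [pow_succ, pow_zero, one_mul, mul_assoc]
    _ = a * b * a * (a * b * a) := by rw [h]
    _ = a * b * (a * a) * b * a := by group
    _ = a * (b * b) * a := by rw [ha, mul_one]; group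
    _ = 1 := by rw [hb, mul_one, ha]

theorem pow4_of (ha : a * a = 1) (hb : b * b = 1) (h : b * (a * b * a⁻¹) * b⁻¹ = a * b * a⁻¹) :
    (a * b) ^ 4 = 1 := by
  have ha' : a⁻¹ = a := inv_eq_of_mul_eq_one_left ha
  have hb' : b⁻¹ = b := inv_eq_of_mul_eq_one_left hb
  rw [ha', hb'] at h
  calc (a * b) ^ 4 = a * b * a * b * (a * b * a) * b := by simp only [pow_succ, pow_zero, one_mul, mul_assoc]
    _ = a * b * a * b * (b * (a * b * a) * b) * b := by rw [h]
    _ = a * b * a * (b * b) * a * b * a * (b * b) := by group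
    _ = a * b * (a * a) * b * a := by rw [hb, mul_one, mul_one]; group
    _ = a * (b * b) * a := by rw [ha, mul_one]; group
    _ = 1 := by rw [hb, mul_one, ha]

end

/-! ### The kernel checks -/

/-- The word of the transposition of the axis `W v d₀`. -/
def tw (v : List Ltr) : List Ltr := winv v ++ t0w ++ v

theorem W_tw (v : List Ltr) : W (tw v) = W v * t₀ * (W v)⁻¹ := by
  unfold tw; rw [W_append, W_append, W_winv, W_t0w, mul_assoc]

/-- The kernel check of the order of a product. -/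
noncomputable def ordCheck (P : List Ltr) (x : Pl) (r : Rep) : Bool :=
  bif Nat.beq r.n 2 then check ((tw r.h).map Ltr.prog) x [] (bif r.sg then neg U x else x)
  else bif Nat.beq r.n 3 then check ((tw r.h).map Ltr.prog) x ((r.h ++ tw P).map Ltr.prog) dv0
  else bif Nat.beq r.n 4 then check ((tw r.h ++ tw P).map Ltr.prog) x ((tw r.h).map Ltr.prog) x
  else false

section
variable {K₀ : Type} [Group K₀] (A : BAll M K₀)
include A

theorem t₀_mul : t₀ * t₀ = 1 := A.rep.t₀_sq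

theorem tt_mul (g : V ≃ₗ[ℚ] V) : (g * t₀ * g⁻¹) * (g * t₀ * g⁻¹) = 1 := by
  calc (g * t₀ * g⁻¹) * (g * t₀ * g⁻¹) = g * (t₀ * t₀) * g⁻¹ := by group
    _ = 1 := by rw [t₀_mul A, mul_one, mul_inv_cancel]

theorem mem_Γ (v : List Ltr) : W v ∈ M.Γ := A.G_le (W_mem_G v)

theorem ord_sound {P : List Ltr} {x : Pl} {r : Rep} (hP : W P (M.d₀) = (1 / 8 : ℚ) • vecU ℚ U x)
    (h : ordCheck P x r = true) :
    0 < r.n ∧ r.n ≤ 4 ∧ ((W r.h * t₀ * (W r.h)⁻¹) * (W P * t₀ * (W P)⁻¹)) ^ r.n = 1 := by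
  unfold ordCheck at h
  have a2 := tt_mul A (W r.h)
  have b2 := tt_mul A (W P)
  have hd0 : M.d₀ = (1 / 8 : ℚ) • vecU ℚ U dv0 := by
    show u₀ + e₀ = _
    rw [← d_zero]; rfl
  by_cases h2 : r.n = 2
  · rw [show Nat.beq r.n 2 = true by rw [h2]; rfl, cond_true] at h
    refine ⟨by omega, by omega, ?_⟩
    rw [h2]
    refine pow2_of a2 b2 ?_
    have e := W_eq_of_check (v₂ := []) h
    rw [W_nil, LinearEquiv.coe_one, id] at e
    rw [← W_tw r.h]
    refine A.conj_t (W (tw r.h)) (W P) (W P) (mem_Γ A _) (mem_Γ A _) (mem_Γ A _) ?_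
    rw [hP, map_smul, e]
    cases r.sg
    · exact Or.inl rfl
    · right
      rw [cond_true, vecU_neg, smul_neg]
  · rw [show Nat.beq r.n 2 = false from Bool.eq_false_iff.2 fun h' => h2 (Nat.eq_of_beq_eq_true h'), cond_false] at h
    by_cases h3 : r.n = 3
    · rw [show Nat.beq r.n 3 = true by rw [h3]; rfl, cond_true] at h
      refine ⟨by omega, by omega, ?_⟩
      rw [h3]
      refine pow3_of a2 b2 ?_
      have e := W_eq_of_check h
      rw [← W_tw r.h, ← W_tw P]
      have h5 := A.conj_t (W (tw r.h)) (W P) (W (tw P) * W r.h) (mem_Γ A _) (mem_Γ A _)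
        (M.Γ.mul_mem (mem_Γ A _) (mem_Γ A _)) (Or.inl (by
          rw [hP, map_smul, e, hd0, map_smul, W_append]))
      have h6 : W (tw P) * W (tw r.h) * (W (tw P))⁻¹ = W (tw P) * W r.h * t₀ * (W (tw P) * W r.h)⁻¹ := by
        rw [W_tw r.h]; group
      rw [h6, W_tw P]
      rw [W_tw P] at h5
      exact h5
    · rw [show Nat.beq r.n 3 = false from Bool.eq_false_iff.2 fun h' => h3 (Nat.eq_of_beq_eq_true h'), cond_false] at h
      by_cases h4 : r.n = 4
      · rw [show Nat.beq r.n 4 = true by rw [h4]; rfl, cond_true] at h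
        refine ⟨by omega, by omega, ?_⟩
        rw [h4]
        refine pow4_of a2 b2 ?_
        have e := W_eq_of_check h
        rw [W_append, LinearEquiv.mul_apply] at e
        have h5 := A.conj_t (W (tw P)) (W (tw r.h) * W P) (W (tw r.h) * W P) (mem_Γ A _)
          (M.Γ.mul_mem (mem_Γ A _) (mem_Γ A _)) (M.Γ.mul_mem (mem_Γ A _) (mem_Γ A _)) (Or.inl (by
            rw [LinearEquiv.mul_apply, hP, map_smul, map_smul, e]))
        rw [← W_tw r.h, ← W_tw P]
        have h6 : W (tw r.h) * W (tw P) * (W (tw r.h))⁻¹ = W (tw r.h) * W P * t₀ * (W (tw r.h) * W P)⁻¹ := by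
          rw [W_tw P]; group
        rw [h6]
        exact h5
      · rw [show Nat.beq r.n 4 = false from Bool.eq_false_iff.2 fun h' => h4 (Nat.eq_of_beq_eq_true h'), cond_false] at h
        exact absurd h (by decide)

/-- Transfer from the representatives to all axes of the base orbit. -/
theorem order_of {T : Tab} {x : Pl} (hP : W T.path (M.d₀) = (1 / 8 : ℚ) • vecU ℚ U x)
    (hcov : ∀ b ∈ M.S, ∃ l ∈ stabC (vecU ℚ U x), ∃ r ∈ T.reps, b = l (W r.h M.d₀) ∨ b = - l (W r.h M.d₀))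
    (hall : T.reps.all (ordCheck T.path x) = true) (h : V ≃ₗ[ℚ] V) (hh : h ∈ M.C) :
    ∃ n : ℕ, 0 < n ∧ n ≤ 4 ∧ ((h * M.t₀ * h⁻¹) * (W T.path * M.t₀ * (W T.path)⁻¹)) ^ n = 1 := by
  obtain ⟨l, ⟨hlC, hl⟩, r, hr, hb⟩ := hcov (h M.d₀) ⟨h, hh, rfl⟩
  rw [List.all_eq_true] at hall
  obtain ⟨h1, h2, h3⟩ := ord_sound A hP (hall r hr)
  refine ⟨r.n, h1, h2, ?_⟩
  have hlΓ : l ∈ M.Γ := A.C_le hlC
  have e1 : h * M.t₀ * h⁻¹ = l * (W r.h * t₀ * (W r.h)⁻¹) * l⁻¹ := by
    have := A.conj_t 1 h (l * W r.h) M.Γ.one_mem (A.C_le hh) (M.Γ.mul_mem hlΓ (mem_Γ A _)) hb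
    rw [one_mul, inv_one, mul_one] at this
    rw [this, mul_inv_rev]
    simp only [mul_assoc]
    rfl
  have e2 : W T.path * M.t₀ * (W T.path)⁻¹ = l * (W T.path * t₀ * (W T.path)⁻¹) * l⁻¹ := by
    refine (A.conj_t l (W T.path) (W T.path) hlΓ (mem_Γ A _) (mem_Γ A _) (Or.inl ?_)).symm
    rw [hP, map_smul, hl]
  rw [e1, e2]
  have e3 : l * (W r.h * t₀ * (W r.h)⁻¹) * l⁻¹ * (l * (W T.path * t₀ * (W T.path)⁻¹) * l⁻¹) =
      l * ((W r.h * t₀ * (W r.h)⁻¹) * (W T.path * t₀ * (W T.path)⁻¹)) * l⁻¹ := by group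
  rw [e3, conj_pow, h3, mul_one, mul_inv_cancel]

end

theorem ord0 : T0.reps.all (ordCheck T0.path dv0) = true := by decide +kernel
theorem ord1 : T1.reps.all (ordCheck T1.path dv1) = true := by decide +kernel
theorem ord2 : T2.reps.all (ordCheck T2.path dv2) = true := by decide +kernel
theorem ord3 : T3.reps.all (ordCheck T3.path dv3) = true := by decide +kernel
theorem ord4 : T4.reps.all (ordCheck T4.path dv4) = true := by decide +kernel

end Cfsg.Agent.BabyM.TransOrd
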