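/-
The base theorem for the 4371-dimensional model: an element of `G` fixing one explicit vector
`v = c₀ d₀ + c₁ d₁ + ∑ c i • g i e₀ + s` is trivial.
-/
import Cfsg.Agent.BabyM.AbsTrans
set_option linter.all false

set_option autoImplicit false

namespace Cfsg.Agent.BabyM.WordsBase

open Cfsg.Agent.BabyM.Model

variable {W : Type} [AddCommGroup W] [Module ℚ W] {M : BData W} {K₀ : Type} [Group K₀]

/-- An element of `C` acting trivially on `Q / ⟨z⟩` is in `Q`. -/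
theorem mem_Q_of_trivial (H : BGroup M K₀) (k : W ≃ₗ[ℚ] W) (hk : k ∈ M.C)
    (h : ∀ q ∈ M.Q, k * q * k⁻¹ = q ∨ k * q * k⁻¹ = q * M.z) : k ∈ M.Q := by
  by_contra hkQ
  have hz := H.z_comm
  let N : Subgroup (W ≃ₗ[ℚ] W) :=
    { carrier := {g | g ∈ M.C ∧ ∀ q ∈ M.Q, g * q * g⁻¹ = q ∨ g * q * g⁻¹ = q * M.z}
      one_mem' := ⟨M.C.one_mem, fun q _ => Or.inl (by simp)⟩
      mul_mem' := by
        rintro a b ⟨ha, ha'⟩ ⟨hb, hb'⟩
        refine ⟨M.C.mul_mem ha hb, fun q hq => ?_⟩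
        have e : a * b * q * (a * b)⁻¹ = a * (b * q * b⁻¹) * a⁻¹ := by group
        rw [e]
        rcases hb' q hq with h1 | h1
        · rw [h1]; exact ha' q hq
        · rw [h1]
          have e2 : a * (q * M.z) * a⁻¹ = (a * q * a⁻¹) * (a * M.z * a⁻¹) := by group
          have e3 : a * M.z * a⁻¹ = M.z := by rw [hz a ha, mul_assoc, mul_inv_cancel, mul_one]
          rw [e2, e3]
          rcases ha' q hq with h2 | h2
          · right; rw [h2]
          · left; rw [h2, mul_assoc, H.z_sq, mul_one]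
      inv_mem' := by
        rintro a ⟨ha, ha'⟩
        refine ⟨M.C.inv_mem ha, fun q hq => ?_⟩
        have hq' := H.Q_normal' a ha q hq
        rw [inv_inv]
        rcases ha' _ hq' with h2 | h2
        · left
          have : a * (a⁻¹ * q * a) * a⁻¹ = q := by group
          rw [this] at h2
          exact h2.symm
        · right
          have : a * (a⁻¹ * q * a) * a⁻¹ = q := by group
          rw [this] at h2
          generalize a⁻¹ * q * a = y at h2
          rw [h2, mul_assoc, H.z_sq, mul_one] }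
  have hcov := H.cover N (fun g hg => hg.1) (fun g hg n hn => by
    refine ⟨M.C.mul_mem (M.C.mul_mem hg hn.1) (M.C.inv_mem hg), fun q hq => ?_⟩
    have hq' := H.Q_normal' g hg q hq
    have e : g * n * g⁻¹ * q * (g * n * g⁻¹)⁻¹ = g * (n * (g⁻¹ * q * g) * n⁻¹) * g⁻¹ := by group
    rw [e]
    rcases hn.2 _ hq' with h2 | h2
    · left; rw [h2]; group
    · right
      rw [h2]
      have e3 : g * (g⁻¹ * q * g * M.z) * g⁻¹ = q * (g * M.z * g⁻¹) := by group
      rw [e3, hz g hg, mul_assoc M.z, mul_inv_cancel, mul_one]) k ⟨hk, h⟩ hkQ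
  have hall : ∀ y ∈ M.Q, y = 1 ∨ y = M.z := by
    intro y hy
    refine H.mem_of_conj y hy ?_
    intro g hg
    obtain ⟨n, hn, q, hq, rfl⟩ := hcov g hg
    have h1 : q * y * q⁻¹ = y ∨ q * y * q⁻¹ = y * M.z := by
      rcases H.Q_comm q hq y hy with h3 | h3
      · left; rw [h3]; group
      · right
        rw [h3, mul_assoc, mul_assoc, ← hz q⁻¹ (M.C.inv_mem (H.Q_le hq))]
        group
    have e : n * q * y * (n * q)⁻¹ = n * (q * y * q⁻¹) * n⁻¹ := by group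
    rw [e]
    rcases h1 with h1 | h1
    · rw [h1]; exact hn.2 y hy
    · rw [h1]
      have e2 : n * (y * M.z) * n⁻¹ = (n * y * n⁻¹) * (n * M.z * n⁻¹) := by group
      have e3 : n * M.z * n⁻¹ = M.z := by rw [hz n hn.1, mul_assoc, mul_inv_cancel, mul_one]
      rw [e2, e3]
      rcases hn.2 y hy with h2 | h2
      · right; rw [h2]
      · left; rw [h2, mul_assoc, H.z_sq, mul_one]
  have hle : Nat.card M.Q ≤ 2 := by
    classical
    have : Function.Injective (fun y : M.Q => decide (y = 1) ) := by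
      intro a b hab
      have ha := hall a a.2
      have hb := hall b b.2
      simp only [decide_eq_decide] at hab
      by_cases h1 : a = 1
      · rw [h1, hab.1 h1]
      · have h2 : b ≠ 1 := fun h => h1 (hab.2 h)
        have ha' : (a : W ≃ₗ[ℚ] W) = M.z := ha.resolve_left (fun h => h1 (Subtype.ext h))
        have hb' : (b : W ≃ₗ[ℚ] W) = M.z := hb.resolve_left (fun h => h2 (Subtype.ext h))
        exact Subtype.ext (ha'.trans hb'.symm)
    calc Nat.card M.Q ≤ Nat.card Bool := Nat.card_le_card_of_injective _ this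
      _ = 2 := by simp
  rw [H.Q_card] at hle
  norm_num at hle

/-- The data of a base. -/
structure Base (M : BData W) (n : ℕ) where
  /-- elements of `C` -/
  g : Fin n → (W ≃ₗ[ℚ] W)
  /-- coefficients -/
  c : Fin n → ℚ
  /-- coefficient of `d₀` -/
  c₀ : ℚ
  /-- coefficient of `d₁` -/
  c₁ : ℚ
  /-- vector of the `2048`-part -/
  s : W

namespace Base

variable {n : ℕ} (B : Base M n)

/-- The part in the sum of the `2300`-part and the `2048`-part. -/
def u : W := ∑ i, B.c i • B.g i M.e₀ + B.s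

/-- The vector of the base. -/
def v : W := B.c₀ • M.d₀ + B.c₁ • M.d₁ + B.u

/-- The conditions on a base. -/
structure Ok : Prop where
  pos : ∀ x, 0 ≤ M.F x x
  val : ∀ j, ∀ b ∈ M.S, b = M.d j ∨ M.F b (M.d j) ≤ 1
  rig : ∀ g ∈ M.G, g M.d₀ = M.d₀ → g M.d₁ = M.d₁ → g ∈ M.C
  g_mem : ∀ i, B.g i ∈ M.C
  c_pos : ∀ i, 0 < B.c i
  c_inj : Function.Injective B.c
  ne : ∀ i, B.g i M.e₀ ≠ M.e₀ ∧ B.g i M.e₀ ≠ - M.e₀
  ne' : ∀ i j, i ≠ j → B.g i M.e₀ ≠ B.g j M.e₀ ∧ B.g i M.e₀ ≠ - B.g j M.e₀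
  gen : M.Q ≤ Subgroup.closure (Set.range (fun i => B.g i * M.t₀ * (B.g i)⁻¹) ∪ {M.z})
  s_neg : M.z B.s = - B.s
  s_ne : B.s ≠ 0
  c₁_pos : 0 < B.c₁
  c₀_pos : 8 * B.c₁ < 6 * B.c₀
  bound₁ : 7 * (4 * ∑ i, B.c i ^ 2 + M.F B.s B.s) < 36 * B.c₁ ^ 2
  bound₀ : 7 * (4 * ∑ i, B.c i ^ 2 + M.F B.s B.s) < (6 * B.c₀ - 8 * B.c₁) ^ 2

variable (A : BAll M K₀) (O : B.Ok)
include A O

omit O in
theorem F_e_eq (i : W ≃ₗ[ℚ] W) (hi : i ∈ M.C) (j : W ≃ₗ[ℚ] W) (hj : j ∈ M.C) (h1 : i M.e₀ ≠ j M.e₀)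
    (h2 : i M.e₀ ≠ - j M.e₀) : M.F (i M.e₀) (j M.e₀) = 0 := by
  have h := A.rep.C_isom j⁻¹ (M.C.inv_mem hj) (i M.e₀) (j M.e₀)
  rw [inv_apply_self'] at h
  rw [← h]
  have h3 := A.F_e (j⁻¹ * i) (M.C.mul_mem (M.C.inv_mem hj) hi)
    (fun h4 => h1 (by
      have := congrArg j h4
      rwa [LinearEquiv.mul_apply, apply_inv_self'] at this))
    (fun h4 => h2 (by
      have := congrArg j h4
      rwa [LinearEquiv.mul_apply, apply_inv_self', map_neg] at this))
  exact h3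

omit O in
theorem F_e_self (i : W ≃ₗ[ℚ] W) (hi : i ∈ M.C) : M.F (i M.e₀) (i M.e₀) = 4 := by
  rw [A.rep.C_isom i hi, A.rep.e₀_norm]

omit O in
theorem e_mem (i : W ≃ₗ[ℚ] W) (hi : i ∈ M.C) : i M.e₀ ∈ M.E := A.C_E i hi _ A.e₀_mem

theorem y_mem : ∑ i, B.c i • B.g i M.e₀ ∈ M.E :=
  Submodule.sum_mem _ fun i _ => Submodule.smul_mem _ _ (e_mem A (B.g i) (O.g_mem i))

theorem F_y_e (j : Fin n) : M.F (∑ i, B.c i • B.g i M.e₀) (B.g j M.e₀) = 4 * B.c j := by
  rw [map_sum, LinearMap.sum_apply, Finset.sum_eq_single j]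
  · rw [map_smul, LinearMap.smul_apply, F_e_self A _ (O.g_mem j), smul_eq_mul, mul_comm]
  · intro i _ hij
    rw [map_smul, LinearMap.smul_apply, F_e_eq A _ (O.g_mem i) _ (O.g_mem j) (O.ne' i j hij).1 (O.ne' i j hij).2,
      smul_zero]
  · intro h; exact absurd (Finset.mem_univ _) h

theorem F_y_y : M.F (∑ i, B.c i • B.g i M.e₀) (∑ i, B.c i • B.g i M.e₀) = 4 * ∑ i, B.c i ^ 2 := by
  conv_lhs => rw [map_sum]
  rw [Finset.mul_sum]
  refine Finset.sum_congr rfl fun j _ => ?_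
  rw [map_smul, B.F_y_e A O j, smul_eq_mul]
  ring

theorem F_u_u : M.F B.u B.u = 4 * ∑ i, B.c i ^ 2 + M.F B.s B.s := by
  unfold u
  have hy := B.y_mem A O
  have hzy := A.z_E _ hy
  rw [LinearMap.BilinForm.add_left, map_add, map_add, B.F_y_y A O, A.fix_orth _ _ hzy O.s_neg,
    A.rep.F_symm B.s, A.fix_orth _ _ hzy O.s_neg]
  ring

theorem F_u_fix (x : W) (hx : x ∈ M.U) : M.F B.u x = 0 := by
  unfold u
  rw [LinearMap.BilinForm.add_left, A.E_U_orth _ (B.y_mem A O) x hx, A.rep.F_symm B.s,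
    A.fix_orth x _ (A.z_U x hx) O.s_neg, add_zero]

theorem F_u_e₀ : M.F B.u M.e₀ = 0 := by
  unfold u
  rw [LinearMap.BilinForm.add_left, A.rep.F_symm B.s, A.fix_orth _ _ A.rep.z_e₀ O.s_neg, add_zero, map_sum,
    LinearMap.sum_apply]
  refine Finset.sum_eq_zero fun i _ => ?_
  rw [map_smul, LinearMap.smul_apply]
  have := F_e_eq A _ (O.g_mem i) 1 M.C.one_mem (O.ne i).1 (O.ne i).2
  rw [LinearEquiv.coe_one, id] at this
  rw [this, smul_zero]

theorem F_u_d₀ : M.F B.u M.d₀ = 0 := by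
  unfold BData.d₀
  rw [map_add, B.F_u_fix A O _ A.u₀_mem, B.F_u_e₀ A O, add_zero]

theorem F_u_d₁ : M.F B.u M.d₁ = 0 := by
  unfold BData.d₁
  rw [map_sub, B.F_u_fix A O _ A.u₀_mem, B.F_u_e₀ A O, sub_zero]

/-- Cauchy-Schwarz -/
theorem cs (x y : W) : M.F x y ^ 2 ≤ M.F x x * M.F y y :=
  LinearMap.BilinForm.apply_sq_le_of_symm M.F O.pos ⟨fun x y => by simpa using A.rep.F_symm x y⟩ x y

theorem F_le (x : W) (hx : x ∈ M.D) (hne : x ≠ M.d₀) : M.F M.d₀ x ≤ 1 := by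
  obtain ⟨j, h, hh, rfl⟩ := hx
  have h1 := A.rep.C_isom h⁻¹ (M.C.inv_mem hh) M.d₀ (h (M.d j))
  rw [inv_apply_self'] at h1
  rw [← h1]
  rcases O.val j (h⁻¹ M.d₀) ⟨h⁻¹, M.C.inv_mem hh, rfl⟩ with h2 | h2
  · exfalso
    apply hne
    rw [← h2, apply_inv_self']
  · exact h2

theorem F_le' (x : W) (hx : x ∈ M.D) (hne : x ≠ M.d₁) : M.F M.d₁ x ≤ 1 := by
  obtain ⟨q, hq, h1, -⟩ := A.d₁_mem'
  have hqC := A.grp.Q_le hq
  have h2 := A.rep.C_isom q⁻¹ (M.C.inv_mem hqC) M.d₁ x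
  rw [← h2, ← h1, inv_apply_self']
  refine B.F_le A O _ (A.C_D _ (M.C.inv_mem hqC) _ hx) fun h3 => hne ?_
  rw [← h1, ← h3, apply_inv_self']

theorem F_u_lt (x : W) (hx : x ∈ M.D) : M.F B.u x < 6 * B.c₁ ∧ M.F B.u x < 6 * B.c₀ - 8 * B.c₁ := by
  have h1 := B.cs A O B.u x
  rw [A.F_D x hx, B.F_u_u A O] at h1
  have h2 := O.bound₁
  have h3 := O.bound₀
  constructor
  · apply lt_of_pow_lt_pow_left₀ 2 (by linarith [O.c₁_pos])
    calc M.F B.u x ^ 2 ≤ _ := h1
      _ < (6 * B.c₁) ^ 2 := by nlinarith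
  · apply lt_of_pow_lt_pow_left₀ 2 (by linarith [O.c₀_pos])
    calc M.F B.u x ^ 2 ≤ _ := h1
      _ < _ := by linarith

omit O in
theorem F_le_seven (hp : ∀ x, 0 ≤ M.F x x) (x y : W) (hx : x ∈ M.D) (hy : y ∈ M.D) : M.F x y ≤ 7 := by
  have h := LinearMap.BilinForm.apply_sq_le_of_symm M.F hp ⟨fun x y => by simpa using A.rep.F_symm x y⟩ x y
  rw [A.F_D x hx, A.F_D y hy] at h
  nlinarith

theorem fix_d₀ (k : W ≃ₗ[ℚ] W) (hk : k ∈ M.G) (hv : k B.v = B.v) : k M.d₀ = M.d₀ := by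
  have hkΓ := A.G_le hk
  by_contra hne
  have hx : k M.d₀ ∈ M.D := (hkΓ.2 _).2 A.d₀_mem
  have h1 : M.F B.v (k M.d₀) = M.F B.v M.d₀ := by
    conv_lhs => rw [← hv]
    exact hkΓ.1 _ _
  have h2 : M.F B.v M.d₀ = 7 * B.c₀ - B.c₁ := by
    unfold v
    rw [LinearMap.BilinForm.add_left, LinearMap.BilinForm.add_left, LinearMap.BilinForm.smul_left,
      LinearMap.BilinForm.smul_left, A.F_d₀, A.F_d₁_d₀, B.F_u_d₀ A O]
    ring
  have h3 : M.F B.v (k M.d₀) = B.c₀ * M.F M.d₀ (k M.d₀) + B.c₁ * M.F M.d₁ (k M.d₀) + M.F B.u (k M.d₀) := by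
    unfold v
    rw [LinearMap.BilinForm.add_left, LinearMap.BilinForm.add_left, LinearMap.BilinForm.smul_left,
      LinearMap.BilinForm.smul_left]
  have h4 := B.F_le A O _ hx hne
  have h5 := F_le_seven A O.pos _ _ A.d₁_mem hx
  have h6 := (B.F_u_lt A O _ hx).2
  have h7 := O.c₁_pos
  have h8 := O.c₀_pos
  rw [h2, h3] at h1
  nlinarith

theorem fix_d₁ (k : W ≃ₗ[ℚ] W) (hk : k ∈ M.G) (hv : k B.v = B.v) : k M.d₁ = M.d₁ := by
  have hkΓ := A.G_le hk
  have h0 := B.fix_d₀ A O k hk hv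
  by_contra hne
  have hx : k M.d₁ ∈ M.D := (hkΓ.2 _).2 A.d₁_mem
  have hv' : k (B.c₁ • M.d₁ + B.u) = B.c₁ • M.d₁ + B.u := by
    have h := hv
    unfold v at h
    rw [add_assoc, map_add, map_smul, h0] at h
    exact add_left_cancel h
  have h1 : M.F (B.c₁ • M.d₁ + B.u) (k M.d₁) = M.F (B.c₁ • M.d₁ + B.u) M.d₁ := by
    conv_lhs => rw [← hv']
    exact hkΓ.1 _ _
  rw [LinearMap.BilinForm.add_left, LinearMap.BilinForm.add_left, LinearMap.BilinForm.smul_left,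
    LinearMap.BilinForm.smul_left, A.F_D _ A.d₁_mem, B.F_u_d₁ A O] at h1
  have h4 := B.F_le' A O _ hx hne
  have h6 := (B.F_u_lt A O _ hx).1
  have h7 := O.c₁_pos
  nlinarith

theorem fix_u (k : W ≃ₗ[ℚ] W) (hk : k ∈ M.G) (hv : k B.v = B.v) : k B.u = B.u := by
  have h0 := B.fix_d₀ A O k hk hv
  have h1 := B.fix_d₁ A O k hk hv
  have h := hv
  unfold v at h
  rw [map_add, map_add, map_smul, map_smul, h0, h1] at h
  exact add_left_cancel h

theorem mem_C (k : W ≃ₗ[ℚ] W) (hk : k ∈ M.G) (hv : k B.v = B.v) : k ∈ M.C :=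
  O.rig k hk (B.fix_d₀ A O k hk hv) (B.fix_d₁ A O k hk hv)

theorem fix_parts (k : W ≃ₗ[ℚ] W) (hk : k ∈ M.G) (hv : k B.v = B.v) :
    k (∑ i, B.c i • B.g i M.e₀) = ∑ i, B.c i • B.g i M.e₀ ∧ k B.s = B.s := by
  have hC := B.mem_C A O k hk hv
  have h := B.fix_u A O k hk hv
  unfold u at h
  have hy := B.y_mem A O
  generalize (∑ i, B.c i • B.g i M.e₀) = y at h hy
  have hky := A.C_E k hC y hy
  have hks : M.z (k B.s) = - k B.s := by
    have h1 := A.grp.z_comm k hC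
    have h2 := congrArg (fun f : W ≃ₗ[ℚ] W => f B.s) h1
    simp only [LinearEquiv.mul_apply] at h2
    rw [← h2, O.s_neg, map_neg]
  rw [map_add] at h
  have h3 : k y - y = B.s - k B.s := by
    rw [sub_eq_sub_iff_add_eq_add, h]
    exact add_comm _ _
  have h4 : M.z (k y - y) = k y - y := by rw [map_sub, A.z_E _ hky, A.z_E _ hy]
  have h5 : M.z (B.s - k B.s) = - (B.s - k B.s) := by rw [map_sub, O.s_neg, hks]; abel
  have h6 : B.s - k B.s = 0 := by
    rw [h3, h5] at h4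
    have h7 : (2 : ℚ) • (B.s - k B.s) = 0 := by
      rw [two_smul]
      nth_rewrite 1 [← h4]
      exact neg_add_cancel _
    exact (smul_eq_zero.1 h7).resolve_left (by norm_num)
  rw [h6] at h3
  exact ⟨sub_eq_zero.1 h3, (sub_eq_zero.1 h6).symm⟩

theorem fix_e (k : W ≃ₗ[ℚ] W) (hk : k ∈ M.G) (hv : k B.v = B.v) (j : Fin n) :
    k (B.g j M.e₀) = B.g j M.e₀ := by
  have hC := B.mem_C A O k hk hv
  have h1 := (B.fix_parts A O k hk hv).1
  have h2 := B.F_y_e A O j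
  rw [← h1, map_sum, map_sum, LinearMap.sum_apply] at h2
  -- some term is nonzero
  have h3 : ∃ i, M.F (k (B.c i • B.g i M.e₀)) (B.g j M.e₀) ≠ 0 := by
    by_contra hno
    push Not at hno
    rw [Finset.sum_eq_zero (fun i _ => hno i)] at h2
    have := O.c_pos j
    linarith
  obtain ⟨i, hi⟩ := h3
  have hki : ∀ i, k * B.g i ∈ M.C := fun i => M.C.mul_mem hC (O.g_mem i)
  have h4 : ∀ i, M.F (k (B.c i • B.g i M.e₀)) (B.g j M.e₀) ≠ 0 →
      k (B.g i M.e₀) = B.g j M.e₀ ∨ k (B.g i M.e₀) = - B.g j M.e₀ := by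
    intro i hi
    by_contra hno
    push Not at hno
    apply hi
    rw [map_smul, map_smul, LinearMap.smul_apply]
    have := F_e_eq A (k * B.g i) (hki i) (B.g j) (O.g_mem j) hno.1 hno.2
    rw [LinearEquiv.mul_apply] at this
    rw [this, smul_zero]
  have h5 : ∀ i', i' ≠ i → M.F (k (B.c i' • B.g i' M.e₀)) (B.g j M.e₀) = 0 := by
    intro i' hne
    by_contra hno
    have h6 := h4 i hi
    have h7 := h4 i' hno
    have h8 := O.ne' i' i hne
    rcases h6 with h6 | h6 <;> rcases h7 with h7 | h7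
    · exact h8.1 (k.injective (h7.trans h6.symm))
    · exact h8.2 (k.injective (by rw [map_neg, h7, h6]))
    · exact h8.2 (k.injective (by rw [map_neg, h7, h6, neg_neg]))
    · exact h8.1 (k.injective (h7.trans h6.symm))
  rw [Finset.sum_eq_single i (fun i' _ h => h5 i' h) (fun h => absurd (Finset.mem_univ _) h), map_smul, map_smul,
    LinearMap.smul_apply, smul_eq_mul] at h2
  have hj := F_e_self A _ (O.g_mem j)
  rcases h4 i hi with h6 | h6
  · rw [h6, hj] at h2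
    have h7 : B.c i = B.c j := by linarith
    have h8 := O.c_inj h7
    rw [h8] at h6
    exact h6
  · exfalso
    rw [h6, LinearMap.BilinForm.neg_left, hj] at h2
    have := O.c_pos i
    have := O.c_pos j
    linarith

/-- An element of `G` fixing the vector `v` is trivial. -/
theorem eq_one (k : W ≃ₗ[ℚ] W) (hk : k ∈ M.G) (hv : k B.v = B.v) : k = 1 := by
  have hC := B.mem_C A O k hk hv
  have hz := A.grp.z_comm
  have hE := B.fix_e A O k hk hv
  -- conjugation of the generators of `Q`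
  have h1 : ∀ i, k * (B.g i * M.t₀ * (B.g i)⁻¹) * k⁻¹ = B.g i * M.t₀ * (B.g i)⁻¹ ∨
      k * (B.g i * M.t₀ * (B.g i)⁻¹) * k⁻¹ = B.g i * M.t₀ * (B.g i)⁻¹ * M.z := by
    intro i
    have hg := O.g_mem i
    have hh : (B.g i)⁻¹ * k * B.g i ∈ M.C := M.C.mul_mem (M.C.mul_mem (M.C.inv_mem hg) hC) hg
    obtain ⟨h, hdef⟩ : ∃ h, h = (B.g i)⁻¹ * k * B.g i := ⟨_, rfl⟩
    rw [← hdef] at hh
    have he : h M.e₀ = M.e₀ := by
      rw [hdef, LinearEquiv.mul_apply, LinearEquiv.mul_apply, hE i, inv_apply_self']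
    have hkh : k = B.g i * h * (B.g i)⁻¹ := by rw [hdef]; group
    have key : h * M.t₀ * h⁻¹ = M.t₀ ∨ h * M.t₀ * h⁻¹ = M.t₀ * M.z := by
      rcases A.rep.stab_e₀ h hh (Or.inl he) with h2 | h2
      · left
        have h3 := A.rep.t₀_comm h hh (Or.inl (by unfold BData.d₀; rw [map_add, h2, he]))
        rw [h3, mul_assoc, mul_inv_cancel, mul_one]
      · right
        obtain ⟨q, hq, h3, h4⟩ := A.d₁_mem'
        have hqC := A.grp.Q_le hq
        have h5 : (q⁻¹ * h) M.d₀ = - M.d₀ := by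
          rw [LinearEquiv.mul_apply]
          have h6 : h M.d₀ = - M.d₁ := by
            unfold BData.d₀ BData.d₁
            rw [map_add, h2, he]
            abel
          rw [h6, map_neg, ← h3, inv_apply_self']
        have h6 := A.rep.t₀_comm (q⁻¹ * h) (M.C.mul_mem (M.C.inv_mem hqC) hh) (Or.inr h5)
        have h7 : h = q * (q⁻¹ * h) := by group
        have h8 : h * M.t₀ * h⁻¹ = q * M.t₀ * q⁻¹ := by
          calc h * M.t₀ * h⁻¹ = q * ((q⁻¹ * h) * M.t₀) * (q⁻¹ * h)⁻¹ * q⁻¹ := by group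
            _ = q * (M.t₀ * (q⁻¹ * h)) * (q⁻¹ * h)⁻¹ * q⁻¹ := by rw [h6]
            _ = q * M.t₀ * q⁻¹ := by group
        rw [h8, h4, mul_assoc, mul_assoc, ← hz q⁻¹ (M.C.inv_mem hqC)]
        group
    have e1 : k * (B.g i * M.t₀ * (B.g i)⁻¹) * k⁻¹ = B.g i * (h * M.t₀ * h⁻¹) * (B.g i)⁻¹ := by
      rw [hkh]; group
    rw [e1]
    rcases key with h2 | h2
    · left; rw [h2]
    · right
      rw [h2]
      have e2 : B.g i * (M.t₀ * M.z) * (B.g i)⁻¹ = B.g i * M.t₀ * (M.z * (B.g i)⁻¹) := by group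
      rw [e2, ← hz _ (M.C.inv_mem hg)]
      group
  have ht : ∀ i, B.g i * M.t₀ * (B.g i)⁻¹ ∈ M.Q := fun i => A.grp.Q_normal _ (O.g_mem i) _ A.rep.t₀_mem
  -- `k` is in `Q`
  have hkQ : k ∈ M.Q := by
    refine mem_Q_of_trivial A.grp k hC fun q hq => ?_
    let N : Subgroup (W ≃ₗ[ℚ] W) :=
      { carrier := {q | q ∈ M.C ∧ (k * q * k⁻¹ = q ∨ k * q * k⁻¹ = q * M.z)}
        one_mem' := ⟨M.C.one_mem, Or.inl (by simp)⟩
        mul_mem' := by
          rintro a b ⟨ha, ha'⟩ ⟨hb, hb'⟩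
          refine ⟨M.C.mul_mem ha hb, ?_⟩
          have e : k * (a * b) * k⁻¹ = (k * a * k⁻¹) * (k * b * k⁻¹) := by group
          rw [e]
          rcases ha' with h1 | h1 <;> rcases hb' with h2 | h2
          · left; rw [h1, h2]
          · right; rw [h1, h2, mul_assoc]
          · right; rw [h1, h2, mul_assoc, ← hz b hb, mul_assoc]
          · left; rw [h1, h2, mul_assoc, ← mul_assoc M.z, ← hz b hb, mul_assoc b, A.grp.z_sq, mul_one]
        inv_mem' := by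
          rintro a ⟨ha, ha'⟩
          refine ⟨M.C.inv_mem ha, ?_⟩
          have e : k * a⁻¹ * k⁻¹ = (k * a * k⁻¹)⁻¹ := by group
          rw [e]
          rcases ha' with h1 | h1
          · left; rw [h1]
          · right
            have hzi : M.z⁻¹ = M.z := inv_eq_of_mul_eq_one_left A.grp.z_sq
            rw [h1, mul_inv_rev, hzi, hz _ (M.C.inv_mem ha)] }
    have hle : Subgroup.closure (Set.range (fun i => B.g i * M.t₀ * (B.g i)⁻¹) ∪ {M.z}) ≤ N := by
      rw [Subgroup.closure_le]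
      rintro x (⟨i, rfl⟩ | hx)
      · exact ⟨A.grp.Q_le (ht i), h1 i⟩
      · rw [Set.mem_singleton_iff] at hx
        refine ⟨by rw [hx]; exact A.grp.z_mem_C, Or.inl ?_⟩
        rw [hx, hz k hC, mul_assoc, mul_inv_cancel, mul_one]
    exact (hle (O.gen hq)).2
  -- `k` commutes with the generators
  have h2 : ∀ i, k * (B.g i * M.t₀ * (B.g i)⁻¹) = (B.g i * M.t₀ * (B.g i)⁻¹) * k := by
    intro i
    have hg := O.g_mem i
    have hq' : (B.g i)⁻¹ * k * B.g i ∈ M.Q := A.grp.Q_normal' _ hg _ hkQ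
    obtain ⟨h, hdef⟩ : ∃ h, h = (B.g i)⁻¹ * k * B.g i := ⟨_, rfl⟩
    rw [← hdef] at hq'
    have he : h M.e₀ = M.e₀ := by
      rw [hdef, LinearEquiv.mul_apply, LinearEquiv.mul_apply, hE i, inv_apply_self']
    have hkh : k = B.g i * h * (B.g i)⁻¹ := by rw [hdef]; group
    have hcomm : h * M.t₀ = M.t₀ * h := by
      by_contra hne
      have h3 := A.rep.Q_e₀_neg h hq' hne
      rw [he] at h3
      have h4 := A.rep.e₀_norm
      have h5 : (2 : ℚ) • M.e₀ = 0 := by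
        rw [two_smul]
        nth_rewrite 1 [h3]
        exact neg_add_cancel _
      have h6 := (smul_eq_zero.1 h5).resolve_left (by norm_num)
      rw [h6, map_zero] at h4
      norm_num at h4
    calc k * (B.g i * M.t₀ * (B.g i)⁻¹) = B.g i * (h * M.t₀) * (B.g i)⁻¹ := by rw [hkh]; group
      _ = B.g i * (M.t₀ * h) * (B.g i)⁻¹ := by rw [hcomm]
      _ = (B.g i * M.t₀ * (B.g i)⁻¹) * k := by rw [hkh]; group
  have hle : Subgroup.closure (Set.range (fun i => B.g i * M.t₀ * (B.g i)⁻¹) ∪ {M.z}) ≤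
      Subgroup.centralizer {k} := by
    rw [Subgroup.closure_le]
    rintro x (⟨i, rfl⟩ | hx)
    · exact Subgroup.mem_centralizer_singleton_iff.2 (h2 i).symm
    · rw [Set.mem_singleton_iff] at hx
      rw [hx]
      exact Subgroup.mem_centralizer_singleton_iff.2 (hz k hC).symm
  have h3 : ∀ y ∈ M.Q, k * y = y * k := fun y hy =>
    (Subgroup.mem_centralizer_singleton_iff.1 (hle (O.gen hy))).symm
  rcases A.grp.Q_center k hkQ h3 with h4 | h4
  · exact h4
  · exfalso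
    have h5 := (B.fix_parts A O k hk hv).2
    rw [h4, O.s_neg] at h5
    have h6 : (2 : ℚ) • B.s = 0 := by
      rw [two_smul]
      nth_rewrite 1 [← h5]
      exact neg_add_cancel _
    exact O.s_ne ((smul_eq_zero.1 h6).resolve_left (by norm_num))

end Base

end Cfsg.Agent.BabyM.WordsBase
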