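import Cfsg.Agent.BabyM.InstZ
import Cfsg.Agent.BabyM.WordsBase
import Cfsg.Agent.Monster.PlaneArith
set_option linter.all false

/-!
# The concrete base: an element of `G` fixing one explicit vector of the 4371-dimensional model is trivial

`vB` (planes) is `16 v`, `v = 128 d₀ + 55 d₁ + ∑ (i + 1) g_i e₀ + s` (22 classes `g_i e₀`, one spin vector `s`).
`eq_one` : a word `w` with `W w ∈ G` and `checkFix (w.map Ltr.prog) vB = true` is trivial.
-/

set_option autoImplicit false

namespace Cfsg.Agent.BabyM.WordsInst

open Cfsg.Agent.Monster.VecEngine Cfsg.Agent.Monster.VecSpace Cfsg.Agent.Monster.PlaneArith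
  Cfsg.Agent.BabyM.Conc Cfsg.Agent.BabyM.InstVec Cfsg.Agent.BabyM.Model Cfsg.Agent.BabyM.Inst
  Cfsg.Agent.BabyM.InstZ Cfsg.Agent.BabyM.WordsBase

/-! ### Linear combinations of planes -/

/-- add a linear combination with natural coefficients -/
noncomputable def lin (l : List (ℕ × Pl)) : Pl → (Pl → Bool) → Bool :=
  List.rec (motive := fun _ => Pl → (Pl → Bool) → Bool) (fun x k => k x)
    (fun p _ ih x k => go (add x (mul (cst 8192 9 p.1) p.2) 0) fun y => ih y k) l

theorem lin_sound (l : List (ℕ × Pl)) (hl : ∀ p ∈ l, p.1 < 2 ^ 9) (x : Pl) (k : Pl → Bool)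
    (h : lin l x k = true) : ∃ y, (∀ i < 8192, val y i = val x i +
      (l.map fun p => (p.1 : ℤ) * val p.2 i).sum) ∧ k y = true := by
  induction l generalizing x with
  | nil => exact ⟨x, fun i _ => by simp, h⟩
  | cons p l ih =>
    have h' : go (add x (mul (cst 8192 9 p.1) p.2) 0) (fun y => lin l y k) = true := h
    rw [go_eq] at h'
    obtain ⟨y, hy, hk⟩ := ih (fun q hq => hl q (by simp [hq])) _ h'
    refine ⟨y, fun i hi => ?_, hk⟩
    have hp := hl p (by simp)
    rw [hy i hi, val_norm, val_add, val_mul, val_cst _ _ _ _ hi (by omega), if_pos hp,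
      Cfsg.Agent.Monster.PlaneArith.bt_zero, List.map_cons, List.sum_cons]
    ring

theorem lane_lt (i : Lane U) : i.1 < 8192 := by
  by_contra h
  have h1 := Nat.testBit_lt_two_pow (lt_of_lt_of_le U_lt (Nat.pow_le_pow_right (by norm_num) (not_lt.1 h)))
  rw [i.2] at h1
  exact absurd h1 (by simp)

theorem vecU_lin (l : List (ℕ × Pl)) (hl : ∀ p ∈ l, p.1 < 2 ^ 9) (y : Pl)
    (h : lin l (.sgn 0) (fun z => eqP (norm z) (norm y)) = true) :
    vecU ℚ U y = (l.map fun p => (p.1 : ℚ) • vecU ℚ U p.2).sum := by
  obtain ⟨z, hz, hk⟩ := lin_sound l hl _ _ h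
  funext i
  have h1 : val y i.1 = (l.map fun p => (p.1 : ℤ) * val p.2 i.1).sum := by
    rw [← val_norm y, ← eq_of_eqP hk, val_norm, hz _ (lane_lt i), val_sgn,
      Cfsg.Agent.Monster.PlaneArith.bt_zero, neg_zero, zero_add]
  have h2 : ∀ l : List (ℕ × Pl), (l.map fun p => (p.1 : ℚ) • vecU ℚ U p.2).sum i =
      (((l.map fun p => (p.1 : ℤ) * val p.2 i.1).sum : ℤ) : ℚ) := by
    intro l
    induction l with
    | nil => simp
    | cons p l ih =>
      rw [List.map_cons, List.sum_cons, List.map_cons, List.sum_cons, Pi.add_apply, ih,
        Pi.smul_apply, smul_eq_mul]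
      push_cast
      rfl
  rw [h2, ← h1]
  rfl

/-! ### The data -/

/-- planes of `64` at one lane -/
def posP (l : ℕ) : Pl :=
  .cons 0 (.cons 0 (.cons 0 (.cons 0 (.cons 0 (.cons 0 (.cons (2 ^ l) (.sgn 0)))))))

/-- planes of `-64` at one lane -/
def negP (l : ℕ) : Pl := .cons 0 (.cons 0 (.cons 0 (.cons 0 (.cons 0 (.cons 0 (.sgn (2 ^ l)))))))

theorem val_posP (l i : ℕ) : val (posP l) i = if i = l then 64 else 0 := by
  unfold posP
  simp only [val_cons, val_sgn, bt_two_pow, Cfsg.Agent.Monster.PlaneArith.bt_zero]
  split_ifs <;> norm_num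

theorem val_negP (l i : ℕ) : val (negP l) i = if i = l then -64 else 0 := by
  unfold negP
  simp only [val_cons, val_sgn, bt_two_pow, Cfsg.Agent.Monster.PlaneArith.bt_zero]
  split_ifs <;> norm_num

theorem vecU_posP (l : Lane U) : vecU ℚ U (posP l.1) = (8 : ℚ) • Pi.single l 8 := by
  funext i
  show ((val (posP l.1) i.1 : ℤ) : ℚ) = (8 : ℚ) * (Pi.single l 8 : V) i
  rw [val_posP]
  by_cases h : i = l
  · subst h
    rw [if_pos rfl, Pi.single_eq_same]
    norm_num
  · have h1 : i.1 ≠ l.1 := fun h2 => h (Subtype.ext h2)
    rw [if_neg h1, Pi.single_eq_of_ne h]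
    norm_num

theorem vecU_negP (l : Lane U) : vecU ℚ U (negP l.1) = (8 : ℚ) • - Pi.single l 8 := by
  funext i
  show ((val (negP l.1) i.1 : ℤ) : ℚ) = (8 : ℚ) * (- (Pi.single l 8 : V)) i
  rw [val_negP, Pi.neg_apply]
  by_cases h : i = l
  · subst h
    rw [if_pos rfl, Pi.single_eq_same]
    norm_num
  · have h1 : i.1 ≠ l.1 := fun h2 => h (Subtype.ext h2)
    rw [if_neg h1, Pi.single_eq_of_ne h]
    norm_num

/-- the lanes of the 22 classes -/
def lanes : Fin 22 → ℕ :=
  ![1282, 1288, 1313, 209, 1284, 1296, 1314, 212, 216, 960, 1285, 1289, 1300, 145, 489, 608, 647, 14, 86, 195, 420, 2162]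

/-- the signs of the 22 classes -/
def sgs : Fin 22 → Bool :=
  ![true, false, true, false, true, false, true, true, true, true, false, false, true, false, false, false, true, true, false, true, false, true]

/-- the words of the 22 classes -/
def gw : Fin 22 → List Ltr :=
  ![[.p],
    [.h],
    [.y1],
    [.h, .xi],
    [.p, .p],
    [.h, .p],
    [.y1, .p],
    [.h, .xi, .y5],
    [.h, .xi, .y9],
    [.p, .p, .xi],
    [.p, .p, .h],
    [.h, .p, .p],
    [.h, .p, .h],
    [.p, .p, .h, .xi],
    [.h, .p, .h, .xi],
    [.p, .p, .xi, .h],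
    [.h, .xi, .p, .p],
    [.p, .p, .h, .xi, .p],
    [.h, .p, .h, .xi, .h],
    [.p, .p, .xi, .h, .p],
    [.h, .xi, .p, .p, .p],
    [.h, .p, .xi, .p, .xi]]

theorem lanes_mem : ∀ i, U.testBit (lanes i) = true := by decide +kernel

/-- the lanes of the 22 classes -/
def lane (i : Fin 22) : Lane U := ⟨lanes i, lanes_mem i⟩

/-- planes of `8 g_i e₀` -/
def ep (i : Fin 22) : Pl := bif sgs i then posP (lanes i) else negP (lanes i)

theorem gw_check : ∀ i, check ((gw i).map Ltr.prog) e0P [] (ep i) = true := by decide +kernel

/-- the sign as a rational number -/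
def ε (i : Fin 22) : ℚ := bif sgs i then 1 else -1

theorem vecU_ep (i : Fin 22) : vecU ℚ U (ep i) = (8 : ℚ) • (ε i • Pi.single (lane i) 8) := by
  unfold ep ε
  cases sgs i
  · have := vecU_negP (lane i)
    rw [cond_false, cond_false, neg_smul, one_smul]
    exact this
  · have := vecU_posP (lane i)
    rw [cond_true, cond_true, one_smul]
    exact this

theorem vecU_ep' (i : Fin 22) : vecU ℚ U (ep i) = (8 : ℚ) • W (gw i) e₀ := by
  have h : W (gw i) (vecU ℚ U e0P) = W [] (vecU ℚ U (ep i)) := W_eq_of_check (gw_check i)
  have h2 : (e₀ : V) = (1 / 8 : ℚ) • vecU ℚ U e0P := rfl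
  rw [h2, map_smul, h, W_nil, smul_smul]
  norm_num

theorem g_e₀ (i : Fin 22) : W (gw i) e₀ = ε i • Pi.single (lane i) 8 := by
  have h := (vecU_ep' i).symm.trans (vecU_ep i)
  have h8 : (8 : ℚ) ≠ 0 := by norm_num
  exact smul_right_injective V h8 h

theorem ε_cases (i : Fin 22) : ε i = 1 ∨ ε i = -1 := by
  unfold ε; cases sgs i
  · exact Or.inr rfl
  · exact Or.inl rfl

/-- the spin lane of the base -/
def laneS : Lane U := ⟨4096, by decide +kernel⟩

/-- The base. -/
noncomputable def base : Base M 22 where
  g i := W (gw i)
  c i := ((i : ℕ) : ℚ) + 1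
  c₀ := 128
  c₁ := 55
  s := Pi.single laneS 8

theorem gw_isC : ∀ i, ∀ l ∈ gw i, l.isC = true := by decide +kernel

theorem g_mem (i : Fin 22) : base.g i ∈ M.C := W_mem_C fun l hl => E_mem_C (gw_isC i l hl)

theorem lanes_inj : Function.Injective lanes := by decide +kernel

theorem single_ne {k l : Lane U} (h : k ≠ l) {a b : ℚ} (ha : a ≠ 0) :
    (Pi.single k a : V) ≠ Pi.single l b := by
  intro h1
  have h2 := congrFun h1 k
  rw [Pi.single_eq_same, Pi.single_eq_of_ne h] at h2
  exact ha h2

theorem smul_single (c a : ℚ) (k : Lane U) : (c • (Pi.single k a : V)) = Pi.single k (c * a) := by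
  funext i
  by_cases h : i = k
  · subst h; simp
  · rw [Pi.smul_apply, Pi.single_eq_of_ne h, Pi.single_eq_of_ne h, smul_zero]

theorem neg_single (a : ℚ) (k : Lane U) : - (Pi.single k a : V) = Pi.single k (-a) := by
  have := smul_single (-1) a k
  rw [neg_smul, one_smul, neg_one_mul] at this
  exact this

theorem ε_ne (i : Fin 22) : ε i * 8 ≠ 0 := by
  rcases ε_cases i with h | h <;> rw [h] <;> norm_num

theorem ne (i : Fin 22) : base.g i M.e₀ ≠ M.e₀ ∧ base.g i M.e₀ ≠ - M.e₀ := by
  have hl : ∀ i, lanes i ≠ 1281 := by decide +kernel
  have h : lane i ≠ laneB := fun h => hl i (congrArg Subtype.val h)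
  show W (gw i) e₀ ≠ e₀ ∧ W (gw i) e₀ ≠ - e₀
  rw [g_e₀, e₀_eq, smul_single, neg_single]
  exact ⟨single_ne h (ε_ne i), single_ne h (ε_ne i)⟩

theorem ne' (i j : Fin 22) (hij : i ≠ j) : base.g i M.e₀ ≠ base.g j M.e₀ ∧
    base.g i M.e₀ ≠ - base.g j M.e₀ := by
  have h : lane i ≠ lane j := fun h => hij (lanes_inj (congrArg Subtype.val h))
  show W (gw i) e₀ ≠ W (gw j) e₀ ∧ W (gw i) e₀ ≠ - W (gw j) e₀
  rw [g_e₀, g_e₀, smul_single, smul_single, neg_single]
  exact ⟨single_ne h (ε_ne i), single_ne h (ε_ne i)⟩

theorem s_neg : M.z base.s = - base.s := by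
  funext i
  show z (Pi.single laneS 8) i = - (Pi.single laneS 8 : V) i
  rw [z_apply]
  by_cases h : i = laneS
  · subst h
    rw [if_pos (show mSpin.testBit laneS.1 = true from (show mSpin.testBit 4096 = true by decide +kernel))]
  · rw [Pi.single_eq_of_ne h]
    simp

theorem s_ne : base.s ≠ 0 := by
  intro h
  have h1 := congrFun h laneS
  change (Pi.single laneS 8 : V) laneS = 0 at h1
  rw [Pi.single_eq_same] at h1
  norm_num at h1

theorem wt_S : val wt 4096 = 0 := by decide +kernel

theorem F_s : M.F base.s base.s = 4 := by
  show F (Pi.single laneS 8) (Pi.single laneS 8) = 4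
  rw [F_single, Pi.single_eq_same]
  show 1 / 16 * ((2 : ℚ) ^ (-(val wt 4096)) * 8 * 8) = 4
  rw [wt_S]
  norm_num

theorem sum_c : ∑ i : Fin 22, base.c i ^ 2 = 3795 := by
  show ∑ i : Fin 22, (((i : ℕ) : ℚ) + 1) ^ 2 = 3795
  have h : ∑ i : Fin 22, (((i : ℕ) : ℚ) + 1) ^ 2 = ((∑ i : Fin 22, ((i : ℕ) + 1) ^ 2 : ℕ) : ℚ) := by
    push_cast
    rfl
  rw [h, show (∑ i : Fin 22, ((i : ℕ) + 1) ^ 2 : ℕ) = 3795 from by decide]
  norm_num

/-- The conditions on the base. -/
theorem ok (val : ∀ j, ∀ b ∈ M.S, b = M.d j ∨ M.F b (M.d j) ≤ 1)
    (rig : ∀ g ∈ M.G, g M.d₀ = M.d₀ → g M.d₁ = M.d₁ → g ∈ M.C)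
    (gen : M.Q ≤ Subgroup.closure (Set.range (fun i => base.g i * M.t₀ * (base.g i)⁻¹) ∪ {M.z})) :
    base.Ok where
  pos := F_self_nonneg
  val := val
  rig := rig
  g_mem := g_mem
  c_pos i := by
    show (0 : ℚ) < ((i : ℕ) : ℚ) + 1
    positivity
  c_inj i j h := by
    have h1 : ((i : ℕ) : ℚ) + 1 = ((j : ℕ) : ℚ) + 1 := h
    have h2 : ((i : ℕ) : ℚ) = (j : ℕ) := by linarith
    exact Fin.ext (by exact_mod_cast h2)
  ne := ne
  ne' := ne'
  gen := gen
  s_neg := s_neg
  s_ne := s_ne
  c₁_pos := by show (0 : ℚ) < 55; norm_num
  c₀_pos := by show (8 : ℚ) * 55 < 6 * 128; norm_num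
  bound₁ := by
    rw [sum_c, F_s]
    show (7 : ℚ) * (4 * 3795 + 4) < 36 * 55 ^ 2
    norm_num
  bound₀ := by
    rw [sum_c, F_s]
    show (7 : ℚ) * (4 * 3795 + 4) < (6 * 128 - 8 * 55) ^ 2
    norm_num

/-! ### The vector -/

/-- planes of `16 v` (`16 v` stays integral under all elements of `G`) -/
def vB : Pl := .cons 0x0 (.cons 0x0 (.cons 0x0 (.cons 0x0 (.cons 0x0 (.cons 0x0 (.cons 0x3000000000000000000000000000000000000000000000000000000000000000000000000000000000000000000000000000000000000000000000000000000000000000000000000000000000000000000000000000000000000000000000000000000000000000000000000000000000000000000000000000000000000000000000000000000000000000000000000000000000000000000000000000000000000000000000000 (.cons 0x1000000000000000000000000000000000000000000000000000000000000000000000000000000000000000000000000000000000000000000000000000000000000000000000000000000000000000000000000000000000000000000000000000000000000000000000000000000000000000000000000000000000000000000000000000000000000000000000000000000000000000000000000000000000000000000000000000000000000000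0000000000000000000000000000000000000000000000000000000000000000000000000000000000000000000000000000000000000000000000000000000000000000000000000000000000000000000000000000000000000000000000000000000000000000000000000000000000000000000000000000000000000000000000000000000000000000000000000000000000000000000000000000000000000000000000001000000060010003600000000000000000000000000000000000000000000000000000000000000000000000000000000000000000000000000000000000000000000000000000000000000000000000000000000000000800000000000000000000000000000000000000200000000000000001000000000000000000000000000000000000000000000000001000000000000000000000000000000004000000000000000000000 (.cons 0x4000000000000000000000000000000000000000000000000000000000000000000000000000000000000000000000000000000000000000000000000000000000000000000000000000000000000000000000000000000000000000000000000000000000001000000060001010000000000000000000000000000000000000000000000000000000000000000000000000000000001000000000000000000000000000000000000000000000000000000000000000000000000000000000000000000000000000000000000000000000000000000000000001000000000000000000000000000000000000000000000000000000000000000000002000000000000000000000000000000004000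 (.cons 0x4000000000000000000000000000000000000000000000000000000000000000000000000000000000000000000000000000000000000000000000000000000000000000000000000000000000000000000000000000000000000000000000000000000000002000000040010033000000000000000000000000000000000000000000000000000000000000000000000000000000000000000000000000000000000000000000000000000000000000000000000000000000000000000000000000000000000000000000000000000000000000000000000000000000000000000000000000000000000000000000000000000020008000000000000000000000000004000000000000000000000 (.cons 0x1000000000011010200000000000000000000000000000000000000000000000000000000000000000000000000000001000000000000000000000000000000000000000000000000000000000000000000000000000000000000000000000000000000000000000000000000000000000000001000000000000000000000000000000000000000000000000001120000000000000000000000000000004000000000000000000000 (.cons 0x4000000000000000000000000000000000000000000000000000000000000000000000000000000000000000000000000000000000000000000000000000000000000000000000000000000000000000000000000000000000000000000000000000000000001000000000001032000000000000000000000000000000000000000000000000000000000000000000000000000000000000000000000000000000000000000000000000000000000000000000000000000000000000000800000000100000000000000000000000000000200000000000000000000000000000000000000000000000000000000000000000000020008000000000002000000000000000000000000000000004000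 (.cons 0x2000000000001032000000000000000000000000000000000000000000000000000000000000000000000000000000000000000000000000000000000000000000000000000000000000000000000000000000000000000000000000100000000000000000000000000000200000000000000001000000000000000000000000000000000000000000000000000020000000000000002000000000000004000000000000000000000 (.cons 0x1000000000001032200000000000000000000000000000000000000000000000000000000000000000000000000000000000000000000000000000000000000000000000000000000000000000000000000000000000000000000000100000000000000000000000000000200000000000000001000000000000000000000000000000000000000000000000000020000000000000002000000000000004000000000000000000000 (.sgn 0x2000000000001032000000000000000000000000000000000000000000000000000000000000000000000000000000000000000000000000000000000000000000000000000000000000000000000000000000000000000000000000100000000000000000000000000000200000000000000001000000000000000000000000000000000000000000000000000020000000000000002000000000000004000000000000000000000))))))))))))))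

/-- planes of `8 d₁` -/
def d1P : Pl := .cons 0x0 (.cons 0x0 (.cons 0x0 (.cons 0x0 (.cons 0x0 (.cons 0x3000000000000000000000000000000000000000000000000000000000000000000000000000000000000000000000000000000000000000000000000000000000000000000000000000000000000000000000000000000000000000000000000000000000000000000000000000000000000000000000000000000000000000000000000000000000000000000000000000000000000000000000000000000000000000000000000 (.sgn 0x2000000000000000200000000000000000000000000000000000000000000000000000000000000000000000000000000000000000000000000000000000000000000000000000000000000000000000000000000000000000000000000000000000000000000000000000000000000000000000000000000000000000000000000000000000000000000000000000000000000000000000000000000000000000000000000000000))))))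

/-- planes of `8 s` -/
def sP : Pl := posP 4096

/-- the coefficients of `16 v` -/
noncomputable def coef : List (ℕ × Pl) :=
  (256, dv0) :: (110, d1P) :: (2, sP) :: (List.finRange 22).map fun i : Fin 22 => (2 * ((i : ℕ) + 1), ep i)

theorem coef_lt : ∀ p ∈ coef, p.1 < 2 ^ 9 := by
  intro p hp
  simp only [coef, List.mem_cons, List.mem_map] at hp
  rcases hp with rfl | rfl | rfl | ⟨i, -, rfl⟩
  · norm_num
  · norm_num
  · norm_num
  · have := i.2
    show 2 * ((i : ℕ) + 1) < 2 ^ 9
    omega

theorem coef_check : lin coef (.sgn 0) (fun z => eqP (norm z) (norm vB)) = true := by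
  decide +kernel

theorem vecU_d1P : vecU ℚ U d1P = (8 : ℚ) • (u₀ - e₀) := by
  have h : vecU ℚ U (add d1P e0P 0) = vecU ℚ U u0P :=
    vecU_congr (show eqP (norm (add d1P e0P 0)) (norm u0P) = true by decide +kernel)
  rw [vecU_add] at h
  have h1 : vecU ℚ U d1P = vecU ℚ U u0P - vecU ℚ U e0P := eq_sub_of_add_eq h
  have h2 : (u₀ : V) = (1 / 8 : ℚ) • vecU ℚ U u0P := rfl
  have h3 : (e₀ : V) = (1 / 8 : ℚ) • vecU ℚ U e0P := rfl
  rw [h1, h2, h3, ← smul_sub, smul_smul]
  norm_num

/-- the vector of the base -/
theorem v_eq : vecU ℚ U vB = (16 : ℚ) • base.v := by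
  have h1 := vecU_lin coef coef_lt _ coef_check
  have h3 : vecU ℚ U dv0 = (8 : ℚ) • (u₀ + e₀) := by
    rw [← d_zero]
    show _ = (8 : ℚ) • ((1 / 8 : ℚ) • vecU ℚ U dv0)
    rw [smul_smul]
    norm_num
  have h4 : vecU ℚ U sP = (8 : ℚ) • Pi.single laneS 8 := vecU_posP laneS
  have h5 : (((List.finRange 22).map fun i : Fin 22 => (2 * ((i : ℕ) + 1), ep i)).map
      fun p : ℕ × Pl => (p.1 : ℚ) • vecU ℚ U p.2).sum =
      (16 : ℚ) • ∑ i : Fin 22, base.c i • base.g i M.e₀ := by
    rw [List.map_map, Finset.smul_sum, ← List.sum_ofFn, List.ofFn_eq_map]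
    congr 1
    apply List.map_congr_left
    intro i _
    show (((2 * ((i : ℕ) + 1) : ℕ) : ℚ)) • vecU ℚ U (ep i) = (16 : ℚ) • ((((i : ℕ) : ℚ) + 1) • W (gw i) e₀)
    rw [vecU_ep', smul_smul, smul_smul]
    congr 1
    push_cast
    ring
  rw [h1]
  unfold coef
  rw [List.map_cons, List.sum_cons, List.map_cons, List.sum_cons, List.map_cons, List.sum_cons, h5,
    h3, vecU_d1P, h4]
  show ((256 : ℕ) : ℚ) • ((8 : ℚ) • (u₀ + e₀)) + (((110 : ℕ) : ℚ) • ((8 : ℚ) • (u₀ - e₀)) +
    (((2 : ℕ) : ℚ) • ((8 : ℚ) • (Pi.single laneS 8 : V)) +
      (16 : ℚ) • ∑ i : Fin 22, base.c i • base.g i M.e₀)) =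
    (16 : ℚ) • ((128 : ℚ) • (u₀ + e₀) + (55 : ℚ) • (u₀ - e₀) +
      (∑ i : Fin 22, base.c i • base.g i M.e₀ + Pi.single laneS 8))
  push_cast
  module

/-- **A word fixing the vector of the base is trivial.** -/
theorem eq_one {K₀ : Type} [Group K₀] (A : BAll M K₀) (O : base.Ok) {w : List Ltr}
    (hw : W w ∈ M.G) (h : checkFix (w.map Ltr.prog) vB = true) : W w = 1 := by
  apply base.eq_one A O _ hw
  have h1 : W w (vecU ℚ U vB) = vecU ℚ U vB := W_fix_of_check h
  rw [v_eq, map_smul] at h1
  exact smul_right_injective V (show (16 : ℚ) ≠ 0 by norm_num) h1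

/-- **Words with the same value on the vector of the base are equal.** -/
theorem eq_of_check {K₀ : Type} [Group K₀] (A : BAll M K₀) (O : base.Ok) {w w' : List Ltr}
    (hw : W w ∈ M.G) (hw' : W w' ∈ M.G)
    (h : check (w.map Ltr.prog) vB (w'.map Ltr.prog) vB = true) : W w = W w' := by
  have h1 : W w (vecU ℚ U vB) = W w' (vecU ℚ U vB) := W_eq_of_check h
  rw [v_eq, map_smul, map_smul] at h1
  have h2 := smul_right_injective V (show (16 : ℚ) ≠ 0 by norm_num) h1
  have h3 : (W w')⁻¹ * W w = 1 := by
    apply base.eq_one A O _ (M.G.mul_mem (M.G.inv_mem hw') hw)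
    rw [LinearEquiv.mul_apply, h2, inv_apply_self']
  rw [inv_mul_eq_one] at h3
  exact h3.symm

end Cfsg.Agent.BabyM.WordsInst
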