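import Cfsg.Agent.BabyM.KQ
import Cfsg.Agent.BabyM.Inst
set_option linter.all false

/-!
# The classes and vectors of the X-lanes (helper235)

The classes of the X-lanes are different and generate the Pauli group; the unit vectors of the `23`-part are in the span of the `u_i`.
-/

set_option autoImplicit false

namespace Cfsg.Agent.BabyM.KGood

open Cfsg.Agent.Lib.PermNet hiding tb tb_eq
open Cfsg.Agent.Monster Cfsg.Agent.Monster.VecEngine Cfsg.Agent.Monster.VecSpace
open Cfsg.Agent.Monster.PauliBasic Cfsg.Agent.Monster.PauliRep Cfsg.Agent.Monster.PauliClif Cfsg.Agent.Monster.PauliBits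
open Cfsg.Agent.BabyM.KTabData Cfsg.Agent.BabyM.QAct Cfsg.Agent.BabyM.QData Cfsg.Agent.BabyM.QData.Good
open Cfsg.Agent.BabyM.Conc Cfsg.Agent.BabyM.KTab Cfsg.Agent.BabyM.KRow Cfsg.Agent.BabyM.KQ

/-! ### The classes are different -/

/-- The X-lane with the `k`-th code. -/
noncomputable def ord (k : ℕ) : ℕ := fld ordT 12 0xfff k

/-- The rank of the code of an X-lane. -/
noncomputable def rk (i : ℕ) : ℕ := fld rkT 12 0xfff i

theorem ord_rk_check : allN 12 (fun i => Bool.rec true (Bool.rec (and (Nat.beq (ord (rk i)) i) (Nat.blt (rk i) 2300)) true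
    (Nat.beq (cd i) 0)) (Nat.testBit U i)) 0 = true := by
  decide +kernel

theorem sorted_check : allN 12 (fun k => Bool.rec true (Nat.blt (cd (ord k)) (cd (ord (Nat.succ k)))) (Nat.blt k 2299)) 0 =
    true := by
  decide +kernel

theorem blt_iff (a b : ℕ) : Nat.blt a b = true ↔ a < b := by
  unfold Nat.blt
  rw [Nat.ble_eq]; rfl

theorem ord_rk {i : ℕ} (hi : U.testBit i = true) (h1 : i < 4096) (h2 : cd i ≠ 0) : ord (rk i) = i ∧ rk i < 2300 := by
  have h := allN_spec ord_rk_check (Nat.zero_le i) (by rw [zero_add]; exact h1)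
  simp only [hi] at h
  have h0 : Nat.beq (cd i) 0 = false := by
    rw [Bool.eq_false_iff]
    intro hh
    exact h2 (Nat.eq_of_beq_eq_true hh)
  rw [h0] at h
  have h3 : and (Nat.beq (ord (rk i)) i) (Nat.blt (rk i) 2300) = true := h
  rw [Bool.and_eq_true, blt_iff] at h3
  exact ⟨Nat.eq_of_beq_eq_true h3.1, h3.2⟩

theorem cd_ord_lt {a b : ℕ} (hab : a < b) (hb : b < 2300) : cd (ord a) < cd (ord b) := by
  induction b with
  | zero => omega
  | succ b ih =>
    have h := allN_spec sorted_check (Nat.zero_le b) (by omega)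
    have h0 : Nat.blt b 2299 = true := (blt_iff _ _).mpr (by omega)
    simp only [h0] at h
    have h2 : cd (ord b) < cd (ord (b + 1)) := (blt_iff _ _).mp h
    by_cases h3 : a = b
    · rw [h3]; exact h2
    · exact (ih (by omega) (by omega)).trans h2

theorem cd_inj {i j : ℕ} (hi : U.testBit i = true) (hi1 : i < 4096) (hi2 : cd i ≠ 0)
    (hj : U.testBit j = true) (hj1 : j < 4096) (hj2 : cd j ≠ 0) (h : cd i = cd j) : i = j := by
  obtain ⟨h1, h2⟩ := ord_rk hi hi1 hi2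
  obtain ⟨h3, h4⟩ := ord_rk hj hj1 hj2
  rcases lt_trichotomy (rk i) (rk j) with h5 | h5 | h5
  · have := cd_ord_lt h5 h4
    rw [h1, h3, h] at this
    exact absurd this (lt_irrefl _)
  · rw [← h1, h5, h3]
  · have := cd_ord_lt h5 h2
    rw [h1, h3, h] at this
    exact absurd this (lt_irrefl _)

theorem c_inj : ∀ i j, Cd.isX i → Cd.isX j → ab (Cd.c i) = ab (Cd.c j) → i = j := by
  intro i j hi hj h
  rw [isX_iff] at hi hj
  exact Subtype.ext (cd_inj i.2 hi.1 hi.2 j.2 hj.1 hj.2 (eq_of_ab_dec (cd_lt _) (cd_lt _) h))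

/-! ### The classes generate -/

/-- The sum of the codes of a list of lanes. -/
noncomputable def xr (l : List ℕ) : ℕ := List.rec 0 (fun i _ ih => Nat.xor (cd i) ih) l

/-- All lanes of the list are X-lanes. -/
noncomputable def okX (l : List ℕ) : Bool :=
  List.rec true (fun i _ ih => and (and (Nat.testBit U i) (and (Nat.blt i 4096) (not (Nat.beq (cd i) 0)))) ih) l

/-- Lanes whose codes add up to `2 ^ k`. -/
def genL : List (List ℕ) :=
  [[1293], [1294], [1295], [1296], [1297], [1298], [1299], [1300], [1301], [1302], [1293, 1325], [965, 944], [921, 908],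
    [1294, 1005, 981], [959, 908], [978, 908], [1296, 1135, 1093], [1297, 1067, 917], [1097, 908], [1168, 944],
    [1293, 1180, 693], [2048]]

theorem gen_check : ∀ k < 22, and (okX (genL.getD k [])) (Nat.beq (xr (genL.getD k [])) (Nat.pow 2 k)) = true := by
  decide +kernel

theorem ab_dec_xor (a b : ℕ) : ab (dec 11 (a ^^^ b)) = ab (dec 11 a) + ab (dec 11 b) := by
  refine Prod.ext ?_ ?_
  · funext i
    show bit (a ^^^ b) (11 + i.1) = bit a (11 + i.1) + bit b (11 + i.1)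
    rw [bit_xor]
  · funext i
    show bit (a ^^^ b) i.1 = bit a i.1 + bit b i.1
    rw [bit_xor]

theorem z_not_one : (Pauli.z 11) ∈ Subgroup.closure {x : Pauli 11 | ∃ i, Cd.isX i ∧ ab x = ab (Cd.c i)} := by
  have hX : Cd.isX Inst.laneB := by
    rw [isX_iff]
    exact ⟨by decide, by decide +kernel⟩
  have h1 : Cd.c Inst.laneB ∈ Subgroup.closure {x : Pauli 11 | ∃ i, Cd.isX i ∧ ab x = ab (Cd.c i)} :=
    Subgroup.subset_closure ⟨_, hX, rfl⟩
  have h2 : Pauli.z 11 * Cd.c Inst.laneB ∈ Subgroup.closure {x : Pauli 11 | ∃ i, Cd.isX i ∧ ab x = ab (Cd.c i)} :=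
    Subgroup.subset_closure ⟨_, hX, by rw [Pauli.z_mul]; rfl⟩
  have h3 := Subgroup.mul_mem _ h2 (Subgroup.inv_mem _ h1)
  rwa [mul_inv_cancel_right] at h3

theorem mem_xr {H : Subgroup (Pauli 11)} (hz : Pauli.z 11 ∈ H) (hH : ∀ i, Cd.isX i → Cd.c i ∈ H) (l : List ℕ)
    (hl : okX l = true) : dec 11 (xr l) ∈ H := by
  induction l with
  | nil =>
    show dec 11 0 ∈ H
    rw [dec_zero]; exact H.one_mem
  | cons i l ih =>
    have hl' : and (and (Nat.testBit U i) (and (Nat.blt i 4096) (not (Nat.beq (cd i) 0)))) (okX l) = true := hl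
    rw [Bool.and_eq_true, Bool.and_eq_true, Bool.and_eq_true, blt_iff] at hl'
    obtain ⟨⟨h1, h2, h3⟩, h4⟩ := hl'
    have h5 : cd i ≠ 0 := by
      intro hh
      rw [hh] at h3
      exact absurd h3 (by decide)
    have h6 : dec 11 (cd i) ∈ H := hH ⟨i, h1⟩ (isX_iff.mpr ⟨h2, h5⟩)
    have h7 : ab (dec 11 (xr (i :: l))) = ab (dec 11 (cd i) * dec 11 (xr l)) := by
      rw [ab_mul]; exact ab_dec_xor _ _
    rcases (ab_eq_iff _ _).mp h7 with h8 | h8
    · rw [h8]; exact H.mul_mem h6 (ih h4)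
    · rw [h8]; exact H.mul_mem hz (H.mul_mem h6 (ih h4))

theorem gen : Subgroup.closure {x : Pauli 11 | ∃ i, Cd.isX i ∧ ab x = ab (Cd.c i)} = ⊤ := by
  rw [eq_top_iff, ← closure_gens, Subgroup.closure_le]
  rintro x ⟨k, hk, rfl⟩
  have h := gen_check k hk
  rw [Bool.and_eq_true] at h
  have h2 : xr (genL.getD k []) = 2 ^ k := Nat.eq_of_beq_eq_true h.2
  rw [← h2]
  exact mem_xr z_not_one (fun i hi => Subgroup.subset_closure ⟨i, hi, rfl⟩) _ h.1

/-! ### The span of the vectors -/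

/-- `8` in lane `k`. -/
noncomputable def eight (k : ℕ) : Pl := .cons 0 (.cons 0 (.cons 0 (sun k false)))

theorem vecU_cons_zero (x : Pl) : vecU ℚ U (.cons 0 x) = (2 : ℚ) • vecU ℚ U x := by
  funext k
  show ((val (.cons 0 x) k.1 : ℤ) : ℚ) = 2 * ((val x k.1 : ℤ) : ℚ)
  rw [val_cons, Inst.bt_zero, zero_add]
  push_cast
  ring

theorem vecU_eight (k : Lane U) : vecU ℚ U (eight k.1) = (8 : ℚ) • (Pi.single k 1 : V) := by
  unfold eight
  rw [vecU_cons_zero, vecU_cons_zero, vecU_cons_zero, vecU_sun]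
  show (2 : ℚ) • (2 : ℚ) • (2 : ℚ) • sg ℚ 0 • (Pi.single k 1 : V) = _
  rw [sg_zero, one_smul, smul_smul, smul_smul]
  norm_num

/-- The check for lane `1344 + j`. -/
noncomputable def spanOK (j : ℕ) : Bool :=
  and (and (Nat.testBit U (Nat.add 1280 j)) (not (Nat.beq (cd (Nat.add 1280 j)) 0)))
    (and (and (Nat.testBit U (Nat.add 1312 j)) (not (Nat.beq (cd (Nat.add 1312 j)) 0)))
      (and (eqP (norm (uPl (Nat.add 1312 j))) (norm (add (uPl (Nat.add 1280 j)) (eight (Nat.add 1344 j)) 0)))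
        (eqP (norm (eight 1344)) (norm (add (uPl (Nat.add 1280 j)) (uPl (Nat.add 1312 j)) 0)))))

theorem span_check : ∀ j < 22, spanOK (j + 1) = true := by decide +kernel

theorem span_pair {j : ℕ} (hj : spanOK j = true) (hj' : j < 32) (hU : U.testBit (1344 + j) = true)
    (hI : U.testBit 1344 = true) :
    (Pi.single ⟨1344 + j, hU⟩ 1 : V) ∈ Submodule.span ℚ {x | ∃ i, Cd.isX i ∧ x = u i} ∧
    (Pi.single ⟨1344, hI⟩ 1 : V) ∈ Submodule.span ℚ {x | ∃ i, Cd.isX i ∧ x = u i} := by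
  have h : and (and (Nat.testBit U (1280 + j)) (not (Nat.beq (cd (1280 + j)) 0)))
    (and (and (Nat.testBit U (1312 + j)) (not (Nat.beq (cd (1312 + j)) 0)))
      (and (eqP (norm (uPl (1312 + j))) (norm (add (uPl (1280 + j)) (eight (1344 + j)) 0)))
        (eqP (norm (eight 1344)) (norm (add (uPl (1280 + j)) (uPl (1312 + j)) 0))))) = true := hj
  simp only [Bool.and_eq_true] at h
  obtain ⟨⟨h1, h2⟩, ⟨h3, h4⟩, h5, h6⟩ := h
  have hc : ∀ c, (!(Nat.beq (cd c) 0)) = true → cd c ≠ 0 := by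
    intro c hc h0
    rw [h0] at hc
    exact absurd hc (by decide)
  have hB : Cd.isX ⟨1280 + j, h1⟩ := isX_iff.mpr ⟨by show 1280 + j < 4096; omega, hc _ h2⟩
  have hC : Cd.isX ⟨1312 + j, h3⟩ := isX_iff.mpr ⟨by show 1312 + j < 4096; omega, hc _ h4⟩
  have e1 : u ⟨1312 + j, h3⟩ = u ⟨1280 + j, h1⟩ + (8 : ℚ) • (Pi.single ⟨1344 + j, hU⟩ 1 : V) := by
    have := Inst.vecU_congr h5
    rw [Inst.vecU_add, vecU_eight ⟨1344 + j, hU⟩] at this
    exact this
  have e2 : (8 : ℚ) • (Pi.single ⟨1344, hI⟩ 1 : V) = u ⟨1280 + j, h1⟩ + u ⟨1312 + j, h3⟩ := by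
    have := Inst.vecU_congr h6
    rw [Inst.vecU_add, vecU_eight ⟨1344, hI⟩] at this
    exact this
  have m1 : u ⟨1280 + j, h1⟩ ∈ Submodule.span ℚ {x | ∃ i, Cd.isX i ∧ x = u i} :=
    Submodule.subset_span ⟨_, hB, rfl⟩
  have m2 : u ⟨1312 + j, h3⟩ ∈ Submodule.span ℚ {x | ∃ i, Cd.isX i ∧ x = u i} :=
    Submodule.subset_span ⟨_, hC, rfl⟩
  constructor
  · have h7 : (Pi.single ⟨1344 + j, hU⟩ 1 : V) = (1 / 8 : ℚ) • (u ⟨1312 + j, h3⟩ - u ⟨1280 + j, h1⟩) := by
      rw [e1, add_sub_cancel_left, smul_smul]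
      norm_num
    rw [h7]
    exact Submodule.smul_mem _ _ (Submodule.sub_mem _ m2 m1)
  · have h7 : (Pi.single ⟨1344, hI⟩ 1 : V) = (1 / 8 : ℚ) • (u ⟨1280 + j, h1⟩ + u ⟨1312 + j, h3⟩) := by
      rw [← e2, smul_smul]
      norm_num
    rw [h7]
    exact Submodule.smul_mem _ _ (Submodule.add_mem _ m1 m2)

theorem u_span : ∀ j, Cd.isU j → (Pi.single j 1 : V) ∈ Submodule.span ℚ {x | ∃ i, Cd.isX i ∧ x = u i} := by
  rintro ⟨j, hj⟩ hU0
  have hU : 1344 ≤ j ∧ j ≤ 1366 := isU_iff.mp hU0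
  obtain ⟨k, rfl⟩ := Nat.exists_eq_add_of_le hU.1
  by_cases hk : k = 0
  · subst hk
    exact (span_pair (span_check 0 (by norm_num)) (by norm_num) (by decide +kernel) hj).2
  · obtain ⟨k, rfl⟩ := Nat.exists_eq_succ_of_ne_zero hk
    have h2 := hU.2
    have h3 : 1344 + (k + 1) ≤ 1366 := h2
    exact (span_pair (span_check k (by omega)) (by omega) hj (by decide +kernel)).1

end Cfsg.Agent.BabyM.KGood
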