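import Mathlib.RepresentationTheory.Basic
import Mathlib.LinearAlgebra.Matrix.ToLin
import Mathlib.LinearAlgebra.Matrix.GeneralLinearGroup.Defs
import Mathlib.GroupTheory.Perm.Cycle.Type
import Mathlib.GroupTheory.Subgroup.Simple
import Mathlib.Algebra.Field.ZMod
import Mathlib.Algebra.Module.PID
import Mathlib.Data.ZMod.Basic
import Mathlib.LinearAlgebra.FreeModule.PID
import Mathlib.RingTheory.Localization.Module
import Mathlib.Tactic
import Cfsg.Agent.S0752
set_option linter.all false

/-!
# From a faithful rational representation of odd degree to characteristic 2, one dimension less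

Let `K` be a finite simple group whose order is divisible by an odd prime, with a faithful rational
representation of odd degree `n ≥ 2`.  Then `K` embeds in `GL m 2` for every `m ≥ n - 1`.

* choose an invariant lattice; `K` acts by integral matrices;
* there is an invariant symmetric integral bilinear form, not divisible by two;
* reduce modulo two: the kernel of the reduction is a normal subgroup, it contains no element of
  odd prime order, so `K` stays faithful;
* the reduced form is either not alternating, and then `v ↦ β(v, v)` is a nonzero invariant linear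
  functional, or alternating, and then its radical is a proper nonzero submodule as `n` is odd;
* `K` is faithful on the submodule or on the quotient.
-/

set_option autoImplicit false

open scoped Matrix

namespace Cfsg.Agent.BabyM.ModTwo

/-! ## Powers of matrices that are trivial modulo two -/

theorem one_add_pow_eq {R : Type*} [Ring R] (B : R) (m : ℕ) :
    ∃ Y : R, (1 + B) ^ m = 1 + (m : R) * B + B * B * Y := by
  induction m with
  | zero => exact ⟨0, by simp⟩
  | succ m ih =>
    obtain ⟨Y, hY⟩ := ih
    refine ⟨Y + (m : R) + Y * B, ?_⟩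
    have hc : (m : R) * B = B * (m : R) := (Nat.cast_commute m B)
    rw [pow_succ, hY]
    push_cast
    have h1 : (m : R) * B * B = B * B * (m : R) := by
      rw [hc, mul_assoc, hc, mul_assoc]
    calc (1 + (m : R) * B + B * B * Y) * (1 + B)
        = 1 + (m : R) * B + B * B * Y + B + (m : R) * B * B + B * B * Y * B := by noncomm_ring
      _ = 1 + (m : R) * B + B * B * Y + B + B * B * (m : R) + B * B * Y * B := by rw [h1]
      _ = 1 + ((m : R) + 1) * B + B * B * (Y + (m : R) + Y * B) := by noncomm_ring

/-- An integral matrix of odd period which is trivial modulo two is trivial. -/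
theorem eq_one_of_pow_eq_one {n p : ℕ} (hp : Odd p) (M : Matrix (Fin n) (Fin n) ℤ)
    (hM : M ^ p = 1) (h2 : ∀ i j, (2 : ℤ) ∣ (M - 1) i j) : M = 1 := by
  obtain ⟨B, hB⟩ : ∃ B, B = M - 1 := ⟨_, rfl⟩
  have hMB : M = 1 + B := by rw [hB]; abel
  rw [← hB] at h2
  obtain ⟨Y, hY⟩ := one_add_pow_eq B p
  rw [← hMB, hM] at hY
  have hpB : (p : Matrix (Fin n) (Fin n) ℤ) * B = -(B * B * Y) := by
    have : (p : Matrix (Fin n) (Fin n) ℤ) * B + B * B * Y = 0 := by
      have h := hY
      rw [add_assoc] at h
      exact (left_eq_add.mp h)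
    exact eq_neg_of_add_eq_zero_left this
  have key : ∀ k : ℕ, ∀ i j, (2 : ℤ) ^ (k + 1) ∣ B i j := by
    intro k
    induction k with
    | zero => intro i j; simpa using h2 i j
    | succ k ih =>
      intro i j
      have h1 : ((p : Matrix (Fin n) (Fin n) ℤ) * B) i j = (p : ℤ) * B i j := by
        have : (p : Matrix (Fin n) (Fin n) ℤ) = Matrix.diagonal (fun _ => (p : ℤ)) := by
          ext a b
          simp [Matrix.diagonal, Matrix.natCast_apply]
        rw [this, Matrix.diagonal_mul]
      have h3 : (2 : ℤ) ^ (k + 1 + 1) ∣ (B * B * Y) i j := by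
        rw [Matrix.mul_apply]
        refine Finset.dvd_sum fun a _ => ?_
        refine Dvd.dvd.mul_right ?_ _
        rw [Matrix.mul_apply]
        refine Finset.dvd_sum fun b _ => ?_
        have := mul_dvd_mul (ih i b) (h2 b a)
        rwa [← pow_succ] at this
      have h4 : (2 : ℤ) ^ (k + 1 + 1) ∣ (p : ℤ) * B i j := by
        rw [← h1, hpB]
        simpa using h3
      refine IsCoprime.dvd_of_dvd_mul_left ?_ h4
      refine IsCoprime.pow_left ?_
      rw [Int.isCoprime_iff_gcd_eq_one]
      have := hp.coprime_two_left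
      simpa [Int.gcd] using this
  have hB0 : B = 0 := by
    ext i j
    by_contra hne
    have hne' : B i j ≠ 0 := hne
    have := Int.eq_zero_of_abs_lt_dvd (key (B i j).natAbs i j) (by
      rw [Int.abs_eq_natAbs]
      have : (B i j).natAbs < 2 ^ ((B i j).natAbs + 1) :=
        lt_trans Nat.lt_two_pow_self (Nat.pow_lt_pow_right (by norm_num) (Nat.lt_succ_self _))
      exact_mod_cast this)
    exact hne' this
  rw [hMB, hB0, add_zero]

/-! ## Submodule or quotient -/

/-- Over the field with two elements, a finite simple group with an element of odd prime order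
that is faithful on `V` is faithful on an invariant submodule or on the quotient. -/
theorem sub_or_quotient {K V : Type*} [Group K] [IsSimpleGroup K] [AddCommGroup V]
    [Module (ZMod 2) V] (ρ : Representation (ZMod 2) K V) (hρ : Function.Injective ρ)
    {p : ℕ} (hp : Odd p) (x : K) (hx1 : x ≠ 1) (hxp : x ^ p = 1)
    (W : Submodule (ZMod 2) V) (hW : ∀ g, W ≤ W.comap (ρ g)) :
    Function.Injective (ρ.subrepresentation W hW) ∨ Function.Injective (ρ.quotient W hW) := by
  by_contra hcon
  push Not at hcon
  obtain ⟨h1, h2⟩ := hcon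
  have hs : ∀ g, ρ.subrepresentation W hW g = 1 := by
    intro g
    rw [← MonoidHom.ker_eq_bot_iff] at h1
    have := (IsSimpleGroup.eq_bot_or_eq_top_of_normal _ inferInstance).resolve_left h1
    exact (MonoidHom.mem_ker).1 (this ▸ Subgroup.mem_top g)
  have hq : ∀ g, ρ.quotient W hW g = 1 := by
    intro g
    rw [← MonoidHom.ker_eq_bot_iff] at h2
    have := (IsSimpleGroup.eq_bot_or_eq_top_of_normal _ inferInstance).resolve_left h2
    exact (MonoidHom.mem_ker).1 (this ▸ Subgroup.mem_top g)
  have hw : ∀ g, ∀ w ∈ W, ρ g w = w := by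
    intro g w hw
    have := congrArg (fun f => ((f ⟨w, hw⟩ : W) : V)) (hs g)
    simpa using this
  have hv : ∀ g v, ρ g v - v ∈ W := by
    intro g v
    have := congrArg (fun f => f (Submodule.Quotient.mk v)) (hq g)
    rw [← Submodule.Quotient.eq]
    simpa using this
  have h2' : ∀ g : K, g ^ 2 = 1 := by
    intro g
    apply hρ
    rw [map_one, pow_two, map_mul]
    ext v
    have h3 : ρ g v = v + (ρ g v - v) := by abel
    rw [Module.End.mul_apply, h3, map_add, hw g _ (hv g v), h3]
    have h4 : (ρ g v - v) + (ρ g v - v) = 0 := by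
      rw [← two_smul (ZMod 2), show (2 : ZMod 2) = 0 from by decide, zero_smul]
    rw [Module.End.one_apply]
    calc v + (ρ g v - v) + (v + (ρ g v - v) - v)
        = v + ((ρ g v - v) + (ρ g v - v)) := by abel
      _ = v := by rw [h4, add_zero]
  obtain ⟨k, hk⟩ := hp
  apply hx1
  rw [hk, pow_succ, pow_mul, h2', one_pow, one_mul] at hxp
  exact hxp

/-- Padding a faithful representation by a trivial one. -/
theorem exists_injective_GL {K V : Type*} [Group K] {F : Type*} [Field F] [AddCommGroup V]
    [Module F V] [FiniteDimensional F V] (ρ : Representation F K V) (hρ : Function.Injective ρ)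
    {m : ℕ} (hm : Module.finrank F V ≤ m) :
    ∃ f : K →* GL (Fin m) F, Function.Injective f := by
  have hfr : Module.finrank F (V × (Fin (m - Module.finrank F V) → F)) = m := by
    rw [Module.finrank_prod, Module.finrank_fin_fun]; omega
  let b := Module.finBasisOfFinrankEq F (V × (Fin (m - Module.finrank F V) → F)) hfr
  let φ : K →* Module.End F (V × (Fin (m - Module.finrank F V) → F)) :=
    { toFun := fun g => (ρ g).prodMap LinearMap.id
      map_one' := by ext <;> simp
      map_mul' := fun g h => by ext <;> simp }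
  let ψ : K →* Matrix (Fin m) (Fin m) F :=
    (LinearMap.toMatrixAlgEquiv b).toMulEquiv.toMonoidHom.comp φ
  refine ⟨ψ.toHomUnits, ?_⟩
  intro g h hgh
  have h1 : ψ g = ψ h := by
    have := congrArg Units.val hgh
    simpa using this
  have h2 : φ g = φ h := (LinearMap.toMatrixAlgEquiv b).injective h1
  apply hρ
  ext v
  have := congrArg (fun f => (f (v, 0)).1) h2
  simpa [φ] using this

/-- Over the field with two elements, with an invariant symmetric nonzero form on a module of odd
dimension. -/
theorem exists_of_form {K : Type*} [Group K] [IsSimpleGroup K]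
    {p : ℕ} (hp : Odd p) (x : K) (hx1 : x ≠ 1) (hxp : x ^ p = 1)
    {n : ℕ} (hn : Odd n) (hn2 : 2 ≤ n) (M : K →* Matrix (Fin n) (Fin n) (ZMod 2))
    (hM : Function.Injective M) (S : Matrix (Fin n) (Fin n) (ZMod 2)) (hS : S ≠ 0)
    (hsymm : Sᵀ = S) (hinv : ∀ g, (M g)ᵀ * S * M g = S) {m : ℕ} (hm : n - 1 ≤ m) :
    ∃ f : K →* GL (Fin m) (ZMod 2), Function.Injective f := by
  classical
  let ρ : Representation (ZMod 2) K (Fin n → ZMod 2) :=
    (Matrix.toLinAlgEquiv' (R := ZMod 2) (n := Fin n)).toMulEquiv.toMonoidHom.comp M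
  have hρ : Function.Injective ρ := Matrix.toLinAlgEquiv'.injective.comp hM
  have hρa : ∀ g v, ρ g v = M g *ᵥ v := fun g v => rfl
  let β : LinearMap.BilinForm (ZMod 2) (Fin n → ZMod 2) := Matrix.toBilin' S
  have hβ : ∀ u v, β u v = u ⬝ᵥ S *ᵥ v := fun u v => Matrix.toBilin'_apply' S u v
  have hβinv : ∀ g u v, β (ρ g u) (ρ g v) = β u v := by
    intro g u v
    rw [hβ, hβ, hρa, hρa]
    conv_rhs => rw [← hinv g]
    rw [← Matrix.mulVec_mulVec, ← Matrix.mulVec_mulVec, Matrix.dotProduct_mulVec u,
      Matrix.vecMul_transpose]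
  have hβsymm : ∀ u v, β u v = β v u := by
    intro u v
    rw [hβ, hβ, Matrix.dotProduct_mulVec, dotProduct_comm, ← Matrix.mulVec_transpose, hsymm]
  -- it suffices to find an invariant submodule, neither zero nor everything
  suffices H : ∃ W : Submodule (ZMod 2) (Fin n → ZMod 2), (∀ g, W ≤ W.comap (ρ g)) ∧
      W ≠ ⊥ ∧ W ≠ ⊤ by
    obtain ⟨W, hW, hbot, htop⟩ := H
    have hfr : Module.finrank (ZMod 2) (Fin n → ZMod 2) = n := by simp
    rcases sub_or_quotient ρ hρ hp x hx1 hxp W hW with h | h
    · refine exists_injective_GL _ h ?_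
      have := Submodule.finrank_lt htop
      omega
    · refine exists_injective_GL _ h ?_
      have h1 := Submodule.finrank_quotient_add_finrank W
      have h2 : 0 < Module.finrank (ZMod 2) W := by
        have : Nontrivial W := Submodule.nontrivial_iff_ne_bot.2 hbot
        exact Module.finrank_pos
      omega
  by_cases halt : β.IsAlt
  · -- alternating: the radical
    refine ⟨LinearMap.ker β, ?_, ?_, ?_⟩
    · intro g u hu
      rw [Submodule.mem_comap, LinearMap.mem_ker]
      rw [LinearMap.mem_ker] at hu
      refine LinearMap.ext fun v => ?_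
      have h1 : v = ρ g (ρ g⁻¹ v) := by
        rw [← Module.End.mul_apply, ← map_mul, mul_inv_cancel, map_one, Module.End.one_apply]
      rw [h1, hβinv, hu]
      simp
    · intro hbot
      obtain ⟨a, k, b, -, -, -, hrad⟩ := Cfsg.Agent.S0752.result β halt
      have hcard := Module.finrank_eq_card_basis b
      have hk : 0 < k := by
        rcases Nat.eq_zero_or_pos k with rfl | hk
        · exfalso
          simp at hcard
          rw [hcard] at hn
          exact (Nat.not_odd_iff_even.2 ⟨a, rfl⟩) hn
        · exact hk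
      have h0 : b (Sum.inr ⟨0, hk⟩) ∈ LinearMap.ker β := by
        rw [LinearMap.mem_ker]
        refine LinearMap.ext fun v => ?_
        rw [hrad]
        rfl
      rw [hbot, Submodule.mem_bot] at h0
      exact b.ne_zero _ h0
    · intro htop
      apply hS
      rw [LinearMap.ker_eq_top] at htop
      exact (Matrix.toBilin' (R₁ := ZMod 2) (n := Fin n)).injective (htop.trans (map_zero _).symm)
  · -- not alternating: the kernel of `v ↦ β v v`
    let q : (Fin n → ZMod 2) →ₗ[ZMod 2] ZMod 2 :=
      { toFun := fun v => β v v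
        map_add' := fun u v => by
          simp only [map_add, LinearMap.add_apply]
          rw [hβsymm v u]
          have : β u v + β u v = 0 := by
            rw [← two_mul, show (2 : ZMod 2) = 0 from by decide, zero_mul]
          calc β u u + β u v + (β u v + β v v) = β u u + (β u v + β u v) + β v v := by ring
            _ = β u u + β v v := by rw [this, add_zero]
        map_smul' := fun c v => by
          simp only [map_smul, LinearMap.smul_apply, smul_eq_mul, RingHom.id_apply]
          have : ∀ c d : ZMod 2, c * (c * d) = c * d := by decide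
          exact this _ _ }
    have hqa : ∀ v, q v = β v v := fun v => rfl
    refine ⟨LinearMap.ker q, ?_, ?_, ?_⟩
    · intro g u hu
      rw [Submodule.mem_comap, LinearMap.mem_ker, hqa, hβinv, ← hqa]
      exact hu
    · intro hbot
      have h1 := LinearMap.finrank_le_finrank_of_injective (LinearMap.ker_eq_bot.1 hbot)
      simp at h1
      omega
    · intro htop
      rw [LinearMap.ker_eq_top] at htop
      apply halt
      intro v
      have := congrArg (fun f => f v) htop
      exact this

/-! ## Integral matrices -/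

/-- The reduction modulo two of integral matrices. -/
noncomputable def red (n : ℕ) :
    Matrix (Fin n) (Fin n) ℤ →+* Matrix (Fin n) (Fin n) (ZMod 2) :=
  (Int.castRingHom (ZMod 2)).mapMatrix

theorem red_apply {n : ℕ} (M : Matrix (Fin n) (Fin n) ℤ) (i j : Fin n) :
    red n M i j = ((M i j : ℤ) : ZMod 2) := rfl

theorem red_transpose {n : ℕ} (M : Matrix (Fin n) (Fin n) ℤ) : red n Mᵀ = (red n M)ᵀ := by
  ext i j
  simp [red_apply]

/-- An invariant symmetric integral form that is not divisible by two. -/
theorem exists_form {K : Type*} [Group K] [Finite K] {n : ℕ} (hn : 0 < n)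
    (M : K →* Matrix (Fin n) (Fin n) ℤ) :
    ∃ S : Matrix (Fin n) (Fin n) ℤ, Sᵀ = S ∧ (∀ g, (M g)ᵀ * S * M g = S) ∧ red n S ≠ 0 := by
  classical
  have := Fintype.ofFinite K
  -- the sum
  have h0 : ∃ N : ℕ, ∃ S : Matrix (Fin n) (Fin n) ℤ, Sᵀ = S ∧ (∀ g, (M g)ᵀ * S * M g = S) ∧
      S ≠ 0 ∧ ∑ i, ∑ j, (S i j).natAbs = N := by
    refine ⟨_, ∑ g : K, (M g)ᵀ * M g, ?_, ?_, ?_, rfl⟩
    · rw [Matrix.transpose_sum]
      refine Finset.sum_congr rfl fun g _ => ?_
      rw [Matrix.transpose_mul, Matrix.transpose_transpose]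
    · intro h
      rw [Finset.mul_sum, Finset.sum_mul]
      refine Fintype.sum_equiv (Equiv.mulRight h) _ _ fun g => ?_
      rw [Equiv.coe_mulRight, map_mul, Matrix.transpose_mul]
      simp only [Matrix.mul_assoc]
    · intro h0
      have h1 := congrArg (fun A : Matrix (Fin n) (Fin n) ℤ => A ⟨0, hn⟩ ⟨0, hn⟩) h0
      simp only [Matrix.sum_apply, Matrix.zero_apply, Matrix.mul_apply,
        Matrix.transpose_apply] at h1
      have h2 : ∀ g ∈ (Finset.univ : Finset K),
          0 ≤ ∑ j, M g j ⟨0, hn⟩ * M g j ⟨0, hn⟩ :=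
        fun g _ => Finset.sum_nonneg fun j _ => mul_self_nonneg _
      have h3 := (Finset.sum_eq_zero_iff_of_nonneg h2).1 h1 1 (Finset.mem_univ _)
      have h4 := (Finset.sum_eq_zero_iff_of_nonneg
        (fun j _ => mul_self_nonneg (M 1 j ⟨0, hn⟩))).1 h3 ⟨0, hn⟩ (Finset.mem_univ _)
      simp at h4
  obtain ⟨S, hS1, hS2, hS3, hS4⟩ := Nat.find_spec h0
  refine ⟨S, hS1, hS2, ?_⟩
  intro hred
  have hdiv : ∀ i j, (2 : ℤ) ∣ S i j := by
    intro i j
    have := congrArg (fun A : Matrix (Fin n) (Fin n) (ZMod 2) => A i j) hred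
    simp only [red_apply, Matrix.zero_apply] at this
    exact (ZMod.intCast_zmod_eq_zero_iff_dvd _ 2).1 this
  choose T hT using hdiv
  let T' : Matrix (Fin n) (Fin n) ℤ := Matrix.of T
  have hST : S = (2 : ℤ) • T' := by
    ext i j
    simp [T', hT i j]
  have hinj : ∀ A B : Matrix (Fin n) (Fin n) ℤ, (2 : ℤ) • A = (2 : ℤ) • B → A = B := by
    intro A B hAB
    ext i j
    have := congrArg (fun A : Matrix (Fin n) (Fin n) ℤ => A i j) hAB
    simpa using this
  have hlt : ∑ i, ∑ j, (T' i j).natAbs < ∑ i, ∑ j, (S i j).natAbs := by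
    obtain ⟨i0, j0, hij⟩ : ∃ i j, S i j ≠ 0 := by
      by_contra hcon
      push Not at hcon
      exact hS3 (by ext i j; simpa using hcon i j)
    have hle : ∀ i j, (T' i j).natAbs ≤ (S i j).natAbs := by
      intro i j
      have : S i j = 2 * T' i j := hT i j
      omega
    refine Finset.sum_lt_sum (fun i _ => Finset.sum_le_sum fun j _ => hle i j)
      ⟨i0, Finset.mem_univ _, Finset.sum_lt_sum (fun j _ => hle i0 j)
        ⟨j0, Finset.mem_univ _, ?_⟩⟩
    have : S i0 j0 = 2 * T' i0 j0 := hT i0 j0
    omega
  rw [hS4] at hlt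
  refine Nat.find_min h0 hlt ⟨T', ?_, ?_, ?_, rfl⟩
  · apply hinj
    rw [← Matrix.transpose_smul, ← hST, hS1]
  · intro g
    apply hinj
    rw [← Matrix.smul_mul, ← Matrix.mul_smul, ← hST, hS2]
  · intro h
    apply hS3
    rw [hST, h, smul_zero]

/-- A faithful integral representation of odd degree `n` gives an embedding in `GL m 2`,
`n - 1 ≤ m`. -/
theorem exists_of_integral {K : Type*} [Group K] [Finite K] [IsSimpleGroup K]
    {p : ℕ} [Fact p.Prime] (hp : p ≠ 2) (hpK : p ∣ Nat.card K)
    {n : ℕ} (hn : Odd n) (hn2 : 2 ≤ n) (M : K →* Matrix (Fin n) (Fin n) ℤ)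
    (hM : Function.Injective M) {m : ℕ} (hm : n - 1 ≤ m) :
    ∃ f : K →* GL (Fin m) (ZMod 2), Function.Injective f := by
  have hpo : Odd p := (Fact.out : p.Prime).odd_of_ne_two hp
  obtain ⟨x, hx⟩ := exists_prime_orderOf_dvd_card' p hpK
  have hx1 : x ≠ 1 := by
    rintro rfl
    rw [orderOf_one] at hx
    exact (Fact.out : p.Prime).one_lt.ne hx
  have hxp : x ^ p = 1 := by rw [← hx]; exact pow_orderOf_eq_one x
  obtain ⟨S, hS1, hS2, hS3⟩ := exists_form (by omega : 0 < n) M
  let M' : K →* Matrix (Fin n) (Fin n) (ZMod 2) := ((red n : _ →+* _) : _ →* _).comp M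
  have hM'a : ∀ g, M' g = red n (M g) := fun g => rfl
  have hM' : Function.Injective M' := by
    rw [← MonoidHom.ker_eq_bot_iff]
    refine (IsSimpleGroup.eq_bot_or_eq_top_of_normal M'.ker inferInstance).resolve_right ?_
    intro htop
    have hx' : M' x = 1 := (MonoidHom.mem_ker).1 (htop ▸ Subgroup.mem_top x)
    apply hx1
    apply hM
    rw [map_one]
    refine eq_one_of_pow_eq_one hpo (M x) (by rw [← map_pow, hxp, map_one]) ?_
    intro i j
    have h1 : red n (M x - 1) = 0 := by
      rw [map_sub, map_one, ← hM'a, hx', sub_self]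
    have h2 := congrArg (fun A : Matrix (Fin n) (Fin n) (ZMod 2) => A i j) h1
    simp only [red_apply, Matrix.zero_apply] at h2
    exact (ZMod.intCast_zmod_eq_zero_iff_dvd _ 2).1 h2
  refine exists_of_form hpo x hx1 hxp hn hn2 M' hM' (red n S) hS3 ?_ ?_ hm
  · rw [← red_transpose, hS1]
  · intro g
    rw [hM'a, ← red_transpose, ← map_mul, ← map_mul, hS2]

/-! ## Rational representations are integral -/

/-- A finite group of rational matrices is equivalent to one of integral matrices. -/
theorem exists_integral {K : Type*} [Group K] [Finite K] {n : ℕ}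
    (ρ : K →* GL (Fin n) ℚ) (hρ : Function.Injective ρ) :
    ∃ M : K →* Matrix (Fin n) (Fin n) ℤ, Function.Injective M := by
  classical
  -- the action over the integers
  let A : K →* Module.End ℤ (Fin n → ℚ) :=
    { toFun := fun g => ((ρ g : Matrix (Fin n) (Fin n) ℚ).mulVecLin).restrictScalars ℤ
      map_one' := by
        refine LinearMap.ext fun v => ?_
        simp
      map_mul' := fun g h => by
        refine LinearMap.ext fun v => ?_
        simp [Matrix.mulVec_mulVec] }
  have hA : ∀ g v, A g v = (ρ g : Matrix (Fin n) (Fin n) ℚ) *ᵥ v := fun g v => rfl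
  let s : Set (Fin n → ℚ) := Set.range fun x : K × Fin n => A x.1 (Pi.single x.2 1)
  have hsfin : s.Finite := Set.finite_range _
  let L : Submodule ℤ (Fin n → ℚ) := Submodule.span ℤ s
  have hL : ∀ g, L ≤ L.comap (A g) := by
    intro g
    rw [Submodule.span_le]
    rintro _ ⟨⟨h, i⟩, rfl⟩
    refine Submodule.subset_span ⟨(g * h, i), ?_⟩
    simp
  have : Module.Finite ℤ L := Module.Finite.iff_fg.2 (Submodule.fg_span hsfin)
  have : Module.Free ℤ L := inferInstance
  let b := Module.finBasis ℤ L
  have hli : LinearIndependent ℚ (fun i => (b i : Fin n → ℚ)) := by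
    rw [← LinearIndependent.iff_fractionRing ℤ ℚ]
    exact b.linearIndependent.map' L.subtype (Submodule.ker_subtype L)
  have hspan : ⊤ ≤ Submodule.span ℚ (Set.range fun i => (b i : Fin n → ℚ)) := by
    have h1 : L ≤ (Submodule.span ℚ (Set.range fun i => (b i : Fin n → ℚ))).restrictScalars ℤ := by
      intro v hv
      have h2 := b.sum_repr ⟨v, hv⟩
      have h3 : v = ∑ i, b.repr ⟨v, hv⟩ i • (b i : Fin n → ℚ) := by
        have h4 := congrArg L.subtype h2
        rw [map_sum] at h4
        simp only [map_zsmul, Submodule.subtype_apply] at h4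
        exact h4.symm
      rw [h3]
      exact Submodule.sum_mem _ fun i _ => Submodule.smul_mem _ _
        (Submodule.subset_span ⟨i, rfl⟩)
    rw [← (Pi.basisFun ℚ (Fin n)).span_eq, Submodule.span_le]
    rintro _ ⟨i, rfl⟩
    refine h1 (Submodule.subset_span ⟨(1, i), ?_⟩)
    simp
  have hcard : Module.finrank ℤ L = n := by
    have := Module.finrank_eq_card_basis (Module.Basis.mk hli hspan)
    simpa using this.symm
  let b' : Module.Basis (Fin n) ℤ L := b.reindex (finCongr hcard)
  let σ : Representation ℤ K L := Representation.subrepresentation A L hL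
  refine ⟨(LinearMap.toMatrixAlgEquiv b').toMulEquiv.toMonoidHom.comp σ, ?_⟩
  intro g h hgh
  have h1 : σ g = σ h := (LinearMap.toMatrixAlgEquiv b').injective hgh
  apply hρ
  apply Units.ext
  apply Matrix.toLin'.injective
  refine (Pi.basisFun ℚ (Fin n)).ext fun i => ?_
  have h2 : (Pi.single i (1 : ℚ) : Fin n → ℚ) ∈ L :=
    Submodule.subset_span ⟨(1, i), by simp⟩
  have := congrArg (fun f => ((f ⟨_, h2⟩ : L) : Fin n → ℚ)) h1
  simpa [σ, hA] using this

/-- **Main theorem.**  A finite simple group with a faithful rational representation of odd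
degree `n ≥ 2`, of order divisible by an odd prime, embeds in `GL m 2` for every `m ≥ n - 1`. -/
theorem exists_of_rational {K : Type*} [Group K] [Finite K] [IsSimpleGroup K]
    {p : ℕ} (hpp : p.Prime) (hp : p ≠ 2) (hpK : p ∣ Nat.card K)
    {n : ℕ} (hn : Odd n) (hn2 : 2 ≤ n) (ρ : K →* GL (Fin n) ℚ) (hρ : Function.Injective ρ)
    {m : ℕ} (hm : n - 1 ≤ m) :
    ∃ f : K →* GL (Fin m) (ZMod 2), Function.Injective f := by
  have := Fact.mk hpp
  obtain ⟨M, hM⟩ := exists_integral ρ hρ
  exact exists_of_integral hp hpK hn hn2 M hM hm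

end Cfsg.Agent.BabyM.ModTwo
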