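import Cfsg.Agent.BabyM.Design
set_option linter.all false

/-!
# The vectors at inner product `-1`

Let `l` be a minimal vector and `r₀` one of the 4600 vectors of `RR l`.  The vectors `s ∈ RR l`
with `(s, r₀) = 0` or `16` generate a subgroup containing `8 Λ`.
-/

set_option autoImplicit false

namespace Cfsg.Agent.BabyM.SpanNeg

open Cfsg Cfsg.Agent.Leech.Code Cfsg.Agent.Leech.Basic Cfsg.Agent.Leech.Min
open Cfsg.Agent.SporadicA Cfsg.Agent.Leech.Co0Elts
open Cfsg.Agent.BabyM.Rigid23 Cfsg.Agent.BabyM.Rigid23Main Cfsg.Agent.BabyM.Rigid23Thm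
  Cfsg.Agent.BabyM.RigidField Cfsg.Agent.BabyM.Design

/-- The vectors of `RR l` with inner product `0` or `16` with `r₀`. -/
def Zs (l r₀ : leechLattice) : Set leechLattice :=
  {s | (s : GolayPt → ℤ) ∈ RR l ∧ (dotInt (s : GolayPt → ℤ) r₀ = 0 ∨
    dotInt (s : GolayPt → ℤ) r₀ = 16)}

/-- The generated subgroup. -/
def ZL (l r₀ : leechLattice) : AddSubgroup leechLattice := AddSubgroup.closure (Zs l r₀)

theorem hb4 : (4 : ℤ) = 4 ∨ (4 : ℤ) = -4 := Or.inl rfl

theorem hb4' : (-4 : ℤ) = 4 ∨ (-4 : ℤ) = -4 := Or.inr rfl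

theorem j1 : (some 1 : GolayPt) ≠ none := by decide

theorem j2 : (some 1 : GolayPt) ≠ some 0 := by decide

/-- `(4, 0, …, 4, …)` -/
def R₁ : leechLattice := ⟨_, (e_mem_R (Or.inl rfl : (none : GolayPt) = none ∨ _) j1 j2 hb4).1⟩

theorem R₁_coe : ((R₁ : leechLattice) : GolayPt → ℤ) = e none 4 + e (some 1) 4 := rfl

theorem R₁_mem : ((R₁ : leechLattice) : GolayPt → ℤ) ∈ RR (U : leechLattice) :=
  e_mem_R (Or.inl rfl) j1 j2 hb4

theorem dot_R₁ (x : GolayPt → ℤ) : dotInt x (R₁ : leechLattice) = 4 * x none + 4 * x (some 1) := by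
  rw [R₁_coe, dotInt_add_right, dotInt_e, dotInt_e]; ring

/-- `(4 at i, b at j)`, `i` one of the two special points -/
def P {i j : GolayPt} (hi : i = none ∨ i = some 0) (hj : j ≠ none) (hj' : j ≠ some 0) {b : ℤ}
    (hb : b = 4 ∨ b = -4) : leechLattice := ⟨_, (e_mem_R hi hj hj' hb).1⟩

theorem P_coe {i j : GolayPt} (hi : i = none ∨ i = some 0) (hj : j ≠ none) (hj' : j ≠ some 0) {b : ℤ}
    (hb : b = 4 ∨ b = -4) : ((P hi hj hj' hb : leechLattice) : GolayPt → ℤ) = e i 4 + e j b := rfl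

theorem P_mem {i j : GolayPt} (hi : i = none ∨ i = some 0) (hj : j ≠ none) (hj' : j ≠ some 0)
    {b : ℤ} (hb : b = 4 ∨ b = -4) (hj1 : j ≠ some 1) : P hi hj hj' hb ∈ ZL U R₁ := by
  refine AddSubgroup.subset_closure ⟨e_mem_R hi hj hj' hb, ?_⟩
  rw [dot_R₁, P_coe]
  simp only [Pi.add_apply, e_apply]
  rw [if_neg hj.symm, if_neg hj1.symm]
  rcases hi with rfl | rfl
  · rw [if_pos rfl, if_neg j1]; right; norm_num
  · rw [if_neg none_ne, if_neg j2]; left; norm_num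

theorem P1_mem : P (Or.inr rfl : (some 0 : GolayPt) = none ∨ _) j1 j2 hb4 ∈ ZL U R₁ := by
  refine AddSubgroup.subset_closure ⟨e_mem_R (Or.inr rfl) j1 j2 hb4, ?_⟩
  rw [dot_R₁, P_coe]
  simp only [Pi.add_apply, e_apply]
  rw [if_neg none_ne, if_neg j1.symm, if_neg j2]; right; norm_num

theorem e8_mem (i : GolayPt) : e i 8 ∈ leechLattice := by
  obtain ⟨k, -, -, hk⟩ := exists_other i
  have ha := (isLeech_of_type4 (type4_e hk.symm hb4 hb4)).mem
  have hb := (isLeech_of_type4 (type4_e hk.symm hb4 hb4')).mem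
  have h := leechLattice.add_mem ha hb
  have h2 : e i 4 + e k 4 + (e i 4 + e k (-4)) = e i 8 := by
    rw [e_neg, show (8 : ℤ) = 4 + 4 by norm_num, e_add]; abel
  rwa [h2] at h

/-- `8 e_i` -/
def E8 (i : GolayPt) : leechLattice := ⟨e i 8, e8_mem i⟩

theorem E8_coe (i : GolayPt) : ((E8 i : leechLattice) : GolayPt → ℤ) = e i 8 := rfl

theorem E8_other {j : GolayPt} (hj : j ≠ none) (hj' : j ≠ some 0) (hj1 : j ≠ some 1) :
    E8 j ∈ ZL U R₁ := by
  have h1 := P_mem (Or.inl rfl : (none : GolayPt) = none ∨ _) hj hj' hb4 hj1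
  have h2 := P_mem (Or.inl rfl : (none : GolayPt) = none ∨ _) hj hj' hb4' hj1
  have h3 := (ZL U R₁).sub_mem h1 h2
  have h4 : P (Or.inl rfl : (none : GolayPt) = none ∨ _) hj hj' hb4 -
      P (Or.inl rfl : (none : GolayPt) = none ∨ _) hj hj' hb4' = E8 j := by
    apply Subtype.ext
    rw [AddSubgroup.coe_sub, P_coe, P_coe, E8_coe, e_neg, show (8 : ℤ) = 4 + 4 by norm_num, e_add]
    abel
  rwa [h4] at h3

theorem E8_spec {i : GolayPt} (hi : i = none ∨ i = some 0) : E8 i ∈ ZL U R₁ := by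
  obtain ⟨k, hk1, hk2, hk3⟩ := exists_other (some 1)
  have h1 := P_mem hi hk1 hk2 hb4 hk3
  have h2 := P_mem hi hk1 hk2 hb4' hk3
  have h3 := (ZL U R₁).add_mem h1 h2
  have h4 : P hi hk1 hk2 hb4 + P hi hk1 hk2 hb4' = E8 i := by
    apply Subtype.ext
    rw [AddSubgroup.coe_add, P_coe, P_coe, E8_coe, e_neg, show (8 : ℤ) = 4 + 4 by norm_num, e_add]
    abel
  rwa [h4] at h3

theorem E8_one : E8 (some 1) ∈ ZL U R₁ := by
  have h1 := P1_mem
  have h2 := E8_spec (Or.inr rfl : (some 0 : GolayPt) = none ∨ _)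
  have h3 := (ZL U R₁).sub_mem ((ZL U R₁).add_mem h1 h1) h2
  have h4 : P (Or.inr rfl : (some 0 : GolayPt) = none ∨ _) j1 j2 hb4 +
      P (Or.inr rfl : (some 0 : GolayPt) = none ∨ _) j1 j2 hb4 - E8 (some 0) = E8 (some 1) := by
    apply Subtype.ext
    rw [AddSubgroup.coe_sub, AddSubgroup.coe_add, P_coe, E8_coe, E8_coe,
      show (8 : ℤ) = 4 + 4 by norm_num, e_add, e_add]
    abel
  rwa [h4] at h3

theorem E8_mem (i : GolayPt) : E8 i ∈ ZL U R₁ := by
  by_cases h1 : i = none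
  · exact E8_spec (Or.inl h1)
  · by_cases h2 : i = some 0
    · exact E8_spec (Or.inr h2)
    · by_cases h3 : i = some 1
      · subst h3; exact E8_one
      · exact E8_other h1 h2 h3

theorem eight_mem_base (x : leechLattice) : (8 : ℤ) • x ∈ ZL U R₁ := by
  have h : (8 : ℤ) • x = ∑ i, ((x : GolayPt → ℤ) i) • E8 i := by
    apply Subtype.ext
    funext k
    rw [AddSubgroup.coe_zsmul, Pi.smul_apply, AddSubgroup.val_finsetSum, Finset.sum_apply,
      Finset.sum_eq_single k]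
    · rw [AddSubgroup.coe_zsmul, Pi.smul_apply, E8_coe, e_apply, if_pos rfl]
      simp only [smul_eq_mul]; ring
    · intro i _ hi
      rw [AddSubgroup.coe_zsmul, Pi.smul_apply, E8_coe, e_apply, if_neg hi.symm, smul_zero]
    · intro h; exact absurd (Finset.mem_univ _) h
  rw [h]
  exact AddSubgroup.sum_mem _ fun i _ => AddSubgroup.zsmul_mem _ (E8_mem i) _

/-- `Co0` is transitive on the pairs `(l, r₀)`. -/
theorem trans_pair (l r₀ : leechLattice) (hl : sqNorm (l : GolayPt → ℤ) = 32)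
    (hr₀ : (r₀ : GolayPt → ℤ) ∈ RR l) {m s₀ : leechLattice} (hm : sqNorm (m : GolayPt → ℤ) = 32)
    (hs₀ : (s₀ : GolayPt → ℤ) ∈ RR m) : ∃ g : ↥Co0, g • m = l ∧ g • s₀ = r₀ := by
  obtain ⟨g, hg⟩ := Cfsg.Agent.Leech.Trans.co0_transitive_min m l hm hl
  have h1 : ((g • s₀ : leechLattice) : GolayPt → ℤ) ∈ RR l := by
    refine ⟨(g • s₀).2, ?_, ?_⟩
    · rw [sqNorm_smul]; exact hs₀.2.1
    · have := dotInt_smul g s₀ m
      rw [hg] at this
      rw [this]; exact hs₀.2.2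
  obtain ⟨c, hc1, hc2⟩ := trans_RR l hl h1 hr₀
  exact ⟨c * g, by rw [mul_smul, hg, hc1], by rw [mul_smul, hc2]⟩

/-- **Generation.** -/
theorem eight_mem (l r₀ : leechLattice) (hl : sqNorm (l : GolayPt → ℤ) = 32)
    (hr₀ : (r₀ : GolayPt → ℤ) ∈ RR l) (x : leechLattice) : (8 : ℤ) • x ∈ ZL l r₀ := by
  obtain ⟨g, hg1, hg2⟩ := trans_pair l r₀ hl hr₀ hU R₁_mem
  have h1 : ∀ y ∈ ZL U R₁, g • y ∈ ZL l r₀ := by
    intro y hy
    refine AddSubgroup.closure_induction (p := fun y _ => g • y ∈ ZL l r₀) (fun s hs => ?_) ?_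
      (fun a b _ _ ha hb => ?_) (fun a _ ha => ?_) hy
    · refine AddSubgroup.subset_closure ⟨⟨(g • s).2, ?_, ?_⟩, ?_⟩
      · rw [sqNorm_smul]; exact hs.1.2.1
      · have := dotInt_smul g s U
        rw [hg1] at this
        rw [this]; exact hs.1.2.2
      · have := dotInt_smul g s R₁
        rw [hg2] at this
        rw [this]; exact hs.2
    · rw [Cfsg.Agent.Leech.Trans.smul_zero_co0]; exact (ZL l r₀).zero_mem
    · rw [smul_add_co0]; exact (ZL l r₀).add_mem ha hb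
    · rw [smul_neg_co0]; exact (ZL l r₀).neg_mem ha
  have h2 := h1 _ (eight_mem_base (g⁻¹ • x))
  rwa [act_zsmul, smul_inv_smul] at h2

end Cfsg.Agent.BabyM.SpanNeg
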