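import Cfsg.Agent.BabyM.Model
import Cfsg.Agent.BabyM.SpanNeg
set_option linter.all false

/-!
# Fields of the interface `BRep` derived from a short list of concrete facts

`Hyp23`: the action of `C` on the `23`-dimensional part, given by an additive map
`ω : leechLattice → W` (orthogonal projection to `l⊥`, scaled).
-/

set_option autoImplicit false

namespace Cfsg.Agent.BabyM.RepOf

open Cfsg Cfsg.Agent.Leech.Basic Cfsg.Agent.Leech.Co0Elts
open Cfsg.Agent.BabyM.Model Cfsg.Agent.BabyM.Rigid23Thm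
  Cfsg.Agent.BabyM.RigidField Cfsg.Agent.BabyM.Design Cfsg.Agent.BabyM.SpanNeg

variable {W : Type} [AddCommGroup W] [Module ℚ W]

/-- The facts on the `23`-dimensional part. -/
structure Hyp23 (M : BData W) (l r₀ : leechLattice) (ω : leechLattice →+ W) : Prop where
  norm_l : sqNorm (l : GolayPt → ℤ) = 32
  r₀_mem : (r₀ : GolayPt → ℤ) ∈ RR l
  ω_l : ω l = 0
  u₀_eq : M.u₀ = ω (vv l r₀)
  form : ∀ x y : leechLattice, M.F (ω x) (ω y) =
    (dotInt (x : GolayPt → ℤ) y : ℚ) / 32 -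
      (dotInt (x : GolayPt → ℤ) l : ℚ) * (dotInt (y : GolayPt → ℤ) l : ℚ) / 1024
  act : ∀ g ∈ M.C, ∃ c : ↥Co0, c • l = l ∧ ∀ x : leechLattice, g (ω x) = ω (c • x)
  onto : ∀ c : ↥Co0, c • l = l → ∃ g ∈ M.C, ∀ x : leechLattice, g (ω x) = ω (c • x)

section

variable {M : BData W} {l r₀ : leechLattice} {ω : leechLattice →+ W}

theorem dot_vv {l r s : leechLattice} (hl : sqNorm (l : GolayPt → ℤ) = 32)
    (hr : (r : GolayPt → ℤ) ∈ RR l) (hs : (s : GolayPt → ℤ) ∈ RR l) :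
    dotInt ((vv l r : leechLattice) : GolayPt → ℤ) ((vv l s : leechLattice) : GolayPt → ℤ) =
      4 * dotInt (r : GolayPt → ℤ) (s : GolayPt → ℤ) - 32 := by
  rw [vv_coe l s, dotInt_sub_right, dotInt_vv_l hl hr, dotInt_add_right, vv_coe, dotInt_sub_left,
    dotInt_add_left, dotInt_comm (l : GolayPt → ℤ) s, hs.2.2]
  ring

theorem Hyp23.form_vv (h : Hyp23 M l r₀ ω) {r s : leechLattice}
    (hr : (r : GolayPt → ℤ) ∈ RR l) (hs : (s : GolayPt → ℤ) ∈ RR l) :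
    M.F (ω (vv l r)) (ω (vv l s)) = (dotInt (r : GolayPt → ℤ) (s : GolayPt → ℤ) : ℚ) / 8 - 1 := by
  rw [h.form, dot_vv h.norm_l hr hs, dotInt_vv_l h.norm_l hr]
  push_cast
  ring

theorem Hyp23.form_vv_x (h : Hyp23 M l r₀ ω) {r : leechLattice}
    (hr : (r : GolayPt → ℤ) ∈ RR l) (x : leechLattice) :
    M.F (ω (vv l r)) (ω x) = (dotInt (vv l r : leechLattice) (x : GolayPt → ℤ) : ℚ) / 32 := by
  rw [h.form, dotInt_vv_l h.norm_l hr]
  push_cast
  ring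

theorem vv_sub (l r : leechLattice) : vv l (l - r) = - vv l r := by
  unfold vv
  abel

theorem Hyp23.toHyp (h : Hyp23 M l r₀ ω) :
    Hyp (fun x y => M.F x y) M.C M.u₀ l r₀ (fun r => ω (vv l r)) where
  norm_l := h.norm_l
  r₀_mem := h.r₀_mem
  u₀_eq := h.u₀_eq
  form := fun r s hr hs => h.form_vv hr hs
  neg := fun r _ => by
    show ω (vv l (l - r)) = - ω (vv l r)
    rw [vv_sub, map_neg]
  act := fun g hg => by
    obtain ⟨c, hc, hgc⟩ := h.act g hg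
    refine ⟨c, hc, fun r _ => ?_⟩
    show g (ω (vv l r)) = ω (vv l (c • r))
    rw [hgc, smul_vv, hc]
  onto := fun c hc => by
    obtain ⟨g, hg, hgc⟩ := h.onto c hc
    refine ⟨g, hg, fun r _ => ?_⟩
    show g (ω (vv l r)) = ω (vv l (c • r))
    rw [hgc, smul_vv, hc]

/-- the elements of the orbit of `u₀` -/
theorem Hyp23.orbit (h : Hyp23 M l r₀ ω) (x : W) :
    (∃ g ∈ M.C, x = g M.u₀) ↔ ∃ r : leechLattice, (r : GolayPt → ℤ) ∈ RR l ∧ x = ω (vv l r) :=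
  h.toHyp.orbit x

theorem Hyp23.inj (h : Hyp23 M l r₀ ω) {r s : leechLattice} (hr : (r : GolayPt → ℤ) ∈ RR l)
    (hs : (s : GolayPt → ℤ) ∈ RR l) (hrs : ω (vv l r) = ω (vv l s)) : r = s :=
  h.toHyp.inj hr hs hrs

/-- Field `u₀_norm`. -/
theorem Hyp23.u₀_norm (h : Hyp23 M l r₀ ω) : M.F M.u₀ M.u₀ = 3 := h.toHyp.u₀_norm

/-- Field `rigid`. -/
theorem Hyp23.rigid (h : Hyp23 M l r₀ ω) : ∀ k : W ≃ₗ[ℚ] W,
    (∀ x ∈ M.U, ∀ y ∈ M.U, M.F (k x) (k y) = M.F x y) →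
    (∀ g ∈ M.C, ∃ h ∈ M.C, k (g M.u₀) = h M.u₀) →
    ∃ c ∈ M.C, (∀ g ∈ M.C, k (g M.u₀) = c (g M.u₀)) ∨ (∀ g ∈ M.C, k (g M.u₀) = - c (g M.u₀)) :=
  fun k hk hk' => h.toHyp.rigid M.U (fun g hg => Submodule.subset_span ⟨g, hg, rfl⟩) k hk hk'

/-- every `ω x` is in the span of the vectors at inner product `-1` with `u₀` -/
theorem Hyp23.ω_mem_span (h : Hyp23 M l r₀ ω) (x : leechLattice) : ω x ∈ Submodule.span ℚ
    {x | ∃ h ∈ M.C, M.F (h M.u₀) M.u₀ = -1 ∧ x = h M.u₀} := by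
  set V := Submodule.span ℚ {x | ∃ h ∈ M.C, M.F (h M.u₀) M.u₀ = -1 ∧ x = h M.u₀} with hV
  -- vectors with inner product 0
  have h0 : ∀ s : leechLattice, (s : GolayPt → ℤ) ∈ RR l → dotInt (s : GolayPt → ℤ) r₀ = 0 →
      ω (vv l s) ∈ V := by
    intro s hs hd
    obtain ⟨g, hg, hgs⟩ := (h.orbit _).2 ⟨s, hs, rfl⟩
    refine Submodule.subset_span ⟨g, hg, ?_, hgs⟩
    rw [← hgs, h.u₀_eq, h.form_vv hs h.r₀_mem, hd]
    norm_num
  have h1 : ∀ s ∈ Zs l r₀, ω (vv l s) ∈ V := by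
    rintro s ⟨hs, hd | hd⟩
    · exact h0 s hs hd
    · have h2 := h0 (l - s) (sub_RR h.norm_l hs) (by
        rw [AddSubgroup.coe_sub, dotInt_sub_left, hd, dotInt_comm, h.r₀_mem.2.2]; norm_num)
      rw [vv_sub, map_neg] at h2
      have h3 := V.neg_mem h2
      rwa [neg_neg] at h3
  have h2 : ∀ s ∈ Zs l r₀, ω s ∈ V := by
    intro s hs
    have h3 := h1 s hs
    have h4 : ω (vv l s) = (2 : ℚ) • ω s := by
      unfold vv
      rw [map_sub, h.ω_l, sub_zero, map_add, two_smul]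
    rw [h4] at h3
    have h5 := V.smul_mem (1 / 2 : ℚ) h3
    rwa [smul_smul, show (1 / 2 : ℚ) * 2 = 1 by norm_num, one_smul] at h5
  have h3 : ∀ y ∈ ZL l r₀, ω y ∈ V := by
    intro y hy
    refine AddSubgroup.closure_induction (p := fun y _ => ω y ∈ V) (fun s hs => h2 s hs) ?_
      (fun a b _ _ ha hb => ?_) (fun a _ ha => ?_) hy
    · rw [map_zero]; exact V.zero_mem
    · rw [map_add]; exact V.add_mem ha hb
    · rw [map_neg]; exact V.neg_mem ha
  have h4 := h3 _ (eight_mem l r₀ h.norm_l h.r₀_mem x)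
  rw [map_zsmul, ← Int.cast_smul_eq_zsmul ℚ] at h4
  have h5 := V.smul_mem (1 / 8 : ℚ) h4
  rw [smul_smul] at h5
  push_cast at h5
  rwa [show (1 / 8 : ℚ) * 8 = 1 by norm_num, one_smul] at h5

/-- Field `U_span`. -/
theorem Hyp23.U_span (h : Hyp23 M l r₀ ω) : ∀ g ∈ M.C, g M.u₀ ∈ Submodule.span ℚ
    {x | ∃ h ∈ M.C, M.F (h M.u₀) M.u₀ = -1 ∧ x = h M.u₀} := by
  intro g hg
  obtain ⟨r, hr, hrr⟩ := (h.orbit _).1 ⟨g, hg, rfl⟩
  rw [hrr]
  exact h.ω_mem_span _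

/-- the design property for the `4600` vectors -/
theorem Hyp23.sum_eq (h : Hyp23 M l r₀ ω) (x : leechLattice) :
    ∑ r ∈ RF l h.norm_l, M.F (ω (vv l r)) (ω x) • ω (vv l r) = (600 : ℚ) • ω x := by
  have h1 := congrArg ω (design l h.norm_l x)
  rw [map_sum, map_zsmul, map_sub, map_zsmul, map_zsmul, h.ω_l, smul_zero, sub_zero] at h1
  have h2 : ∀ r ∈ RF l h.norm_l, ω (dotInt (vv l r : leechLattice) (x : GolayPt → ℤ) • vv l r) =
      (32 : ℚ) • (M.F (ω (vv l r)) (ω x) • ω (vv l r)) := by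
    intro r hr
    rw [h.form_vv_x (mem_RF.1 hr), map_zsmul, ← Int.cast_smul_eq_zsmul ℚ, smul_smul]
    congr 1
    ring
  rw [Finset.sum_congr rfl h2, ← Finset.smul_sum, ← Int.cast_smul_eq_zsmul ℚ (32 : ℤ),
    ← Int.cast_smul_eq_zsmul ℚ (600 : ℤ), smul_smul] at h1
  have h3 := congrArg (fun v : W => (1 / 32 : ℚ) • v) h1
  simp only [smul_smul] at h3
  push_cast at h3
  norm_num at h3
  exact h3

end

/-- The facts on the `2300`-dimensional part; `e r` (`r ∈ RR l`) is the component of the signed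
axis `ω (2 r - l) + e r`. -/
structure HypE (M : BData W) (l r₀ : leechLattice) (ω : leechLattice →+ W) (e : leechLattice → W) :
    Prop extends Hyp23 M l r₀ ω where
  e₀_eq : M.e₀ = e r₀
  e_neg : ∀ r : leechLattice, (r : GolayPt → ℤ) ∈ RR l → e (l - r) = e r ∨ e (l - r) = - e r
  e_act : ∀ g ∈ M.C, ∀ c : ↥Co0, c • l = l → (∀ x : leechLattice, g (ω x) = ω (c • x)) →
    ∀ r : leechLattice, (r : GolayPt → ℤ) ∈ RR l → g (e r) = e (c • r) ∨ g (e r) = - e (c • r)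
  e_form : ∀ r : leechLattice, (r : GolayPt → ℤ) ∈ RR l → M.F (e r) (e r) = 4
  e_form' : ∀ r s : leechLattice, (r : GolayPt → ℤ) ∈ RR l → (s : GolayPt → ℤ) ∈ RR l →
    s ≠ r → s ≠ l - r → M.F (e r) (e s) = 0
  orth : ∀ x r : leechLattice, (r : GolayPt → ℤ) ∈ RR l → M.F (ω x) (e r) = 0
  orth' : ∀ x r : leechLattice, (r : GolayPt → ℤ) ∈ RR l → M.F (e r) (ω x) = 0
  /-- some element of `C` fixes `u₀` and negates `e₀` -/
  flip : ∃ q ∈ M.C, q M.u₀ = M.u₀ ∧ q M.e₀ = - M.e₀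

section

variable {M : BData W} {l r₀ : leechLattice} {ω : leechLattice →+ W} {e : leechLattice → W}

/-- Field `e₀_norm`. -/
theorem HypE.e₀_norm (h : HypE M l r₀ ω e) : M.F M.e₀ M.e₀ = 4 := by
  rw [h.e₀_eq]; exact h.e_form _ h.r₀_mem

theorem HypE.e_ne (h : HypE M l r₀ ω e) {r : leechLattice} (hr : (r : GolayPt → ℤ) ∈ RR l) :
    e r ≠ - e r := by
  intro h1
  have h2 := h.e_form r hr
  have h3 : M.F (e r) (e r) = M.F (e r) (- e r) := congrArg _ h1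
  rw [map_neg] at h3
  linarith

/-- equality of lines of the `2300`-part -/
theorem HypE.eq_or (h : HypE M l r₀ ω e) {r s : leechLattice} (hr : (r : GolayPt → ℤ) ∈ RR l)
    (hs : (s : GolayPt → ℤ) ∈ RR l) (hrs : e s = e r ∨ e s = - e r) : s = r ∨ s = l - r := by
  by_contra hne
  rw [not_or] at hne
  have h1 := h.e_form' r s hr hs hne.1 hne.2
  have h2 := h.e_form r hr
  rcases hrs with h3 | h3
  · rw [h3, h2] at h1; norm_num at h1
  · rw [h3, map_neg, h2] at h1; norm_num at h1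

/-- An element of `C` mapping `u₀` to `±u₀` maps `e₀` to `±e₀`. -/
theorem HypE.stab_u₀ (h : HypE M l r₀ ω e) : ∀ g ∈ M.C, (g M.u₀ = M.u₀ ∨ g M.u₀ = - M.u₀) →
    g M.e₀ = M.e₀ ∨ g M.e₀ = - M.e₀ := by
  intro g hg hu
  obtain ⟨c, hc, hgc⟩ := h.act g hg
  have h1 := h.e_act g hg c hc hgc r₀ h.r₀_mem
  rw [h.u₀_eq, hgc, smul_vv, hc, ← map_neg, ← vv_sub] at hu
  rw [h.e₀_eq]
  have hcr := smul_RR hc h.r₀_mem
  rcases hu with h2 | h2
  · rw [h.inj hcr h.r₀_mem h2] at h1; exact h1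
  · rw [h.inj hcr (sub_RR h.norm_l h.r₀_mem) h2] at h1
    rcases h.e_neg r₀ h.r₀_mem with h3 | h3 <;> rw [h3] at h1
    · exact h1
    · rw [neg_neg] at h1; exact h1.symm

/-- An element of `C` mapping `e₀` to `±e₀` maps `u₀` to `±u₀`. -/
theorem HypE.stab_e₀ (h : HypE M l r₀ ω e) : ∀ g ∈ M.C, (g M.e₀ = M.e₀ ∨ g M.e₀ = - M.e₀) →
    g M.u₀ = M.u₀ ∨ g M.u₀ = - M.u₀ := by
  intro g hg hu
  obtain ⟨c, hc, hgc⟩ := h.act g hg
  have h1 := h.e_act g hg c hc hgc r₀ h.r₀_mem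
  rw [← h.e₀_eq] at h1
  have hcr := smul_RR hc h.r₀_mem
  have h2 : c • r₀ = r₀ ∨ c • r₀ = l - r₀ := by
    refine h.eq_or h.r₀_mem hcr ?_
    rw [← h.e₀_eq]
    rcases h1 with h1 | h1 <;> rcases hu with h3 | h3 <;> rw [h3] at h1
    · exact Or.inl h1.symm
    · exact Or.inr h1.symm
    · right; rw [h1, neg_neg]
    · left; exact (neg_injective h1).symm
  rw [h.u₀_eq, hgc, smul_vv, hc]
  rcases h2 with h2 | h2 <;> rw [h2]
  · exact Or.inl rfl
  · right; rw [vv_sub, map_neg]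

/-- **Explicit description of the `9200` signed axes of the base orbit.** -/
theorem HypE.mem_S (h : HypE M l r₀ ω e) (x : W) : x ∈ M.S ↔
    ∃ r : leechLattice, (r : GolayPt → ℤ) ∈ RR l ∧
      (x = ω (vv l r) + e r ∨ x = ω (vv l r) - e r) := by
  constructor
  · rintro ⟨g, hg, rfl⟩
    obtain ⟨c, hc, hgc⟩ := h.act g hg
    refine ⟨c • r₀, smul_RR hc h.r₀_mem, ?_⟩
    unfold BData.d₀
    rw [map_add, h.u₀_eq, h.e₀_eq, hgc, smul_vv, hc]
    rcases h.e_act g hg c hc hgc r₀ h.r₀_mem with h1 | h1 <;> rw [h1]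
    · exact Or.inl rfl
    · right; rw [sub_eq_add_neg]
  · rintro ⟨r, hr, hx⟩
    obtain ⟨c, hc, hcr⟩ := trans_RR l h.norm_l h.r₀_mem hr
    obtain ⟨g, hg, hgc⟩ := h.onto c hc
    obtain ⟨q, hq, hq1, hq2⟩ := h.flip
    have h1 : g M.u₀ = ω (vv l r) := by rw [h.u₀_eq, hgc, smul_vv, hc, hcr]
    have h2 := h.e_act g hg c hc hgc r₀ h.r₀_mem
    rw [← h.e₀_eq, hcr] at h2
    have h3 : g M.d₀ = ω (vv l r) + g M.e₀ := by
      unfold BData.d₀; rw [map_add, h1]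
    have h4 : (g * q) M.d₀ = ω (vv l r) - g M.e₀ := by
      unfold BData.d₀
      rw [LinearEquiv.mul_apply, map_add, hq1, hq2, map_add, map_neg, h1, sub_eq_add_neg]
    rcases h2 with h2 | h2 <;> rcases hx with hx | hx <;> rw [h2] at h3 h4
    · exact ⟨g, hg, by rw [hx, h3]⟩
    · exact ⟨g * q, M.C.mul_mem hg hq, by rw [hx, h4]⟩
    · exact ⟨g * q, M.C.mul_mem hg hq, by rw [hx, h4, sub_neg_eq_add]⟩
    · exact ⟨g, hg, by rw [hx, h3, sub_eq_add_neg]⟩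

/-- Field `neg`. -/
theorem HypE.neg (h : HypE M l r₀ ω e) : ∃ g ∈ M.C, g M.d₀ = - M.d₀ := by
  have h1 : - M.d₀ ∈ M.S := by
    rw [h.mem_S]
    refine ⟨l - r₀, sub_RR h.norm_l h.r₀_mem, ?_⟩
    unfold BData.d₀
    rw [h.u₀_eq, h.e₀_eq, vv_sub, map_neg]
    rcases h.e_neg r₀ h.r₀_mem with h3 | h3 <;> rw [h3]
    · right; abel
    · left; abel
  obtain ⟨g, hg, hgg⟩ := h1
  exact ⟨g, hg, hgg.symm⟩

/-- the map parametrising the `9200` signed axes -/
def par (l : leechLattice) (ω : leechLattice →+ W) (e : leechLattice → W) (p : leechLattice × Bool) : W :=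
  if p.2 then ω (vv l p.1) + e p.1 else ω (vv l p.1) - e p.1

theorem HypE.S_eq (h : HypE M l r₀ ω e) [DecidableEq W] :
    M.S = ((RF l h.norm_l ×ˢ (Finset.univ : Finset Bool)).image (par l ω e) : Finset W) := by
  ext x
  rw [h.mem_S, Finset.mem_coe, Finset.mem_image]
  constructor
  · rintro ⟨r, hr, hx | hx⟩
    · exact ⟨(r, true), Finset.mem_product.2 ⟨mem_RF.2 hr, Finset.mem_univ _⟩, hx.symm⟩
    · exact ⟨(r, false), Finset.mem_product.2 ⟨mem_RF.2 hr, Finset.mem_univ _⟩, hx.symm⟩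
  · rintro ⟨⟨r, b⟩, hp, rfl⟩
    refine ⟨r, mem_RF.1 (Finset.mem_product.1 hp).1, ?_⟩
    cases b
    · exact Or.inr rfl
    · exact Or.inl rfl

theorem HypE.par_inj (h : HypE M l r₀ ω e) :
    Set.InjOn (par l ω e) ((RF l h.norm_l ×ˢ (Finset.univ : Finset Bool) : Finset _) : Set _) := by
  rintro ⟨r, a⟩ hr ⟨s, b⟩ hs hrs
  rw [Finset.mem_coe, Finset.mem_product] at hr hs
  have hr' := mem_RF.1 hr.1
  have hs' := mem_RF.1 hs.1
  have key : ∀ (r : leechLattice) (a : Bool), (r : GolayPt → ℤ) ∈ RR l → ∀ x : leechLattice,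
      M.F (par l ω e (r, a)) (ω x) = M.F (ω (vv l r)) (ω x) := by
    intro r a hr x
    unfold par
    cases a
    · show M.F (ω (vv l r) - e r) (ω x) = _
      rw [map_sub, LinearMap.sub_apply, h.orth' x r hr, sub_zero]
    · show M.F (ω (vv l r) + e r) (ω x) = _
      rw [map_add, LinearMap.add_apply, h.orth' x r hr, add_zero]
  have h1 := key r a hr' (vv l r)
  rw [hrs, key s b hs', h.form_vv hs' hr', h.form_vv hr' hr', dotInt_self, hr'.2.1] at h1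
  have h2 : dotInt (s : GolayPt → ℤ) (r : GolayPt → ℤ) = 32 := by
    have : (dotInt (s : GolayPt → ℤ) (r : GolayPt → ℤ) : ℚ) = 32 := by
      push_cast at h1; linarith
    exact_mod_cast this
  have h3 : s = r := by
    apply Subtype.ext
    have h4 : sqNorm ((s : GolayPt → ℤ) - (r : GolayPt → ℤ)) = 0 := by
      rw [sqNorm_sub, hr'.2.1, hs'.2.1]; omega
    exact sub_eq_zero.1 (sqNorm_eq_zero h4)
  subst h3
  have h5 := h.e_ne hs'
  have h6 : a = b := by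
    cases a <;> cases b
    · rfl
    · exfalso
      have h7 : ω (vv l s) - e s = ω (vv l s) + e s := hrs
      rw [sub_eq_add_neg] at h7
      exact h5 (add_left_cancel h7).symm
    · exfalso
      have h7 : ω (vv l s) + e s = ω (vv l s) - e s := hrs
      rw [sub_eq_add_neg] at h7
      exact h5 (add_left_cancel h7)
    · rfl
  rw [h6]

/-- Field `S_card`. -/
theorem HypE.S_card (h : HypE M l r₀ ω e) : M.S.ncard = 9200 := by
  classical
  rw [h.S_eq, Set.ncard_coe_finset, Finset.card_image_of_injOn h.par_inj, Finset.card_product,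
    card_RF]
  rfl

/-- Field `design`. -/
theorem HypE.design (h : HypE M l r₀ ω e) : ∀ g ∈ M.C,
    ∑ᶠ c ∈ M.S, M.F c (g M.u₀) • c = (1200 : ℚ) • g M.u₀ := by
  classical
  intro g hg
  obtain ⟨s, hs, hss⟩ := (h.orbit _).1 ⟨g, hg, rfl⟩
  rw [hss, h.S_eq, finsum_mem_coe_finset, Finset.sum_image h.par_inj, Finset.sum_product]
  have h1 : ∀ r ∈ RF l h.norm_l, ∑ b ∈ (Finset.univ : Finset Bool),
      M.F (par l ω e (r, b)) (ω (vv l s)) • par l ω e (r, b) =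
      (2 : ℚ) • (M.F (ω (vv l r)) (ω (vv l s)) • ω (vv l r)) := by
    intro r hr
    have hr' := mem_RF.1 hr
    rw [Fintype.sum_bool]
    show M.F (ω (vv l r) + e r) (ω (vv l s)) • (ω (vv l r) + e r) +
      M.F (ω (vv l r) - e r) (ω (vv l s)) • (ω (vv l r) - e r) = _
    rw [map_add, map_sub, LinearMap.add_apply, LinearMap.sub_apply, h.orth' _ r hr', add_zero,
      sub_zero, smul_add, smul_sub, two_smul]
    abel
  rw [Finset.sum_congr rfl h1, ← Finset.smul_sum, h.sum_eq, smul_smul]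
  norm_num

end

end Cfsg.Agent.BabyM.RepOf
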