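import Cfsg.Agent.BabyM.KCore
import Cfsg.Agent.BabyM.RepOf
set_option linter.all false

/-!
# Transitivity on the `2300` lines

The `4600` vectors `ω (2 r - l)` are the images of `u₀` under `C`, and each of them is `± u i`; so all `2300` lines occur.
-/

set_option autoImplicit false

namespace Cfsg.Agent.BabyM.LinkTrans

open Cfsg Cfsg.Agent.Leech.Basic Cfsg.Agent.Monster.PauliRep
open Cfsg.Agent.BabyM.Model Cfsg.Agent.BabyM.QAct Cfsg.Agent.BabyM.Rigid23Thm
  Cfsg.Agent.BabyM.RigidField Cfsg.Agent.BabyM.Design Cfsg.Agent.BabyM.RepOf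

variable {n : ℕ} {ι : Type} [Fintype ι] [DecidableEq ι]

theorem exists_lane {C : Coord n ι} {u : ι → ι → ℚ} {wt : ι → ℚ} {M : BData (ι → ℚ)} {i₀ : ι}
    (h : KCore.Hyp C u wt M.C) {l r₀ : leechLattice} {ω : leechLattice →+ (ι → ℚ)}
    (h23 : Hyp23 M l r₀ ω) (hu : M.u₀ = u i₀) (hi₀ : C.isX i₀) {r : leechLattice}
    (hr : (r : GolayPt → ℤ) ∈ RR l) :
    ∃ i, C.isX i ∧ (∃ g ∈ M.C, g (u i₀) = u i ∨ g (u i₀) = - u i) ∧
      (ω (vv l r) = u i ∨ ω (vv l r) = - u i) := by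
  obtain ⟨g, hg, hgr⟩ := (h23.orbit _).2 ⟨r, hr, rfl⟩
  obtain ⟨j, hj, s, t, -, h2, -⟩ := h.fact_X hg hi₀
  rw [hu] at hgr
  have h3 : g (u i₀) = u j ∨ g (u i₀) = - u j := by
    rcases Cfsg.Agent.Monster.PauliBasic.sg_eq_or ℚ t with h4 | h4
    · left; rw [h2, h4, one_smul]
    · right; rw [h2, h4, neg_smul, one_smul]
  exact ⟨j, hj, ⟨g, hg, h3⟩, by rw [hgr]; exact h3⟩

/-- Field `trans` of `KCore.Link`. -/
theorem trans {C : Coord n ι} {u : ι → ι → ℚ} {wt : ι → ℚ} {M : BData (ι → ℚ)} {i₀ : ι}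
    (h : KCore.Hyp C u wt M.C) {l r₀ : leechLattice} {ω : leechLattice →+ (ι → ℚ)}
    (h23 : Hyp23 M l r₀ ω) (hu : M.u₀ = u i₀) (hi₀ : C.isX i₀)
    (hc : Nat.card {i // C.isX i} ≤ 2300) :
    ∀ i, C.isX i → ∃ g ∈ M.C, g (u i₀) = u i ∨ g (u i₀) = - u i := by
  classical
  have key : ∀ r : leechLattice, ∃ i, (r : GolayPt → ℤ) ∈ RR l →
      C.isX i ∧ (∃ g ∈ M.C, g (u i₀) = u i ∨ g (u i₀) = - u i) ∧
      (ω (vv l r) = u i ∨ ω (vv l r) = - u i) := by
    intro r
    by_cases hr : (r : GolayPt → ℤ) ∈ RR l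
    · obtain ⟨i, hi⟩ := exists_lane h h23 hu hi₀ hr
      exact ⟨i, fun _ => hi⟩
    · exact ⟨i₀, fun h => absurd h hr⟩
  choose f hf using key
  -- fibres
  have h1 : (RF l h23.norm_l).card ≤ 2 * ((RF l h23.norm_l).image f).card := by
    apply Finset.card_le_mul_card_image
    intro i hi
    rw [Finset.mem_image] at hi
    obtain ⟨r, hr, rfl⟩ := hi
    have hr' := mem_RF.1 hr
    have h2 : (RF l h23.norm_l).filter (fun s => f s = f r) ⊆ {r, l - r} := by
      intro s hs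
      rw [Finset.mem_filter] at hs
      obtain ⟨hs, hsr⟩ := hs
      have hs' := mem_RF.1 hs
      have h3 := (hf s hs').2.2
      have h4 := (hf r hr').2.2
      rw [hsr] at h3
      have h5 : ω (vv l s) = ω (vv l r) ∨ ω (vv l s) = ω (vv l (l - r)) := by
        rw [vv_sub, map_neg]
        rcases h3 with h3 | h3 <;> rcases h4 with h4 | h4 <;> rw [h3, h4]
        · left; rfl
        · right; rw [neg_neg]
        · right; rfl
        · left; rfl
      rw [Finset.mem_insert, Finset.mem_singleton]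
      rcases h5 with h5 | h5
      · left; exact h23.inj hs' hr' h5
      · right; exact h23.inj hs' (sub_RR h23.norm_l hr') h5
    exact (Finset.card_le_card h2).trans Finset.card_le_two
  rw [card_RF] at h1
  set T : Finset ι := Finset.univ.filter
    (fun i => C.isX i ∧ ∃ g ∈ M.C, g (u i₀) = u i ∨ g (u i₀) = - u i) with hT
  have h2 : (RF l h23.norm_l).image f ⊆ T := by
    intro i hi
    rw [Finset.mem_image] at hi
    obtain ⟨r, hr, rfl⟩ := hi
    rw [hT, Finset.mem_filter]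
    obtain ⟨h3, h4, -⟩ := hf r (mem_RF.1 hr)
    exact ⟨Finset.mem_univ _, h3, h4⟩
  have h3 : T ⊆ Finset.univ.filter (fun i => C.isX i) := by
    intro i hi
    rw [hT, Finset.mem_filter] at hi
    rw [Finset.mem_filter]
    exact ⟨hi.1, hi.2.1⟩
  have h4 : (Finset.univ.filter (fun i => C.isX i)).card ≤ 2300 := by
    rw [← Fintype.card_subtype, ← Nat.card_eq_fintype_card]
    exact hc
  have h5 := Finset.card_le_card h2
  have h6 := Finset.eq_of_subset_of_card_le h3 (by omega)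
  intro i hi
  have h7 : i ∈ T := by
    rw [h6, Finset.mem_filter]
    exact ⟨Finset.mem_univ _, hi⟩
  rw [hT, Finset.mem_filter] at h7
  exact h7.2.2

end Cfsg.Agent.BabyM.LinkTrans
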