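import Cfsg.Agent.BabyM.KFact
import Cfsg.Agent.BabyM.LinkX
set_option linter.all false

/-!
# The link of the concrete model with the abstract theory (helper235)

`KLink.link : KCore.Link KTab.Cd KTab.u KLink.w Inst.M Inst.laneB`.
-/

set_option autoImplicit false

namespace Cfsg.Agent.BabyM.KLink

open Cfsg Cfsg.Agent.Leech.Basic
open Cfsg.Agent.Monster Cfsg.Agent.Monster.VecEngine Cfsg.Agent.Monster.VecSpace
open Cfsg.Agent.Monster.PauliBasic Cfsg.Agent.Monster.PauliRep Cfsg.Agent.Monster.PauliClif Cfsg.Agent.Monster.PauliBits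
open Cfsg.Agent.BabyM.KTabData Cfsg.Agent.BabyM.QAct Cfsg.Agent.BabyM.QData Cfsg.Agent.BabyM.QData.Good
open Cfsg.Agent.BabyM.Model Cfsg.Agent.BabyM.Rigid23Thm Cfsg.Agent.BabyM.RigidField Cfsg.Agent.BabyM.Design
open Cfsg.Agent.BabyM.RepOf
open Cfsg.Agent.BabyM.Conc Cfsg.Agent.BabyM.KTab Cfsg.Agent.BabyM.KRow Cfsg.Agent.BabyM.KQ

section

variable {n : ℕ} {ι : Type} [Fintype ι] [DecidableEq ι]

open Classical in
/-- The `4600` vectors `ω (2 r - l)` are the images of `u₀`, all of them are `± u i`; so there are no coincidences. -/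
theorem count {C : Coord n ι} {u : ι → ι → ℚ} {M : BData (ι → ℚ)} {i₀ : ι}
    (hf : ∀ g ∈ M.C, ∃ i, C.isX i ∧ (g (u i₀) = u i ∨ g (u i₀) = - u i))
    {l r₀ : leechLattice} {ω : leechLattice →+ (ι → ℚ)} (h23 : Hyp23 M l r₀ ω) (hu : M.u₀ = u i₀)
    (hc : Nat.card {i // C.isX i} ≤ 2300) :
    (∀ i, C.isX i → ∃ g ∈ M.C, g (u i₀) = u i) ∧
    ∀ i j, C.isX i → C.isX j → ∀ a b : Bool, (if a = true then - u i else u i) = (if b = true then - u j else u j) →
      i = j ∧ a = b := by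
  set I : Finset (ι → ℚ) := (RF l h23.norm_l).image (fun r => ω (vv l r)) with hI
  have hIc : I.card = 4600 := by
    rw [hI, Finset.card_image_of_injOn, card_RF]
    intro r hr s hs hrs
    exact h23.inj (mem_RF.1 (Finset.mem_coe.mp hr)) (mem_RF.1 (Finset.mem_coe.mp hs)) hrs
  set X : Finset ι := Finset.univ.filter (fun i => C.isX i) with hX
  have hXc : X.card ≤ 2300 := by
    rw [hX, ← Fintype.card_subtype, ← Nat.card_eq_fintype_card]
    exact hc
  let f : ι × Bool → (ι → ℚ) := fun p => if p.2 = true then - u p.1 else u p.1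
  have hsub : I ⊆ (X ×ˢ (Finset.univ : Finset Bool)).image f := by
    intro x hx
    rw [hI, Finset.mem_image] at hx
    obtain ⟨r, hr, rfl⟩ := hx
    obtain ⟨g, hg, hgr⟩ := (h23.orbit _).2 ⟨r, mem_RF.1 hr, rfl⟩
    obtain ⟨i, hi, h1⟩ := hf g hg
    rw [Finset.mem_image]
    have hiX : i ∈ X := by rw [hX, Finset.mem_filter]; exact ⟨Finset.mem_univ _, hi⟩
    rcases h1 with h1 | h1
    · refine ⟨(i, false), Finset.mem_product.mpr ⟨hiX, Finset.mem_univ _⟩, ?_⟩
      show u i = _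
      rw [← h1, ← hu]; exact hgr.symm
    · refine ⟨(i, true), Finset.mem_product.mpr ⟨hiX, Finset.mem_univ _⟩, ?_⟩
      show - u i = _
      rw [← h1, ← hu]; exact hgr.symm
  have hP : (X ×ˢ (Finset.univ : Finset Bool)).card ≤ 4600 := by
    rw [Finset.card_product, Finset.card_univ, Fintype.card_bool]
    omega
  have h1 : ((X ×ˢ (Finset.univ : Finset Bool)).image f).card ≤ (X ×ˢ (Finset.univ : Finset Bool)).card :=
    Finset.card_image_le
  have h2 := Finset.card_le_card hsub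
  have h3 : ((X ×ˢ (Finset.univ : Finset Bool)).image f).card = (X ×ˢ (Finset.univ : Finset Bool)).card := by omega
  have hinj := Finset.card_image_iff.mp h3
  have heq : I = (X ×ˢ (Finset.univ : Finset Bool)).image f := Finset.eq_of_subset_of_card_le hsub (by omega)
  constructor
  · intro i hi
    have hm : f (i, false) ∈ I := by
      rw [heq]
      apply Finset.mem_image_of_mem
      rw [Finset.mem_product, hX, Finset.mem_filter]
      exact ⟨⟨Finset.mem_univ _, hi⟩, Finset.mem_univ _⟩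
    rw [hI, Finset.mem_image] at hm
    obtain ⟨r, hr, hr2⟩ := hm
    obtain ⟨g, hg, hgr⟩ := (h23.orbit _).2 ⟨r, mem_RF.1 hr, rfl⟩
    refine ⟨g, hg, ?_⟩
    rw [← hu]
    exact hgr.symm.trans hr2
  · intro i j hi hj a b hab
    have hm : ∀ k c, C.isX k → (k, c) ∈ (↑(X ×ˢ (Finset.univ : Finset Bool)) : Set (ι × Bool)) := by
      intro k c hk
      rw [Finset.mem_coe, Finset.mem_product, hX, Finset.mem_filter]
      exact ⟨⟨Finset.mem_univ _, hk⟩, Finset.mem_univ _⟩
    have h4 := hinj (hm i a hi) (hm j b hj) hab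
    exact ⟨congrArg Prod.fst h4, congrArg Prod.snd h4⟩

end

/-- The weights of the form. -/
noncomputable def w (i : Lane U) : ℚ := 1 / 16 * (2 : ℚ) ^ (-(val wt i.1))

theorem w_pos (i : Lane U) : 0 < w i := by
  unfold w
  positivity

theorem F_eq (x y : V) : Inst.M.F x y = KCore.wform w x y := by
  show F x y = _
  rw [F_apply]
  unfold dotW KCore.wform w
  rw [Finset.mul_sum]
  apply Finset.sum_congr rfl
  intro i _
  ring

theorem cd_1281 : cd 1281 = 0x75 := by decide +kernel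

theorem i₀_X : Cd.isX Inst.laneB := by
  rw [isX_iff]
  refine ⟨by decide, ?_⟩
  show cd 1281 ≠ 0
  rw [cd_1281]; decide

theorem t₀_eq : Inst.M.t₀ = Cd.R (Cd.c Inst.laneB) := by
  show W [.Z0, .Z2, .Z4, .Z5, .Z6] = Cd.R (dec 11 (cd 1281))
  rw [W_eq_R _ (by decide), cd_1281]
  congr 2

theorem u₀_eq : Inst.M.u₀ = u Inst.laneB := by
  show (1 / 8 : ℚ) • vecU ℚ U InstVec.u0P = vecU ℚ U (uPl 1281)
  have h : vecU ℚ U InstVec.u0P = vecU ℚ U (.cons 0 (.cons 0 (.cons 0 (uPl 1281)))) :=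
    Inst.vecU_congr (by decide +kernel)
  rw [h, KGood.vecU_cons_zero, KGood.vecU_cons_zero, KGood.vecU_cons_zero, smul_smul, smul_smul, smul_smul]
  norm_num

theorem c_sq : Cd.c Inst.laneB * Cd.c Inst.laneB = 1 := by
  show dec 11 (cd 1281) * dec 11 (cd 1281) = 1
  rw [cd_1281, ← dec_mulN (by norm_num)]
  have : mulN 11 0x75 0x75 = 0 := by decide +kernel
  rw [this, dec_zero]

theorem orbit_u : ∀ g ∈ Inst.M.C, ∃ i, Cd.isX i ∧ (g (u Inst.laneB) = u i ∨ g (u Inst.laneB) = - u i) := by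
  intro g hg
  obtain ⟨α, -, hX⟩ := KFact.fact g hg
  obtain ⟨j, hj, s, t, -, h2, -⟩ := hX _ i₀_X
  refine ⟨j, hj, ?_⟩
  rcases sg_eq_or ℚ t with h | h
  · left; rw [h2, h, one_smul]
  · right; rw [h2, h, neg_smul, one_smul]

theorem count' : (∀ i, Cd.isX i → ∃ g ∈ Inst.M.C, g (u Inst.laneB) = u i) ∧
    ∀ i j, Cd.isX i → Cd.isX j → ∀ a b : Bool, (if a = true then - u i else u i) = (if b = true then - u j else u j) →
      i = j ∧ a = b :=
  count orbit_u HeadHyp.hyp23 u₀_eq LinkX.card_X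

theorem u_ne : ∀ i, Cd.isX i → u i ≠ 0 := by
  intro i hi h
  have h2 := count'.2 i i hi hi true false
  simp only [if_true] at h2
  have h3 := (h2 (by rw [h]; simp)).2
  exact absurd h3 (by simp)

theorem u_inj : ∀ i j, Cd.isX i → Cd.isX j → (u j = u i ∨ u j = - u i) → i = j := by
  intro i j hi hj h
  rcases h with h | h
  · have h2 := count'.2 i j hi hj false false
    exact (h2 (by simpa using h.symm)).1
  · have h2 := count'.2 i j hi hj true false
    exact (h2 (by simpa using h.symm)).1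

theorem good : Good Cd u where
  c_inj := KGood.c_inj
  c_s i := dec_s (cd_lt i.1)
  gen := KGood.gen
  u_supp i j _ hj := u_supp i j hj
  u_ne := u_ne
  u_span := KGood.u_span
  u_inj := u_inj

theorem hyp : KCore.Hyp Cd u w Inst.M.C where
  good := good
  wt_pos := w_pos
  Q_le x := Q_le_C (by rw [Q_eq]; exact ⟨x, rfl⟩)
  fact := KFact.fact
  isom g hg x y := by
    rw [← F_eq, ← F_eq]
    exact C_isom g hg x y

/-- **The link.** -/
theorem link : KCore.Link Cd u w Inst.M Inst.laneB where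
  hyp := hyp
  F_eq := F_eq
  Q_eq := Q_eq
  z_eq := z_eq
  t₀_eq := t₀_eq
  u₀_eq := u₀_eq
  e₀_eq := Inst.e₀_eq
  i₀_X := i₀_X
  c_sq := c_sq
  trans i hi := by
    obtain ⟨g, hg, h⟩ := count'.1 i hi
    exact ⟨g, hg, Or.inl h⟩

end Cfsg.Agent.BabyM.KLink
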