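import Cfsg.Agent.BabyM.CertAbs
import Cfsg.Agent.BabyM.CertNbr
import Cfsg.Agent.BabyM.CertTau
import Cfsg.Agent.BabyM.CertTauD
set_option linter.all false

/-!
# The orbit table of the Baby Monster model

From an action of `N` on the 462 neighbours of the standard frame (`NbAction`) and the certificates: the fields
`closed`, `disjoint` of `BOrbit`, the lengths of the `C`-orbits and the number of signed axes.
-/

set_option autoImplicit false
set_option maxRecDepth 100000

namespace Cfsg.Agent.BabyM.CertAsm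

open Cfsg.Agent.Monster.VecEngine Cfsg.Agent.Monster.VecSpace
open Cfsg.Agent.BabyM.Conc Cfsg.Agent.BabyM.CertVec Cfsg.Agent.BabyM.CertInv Cfsg.Agent.BabyM.CertNbr
  Cfsg.Agent.BabyM.CertXi Cfsg.Agent.BabyM.CertStab Cfsg.Agent.BabyM.CertTau

/-- The action of `N` on the neighbours of the standard frame. -/
structure NbAction [MulAction N (Fin 462)] : Prop where
  act : ∀ (l : Ltr) (h : isN l = true) (y : Fin 462),
    (((⟨E l, E_mem_N h⟩ : N) • y : Fin 462) : ℕ) = lact l y
  xi : CertAbs.XiData N (E .xi) (0 : Fin 462)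

/-! ### The table -/

/-- The `C`-orbit of `v r`. -/
def jof : Fin 19 → Fin 5 := ![0, 0, 1, 0, 1, 1, 2, 2, 1, 2, 2, 3, 2, 3, 3, 4, 3, 4, 4]

/-- The representatives of the `C`-orbits. -/
def root : Fin 5 → Fin 19 := ![0, 2, 6, 11, 15]

/-- The spanning tree. -/
def par : Fin 19 → Fin 19 := ![0, 0, 1, 1, 2, 2, 3, 6, 4, 7, 7, 8, 10, 11, 11, 12, 14, 15, 17]

/-- The lengths of the `N`-orbits. -/
def len : Fin 19 → ℕ := ![176, 4928, 9856, 4096, 1892352, 337920, 8192, 3784704, 5046272, 20185088,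
  173015040, 10092544, 184549376, 346030080, 1937768448, 369098752, 5167382528, 10334765056, 8589934592]

/-- `tp` on `Fin 19`. -/
def tpF (r : Fin 19) : Fin 19 := ⟨tp r, tp_lt r r.2⟩

/-- `tm` on `Fin 19`. -/
def tmF (r : Fin 19) : Fin 19 := ⟨tm r, tm_lt r r.2⟩

/-- `tgt` on `Fin 19`. -/
def tgtF (r : Fin 19) (y : Fin 462) : Fin 19 := ⟨tgt r y, tgt_lt r r.2 y y.2⟩

theorem card_tgtF (r s : Fin 19) : Nat.card {y : Fin 462 // tgtF r y = s} = pxi r s := by
  rw [← card_tgt r s r.2 s.2]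
  exact Nat.card_congr (Equiv.subtypeEquivRight fun y => Fin.ext_iff)

theorem exists_y {r s : Fin 19} (h : pxi r s ≠ 0) : ∃ y, tgtF r y = s := by
  rw [← card_tgtF] at h
  have : Nonempty {y : Fin 462 // tgtF r y = s} := by
    by_contra hc
    rw [not_nonempty_iff] at hc
    exact h Nat.card_of_isEmpty
  obtain ⟨y, hy⟩ := this
  exact ⟨y, hy⟩

theorem pxi_zero : ∀ r s : Fin 19, jof s ≠ jof r → pxi r s = 0 := by decide +kernel

theorem jof_tgt (r : Fin 19) (y : Fin 462) : jof (tgtF r y) = jof r := by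
  by_contra hc
  have h1 := pxi_zero r _ hc
  rw [← card_tgtF] at h1
  have : Nonempty {y' : Fin 462 // tgtF r y' = tgtF r y} := ⟨⟨y, rfl⟩⟩
  have h2 : 0 < Nat.card {y' : Fin 462 // tgtF r y' = tgtF r y} := Nat.card_pos
  omega

theorem jof_root : ∀ j, jof (root j) = j := by decide +kernel

theorem conn_tab : ∀ r : Fin 19, r ≠ root (jof r) → (par r : ℕ) < r ∧ pxi (par r) r ≠ 0 := by
  decide +kernel

/-! ### The edges -/

theorem W_v {w : List Ltr} {r s : Fin 19} {w' : List Ltr}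
    (h : W w (vecU ℚ U (yv r)) = W w' (vecU ℚ U (yv s))) : W w (v r) = W w' (v s) := by
  rw [map_v, map_v, h]

theorem mem_orbit {w : List Ltr} (hw : w.all isN = true) {x : V} {s : Fin 19} (h : x = W w (v s)) :
    x ∈ MulAction.orbit N (v s) := ⟨⟨W w, W_mem_N hw⟩, h.symm⟩

theorem tau_pF (r : Fin 19) : τ • v r ∈ MulAction.orbit N (v (tpF r)) := by
  refine mem_orbit (isN_wp r r.2) ?_
  have h := tau_p r r.2
  have h1 : W [.tau] (v r) = W (wp r) (v (tpF r)) := W_v (s := tpF r) h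
  rw [W_single] at h1
  exact h1

theorem tau_mF (r : Fin 19) : τ⁻¹ • v r ∈ MulAction.orbit N (v (tmF r)) := by
  refine mem_orbit (isN_wm r r.2) ?_
  have h := tau_m r r.2
  have h1 : W [.taui] (v r) = W (wm r) (v (tmF r)) := W_v (s := tmF r) h
  rw [W_single, CertTauD.taui_eq] at h1
  exact h1

theorem NbAction.word [MulAction N (Fin 462)] (H : NbAction) {w : List Ltr} (hw : w.all isN = true) (y : Fin 462) :
    (((⟨W w, W_mem_N hw⟩ : N) • y : Fin 462) : ℕ) = wact w y := by
  induction w generalizing y with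
  | nil =>
    have : (⟨W [], W_mem_N hw⟩ : N) = 1 := rfl
    rw [this, one_smul]
    rfl
  | cons l w ih =>
    have hw' := hw
    rw [List.all_cons, Bool.and_eq_true] at hw'
    have e : (⟨W (l :: w), W_mem_N hw⟩ : N) = ⟨W w, W_mem_N hw'.2⟩ * ⟨E l, E_mem_N hw'.1⟩ :=
      Subtype.ext (W_cons l w)
    rw [e, mul_smul, ih hw'.2, H.act l hw'.1]
    rfl

theorem xi_edge [MulAction N (Fin 462)] (H : NbAction) (r : Fin 19) (y : Fin 462) :
    ∃ k : N, k • (0 : Fin 462) = y ∧ E .xi • k⁻¹ • v r ∈ MulAction.orbit N (v (tgtF r y)) := by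
  obtain ⟨i, hi, hsrc, hdst, hS⟩ := reach r r.2 y y.2
  have key := hS (fun x => ∃ k : N, ((k • (0 : Fin 462) : Fin 462) : ℕ) = x ∧
    E .xi • k⁻¹ • v r ∈ MulAction.orbit N (v (tgtF r y))) ?_ ?_ ?_
  · obtain ⟨k, hk, h⟩ := key
    exact ⟨k, Fin.ext hk, h⟩
  · -- the base point
    let g : N := ⟨W (wr i), W_mem_N (isN_wr i hi)⟩
    refine ⟨g⁻¹, ?_, ?_⟩
    · have h1 : g • (⟨CertNb.nbi i, nbi_lt i hi⟩ : Fin 462) = 0 :=
        Fin.ext ((H.word (isN_wr i hi) ⟨CertNb.nbi i, nbi_lt i hi⟩).trans (r0 i hi))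
      rw [← h1, inv_smul_smul]
    · rw [inv_inv]
      have h2 := xi_id i hi
      rw [W_append, W_single, LinearEquiv.mul_apply, hsrc, hdst] at h2
      refine mem_orbit (isN_wn i hi) ?_
      change E .xi (W (wr i) (v r)) = W (wn i) (v (tgtF r y))
      rw [map_v, map_smul, map_v]
      exact congrArg _ h2
  all_goals
    rintro x hx ⟨k, hk, h⟩
  · refine ⟨⟨W (s0 r), W_mem_N (isN_s0 r r.2)⟩ * k, ?_, ?_⟩
    · rw [mul_smul, H.word (isN_s0 r r.2), hk]
    · have h3 : (⟨W (s0 r), W_mem_N (isN_s0 r r.2)⟩ : N)⁻¹ • v r = v r := by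
        rw [inv_smul_eq_iff]
        change v r = W (s0 r) (v r)
        rw [map_v, fix0 r r.2]
        rfl
      rw [mul_inv_rev, mul_smul, h3]
      exact h
  · refine ⟨⟨W (s1 r), W_mem_N (isN_s1 r r.2)⟩ * k, ?_, ?_⟩
    · rw [mul_smul, H.word (isN_s1 r r.2), hk]
    · have h3 : (⟨W (s1 r), W_mem_N (isN_s1 r r.2)⟩ : N)⁻¹ • v r = v r := by
        rw [inv_smul_eq_iff]
        change v r = W (s1 r) (v r)
        rw [map_v, fix1 r r.2]
        rfl
      rw [mul_inv_rev, mul_smul, h3]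
      exact h

theorem dv_eq (j : Fin 5) : Inst.d j = v (root j) := by
  unfold Inst.d v
  congr 1
  fin_cases j
  · exact Inst.vecU_congr (show eqP (norm InstVec.dv0) (norm (yv 0)) = true by decide +kernel)
  · exact Inst.vecU_congr (show eqP (norm InstVec.dv1) (norm (yv 2)) = true by decide +kernel)
  · exact Inst.vecU_congr (show eqP (norm InstVec.dv2) (norm (yv 6)) = true by decide +kernel)
  · exact Inst.vecU_congr (show eqP (norm InstVec.dv3) (norm (yv 11)) = true by decide +kernel)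
  · exact Inst.vecU_congr (show eqP (norm InstVec.dv4) (norm (yv 15)) = true by decide +kernel)

/-- The orbit table. -/
theorem tab [MulAction N (Fin 462)] (H : NbAction) :
    CertAbs.Tab N C (E .xi) τ (0 : Fin 462) v Inst.d jof root tpF tmF tgtF where
  N_le := N_le_C
  C_le := C_le
  ξ_mem := xi_mem
  disj := disj
  tau_p := tau_pF
  tau_m := tau_mF
  xi := xi_edge H
  jof_tgt := jof_tgt
  jof_root := jof_root
  v_root := fun j => (dv_eq j).symm
  conn := ⟨par, fun r => r, fun r hr => ⟨(conn_tab r hr).1, exists_y (conn_tab r hr).2⟩⟩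

/-- field `closed` of `BOrbit` -/
theorem closed [MulAction N (Fin 462)] (H : NbAction) : ∀ j, ∀ g ∈ Inst.M.C, ∃ k, ∃ h ∈ Inst.M.C,
    Inst.M.τ (g (Inst.M.d j)) = h (Inst.M.d k) := by
  intro j g hg
  obtain ⟨k, g', hg', h⟩ := (tab H).closed H.xi CertTauD.tauData j g hg
  exact ⟨k, g', hg', h⟩

/-- field `disjoint` of `BOrbit` -/
theorem disjoint [MulAction N (Fin 462)] (H : NbAction) : ∀ j k, ∀ g ∈ Inst.M.C, g (Inst.M.d j) = Inst.M.d k → j = k := by
  intro j k g hg h
  exact (tab H).disjoint H.xi j k g hg h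

/-! ### Lengths -/

theorem tree_xi : ∀ r : Fin 19, r ≠ 0 → jof r = jof (par r) →
    pxi r (par r) ≠ 0 ∧ len r * pxi r (par r) = len (par r) * pxi (par r) r := by decide +kernel

theorem tree_tau : ∀ r : Fin 19, r ≠ 0 → jof r ≠ jof (par r) →
    (if tpF r = par r then 1 else 0) + (if tmF r = par r then 1 else 0) = 1 ∧
    (if tpF (par r) = r then 1 else 0) + (if tmF (par r) = r then 1 else 0) = 2 ∧
      len r = 2 * len (par r) := by decide +kernel

theorem par_lt : ∀ r : Fin 19, r ≠ 0 → (par r : ℕ) < r := by decide +kernel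

theorem tree : CertAbs.Tree tpF tmF tgtF 0 len par (fun r => (r : ℕ)) where
  rk_lt := par_lt
  edge := by
    intro r hr
    by_cases h : jof r = jof (par r)
    · left
      obtain ⟨h1, h2⟩ := tree_xi r hr h
      exact ⟨_, _, h1, card_tgtF _ _, card_tgtF _ _, h2⟩
    · right
      obtain ⟨h1, h2, h3⟩ := tree_tau r hr h
      exact ⟨1, 2, one_ne_zero, h1, h2, by rw [h3]; ring⟩

theorem sum_len : ∑ r, len r = 27143910000 := by decide +kernel

theorem sum_len_zero : (∑ r, if jof r = 0 then len r else 0) = 9200 := by decide +kernel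

theorem S_eq : Inst.M.S = MulAction.orbit C (Inst.d 0) := by
  ext x
  constructor
  · rintro ⟨g, hg, rfl⟩
    refine ⟨⟨g, hg⟩, ?_⟩
    change g (Inst.d 0) = g (Inst.M.u₀ + Inst.M.e₀)
    rw [Inst.d_zero]
    rfl
  · rintro ⟨⟨g, hg⟩, rfl⟩
    refine ⟨g, hg, ?_⟩
    change g (Inst.d 0) = g (Inst.M.u₀ + Inst.M.e₀)
    rw [Inst.d_zero]
    rfl

theorem hcal (hS : Inst.M.S.ncard = 9200) :
    Nat.card (MulAction.orbit C (Inst.d 0)) = ∑ r, if jof r = 0 then len r else 0 := by
  rw [sum_len_zero, ← hS, S_eq]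
  rfl

/-- The lengths of the `C`-orbits. -/
theorem card_C [MulAction N (Fin 462)] (H : NbAction) [Finite C] (hS : Inst.M.S.ncard = 9200) (j : Fin 5) :
    {x | ∃ g ∈ C, x = g (Inst.d j)}.ncard = ∑ r, if jof r = j then len r else 0 := by
  rw [← CertAbs.card_C (tab H) H.xi CertTauD.tauData tree 0 (by decide) (hcal hS)
    (by rw [sum_len_zero]; norm_num) j]
  change Nat.card _ = _
  congr 1
  have : {x | ∃ g ∈ C, x = g (Inst.d j)} = MulAction.orbit C (Inst.d j) := by
    ext x
    constructor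
    · rintro ⟨g, hg, rfl⟩
      exact ⟨⟨g, hg⟩, rfl⟩
    · rintro ⟨⟨g, hg⟩, rfl⟩
      exact ⟨g, hg, rfl⟩
  rw [this]

theorem sum_len_1 : (∑ r, if jof r = 1 then len r else 0) = 7286400 := by decide +kernel

theorem sum_len_2 : (∑ r, if jof r = 2 then len r else 0) = 381542400 := by decide +kernel

theorem sum_len_3 : (∑ r, if jof r = 3 then len r else 0) = 7461273600 := by decide +kernel

theorem sum_len_4 : (∑ r, if jof r = 4 then len r else 0) = 19293798400 := by decide +kernel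

/-- The lengths of the `C`-orbits, explicitly (input of `card_pairs`). -/
theorem hN [MulAction N (Fin 462)] (H : NbAction) [Finite C] (hS : Inst.M.S.ncard = 9200) (j : Fin 5) :
    {x | ∃ g ∈ Inst.M.C, x = g (Inst.M.d j)}.ncard =
      (![9200, 7286400, 381542400, 7461273600, 19293798400] : Fin 5 → ℕ) j := by
  refine (card_C H hS j).trans ?_
  fin_cases j
  · exact sum_len_zero
  · exact sum_len_1
  · exact sum_len_2
  · exact sum_len_3
  · exact sum_len_4

/-- field `card_D` of `BOrbit` -/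
theorem card_D [MulAction N (Fin 462)] (H : NbAction) [Finite C] (hS : Inst.M.S.ncard = 9200) : Inst.M.D.ncard = 27143910000 := by
  rw [← sum_len]
  exact CertAbs.card_union (tab H) H.xi CertTauD.tauData tree 0 (by decide) (hcal hS)
    (by rw [sum_len_zero]; norm_num)

end Cfsg.Agent.BabyM.CertAsm
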