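import Cfsg.Agent.BabyM.KRow
set_option linter.all false

/-!
# The Pauli letters of the concrete model (helper235)

`mono`: kernel evaluation of a monomial program at one lane.  The letters `X_k`, `Z_k`, `z` of `Conc` act as the elements of the
Pauli group with codes `2 ^ (11 + k)`, `2 ^ k`, `2 ^ 22`; hence `Conc.Q = Cd.R.range`.
-/

set_option autoImplicit false

namespace Cfsg.Agent.BabyM.KQ

open Cfsg.Agent.Lib.PermNet hiding tb tb_eq
open Cfsg.Agent.Monster Cfsg.Agent.Monster.VecEngine Cfsg.Agent.Monster.VecSpace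
open Cfsg.Agent.Monster.PauliBasic Cfsg.Agent.Monster.PauliRep Cfsg.Agent.Monster.PauliClif Cfsg.Agent.Monster.PauliBits
open Cfsg.Agent.BabyM.KTabData Cfsg.Agent.BabyM.QAct Cfsg.Agent.BabyM.QData Cfsg.Agent.BabyM.QData.Good
open Cfsg.Agent.BabyM.Conc Cfsg.Agent.BabyM.KTab Cfsg.Agent.BabyM.KRow

/-! ### Monomial programs at one lane -/

/-- The point map of a stage. -/
noncomputable def tauK (M d p : ℕ) : ℕ :=
  Bool.rec (Bool.rec p (Nat.sub p d) (and (Nat.ble d p) (tb M (Nat.sub p d)))) (Nat.add p d) (tb M p)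

theorem tauK_eq (M d p : ℕ) : tauK M d p = tau M d p := by
  unfold tauK tau
  rw [tb_eq, tb_eq]
  by_cases h1 : M.testBit p = true
  · rw [h1, if_pos rfl]; rfl
  · have h1' : M.testBit p = false := by simpa using h1
    rw [h1', if_neg (by simp)]
    by_cases h2 : d ≤ p
    · have h3 : Nat.ble d p = true := Nat.ble_eq.mpr h2
      rw [h3]
      by_cases h4 : M.testBit (p - d) = true
      · rw [if_pos ⟨h2, h4⟩]
        show (Bool.rec p (p - d) (true && M.testBit (p - d)) : ℕ) = p - d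
        rw [h4]; rfl
      · rw [if_neg (fun h => h4 h.2)]
        have h4' : M.testBit (p - d) = false := by simpa using h4
        show (Bool.rec p (p - d) (true && M.testBit (p - d)) : ℕ) = p
        rw [h4']; rfl
    · have h3 : Nat.ble d p = false := by
        cases h : Nat.ble d p
        · rfl
        · exact absurd (Nat.ble_eq.mp h) h2
      rw [h3, if_neg (fun h => h2 h.1)]
      rfl

/-- The point map of a network. -/
noncomputable def netAt (N : Net) : ℕ → (ℕ → Bool) → Bool :=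
  Net.rec (motive := fun _ => ℕ → (ℕ → Bool) → Bool) (fun p k => k p)
    (fun M d _ ih p k => ih p (fun q => seqB (tauK M d q) k)) N

theorem netAt_eq {m : ℕ} {N : Net} (h : N.ok m = true) (p : ℕ) (k : ℕ → Bool) : netAt N p k = k (N.perm p) := by
  induction N generalizing p k with
  | nil => rfl
  | cons M d L ih =>
    obtain ⟨h1, _, h3⟩ := Net.ok_cons h
    show netAt L p (fun q => seqB (tauK M d q) k) = _
    rw [ih h3, seqB_eq, tauK_eq, Net.perm_cons, Equiv.Perm.mul_apply, stagePerm_apply h1]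

/-- Lane and sign of a monomial program at one lane. -/
noncomputable def mono (P : Prog) : ℕ → (ℕ → Bool → Bool) → Bool :=
  Prog.rec (motive := fun _ => ℕ → (ℕ → Bool → Bool) → Bool)
    (fun i k => k i false)
    (fun N _ ih i k => ih i (fun j s => netAt N j (fun j' => k j' s)))
    (fun M _ ih i k => ih i (fun j s => k j (xor s (tb M j))))
    (fun _ _ _ _ _ => false)
    (fun _ _ _ _ => false)
    (fun _ _ _ _ _ _ => false) P

theorem mono_sound {m : ℕ} (P : Prog) (hP : P.ok m = true) (i : ℕ) (k : ℕ → Bool → Bool) (h : mono P i k = true) :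
    ∃ (j : ℕ) (s : Bool), (∀ f : ℕ → ℚ, sem ℚ P f i = sg ℚ (bz s) * f j) ∧ k j s = true := by
  induction P generalizing i k with
  | nil => exact ⟨i, false, fun f => by show f i = sg ℚ 0 * f i; rw [sg_zero, one_mul], h⟩
  | perm N P ih =>
    have hP' : and (N.ok m) (P.ok m) = true := hP
    rw [Bool.and_eq_true] at hP'
    obtain ⟨j, s, hj, hk⟩ := ih hP'.2 i _ h
    rw [netAt_eq hP'.1] at hk
    exact ⟨N.perm j, s, fun f => hj _, hk⟩
  | neg M P ih =>
    obtain ⟨j, s, hj, hk⟩ := ih hP i _ h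
    refine ⟨j, xor s (tb M j), fun f => ?_, hk⟩
    show sem ℚ P (lneg ℚ M f) i = _
    rw [hj, bz_xor, sg_add, tb_eq]
    show _ * (if M.testBit j then - f j else f j) = _
    by_cases hM : M.testBit j = true
    · rw [if_pos hM, hM]
      show _ = sg ℚ (bz s) * sg ℚ 1 * f j
      rw [sg_one]; ring
    · have hM' : M.testBit j = false := by simpa using hM
      rw [hM', if_neg (by simp)]
      show _ = sg ℚ (bz s) * sg ℚ 0 * f j
      rw [sg_zero]; ring
  | dbl M P _ => exact absurd (show false = true from h) (by simp)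
  | half P _ => exact absurd (show false = true from h) (by simp)
  | bfly M d P _ => exact absurd (show false = true from h) (by simp)

/-- On the lanes of `U`. -/
theorem mono_E {l : Ltr} {i : Lane U} {k : ℕ → Bool → Bool} (h : mono l.prog i.1 k = true) :
    ∃ (j : ℕ) (s : Bool), (∀ f : V, E l f i = sg ℚ (bz s) * ext ℚ U f j) ∧ k j s = true := by
  obtain ⟨j, s, hj, hk⟩ := mono_sound l.prog (good_prog l).ok i.1 k h
  refine ⟨j, s, fun f => ?_, hk⟩
  rw [E_apply]
  show sem ℚ l.prog (ext ℚ U f) i.1 = _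
  rw [hj]

/-! ### Parity -/

theorem bt_bit (b : Bool) : bit (Bool.rec 0 1 b : ℕ) 0 = bz b := by
  cases b
  · exact bit_zero 0
  · show bit 1 0 = 1
    rw [bit_one, if_pos rfl]

theorem parity_eq (x y : ℕ) (hx : x < 2048) : bz (tb PT (Nat.land x y)) = vec 11 x ⬝ᵥ vec 11 y := by
  have ht : x &&& y < 2048 := lt_of_le_of_lt Nat.and_le_left hx
  have h := Nat.eq_of_beq_eq_true (allN_spec PT_check (Nat.zero_le (x &&& y)) (by rw [zero_add]; exact ht))
  rw [vec_dot_vec, ← sum_range_32 (n := 11) (by norm_num) ht]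
  have h2 := bit_par32 (x &&& y) 0
  rw [if_pos rfl] at h2
  rw [← h2, h, bt_bit]
  rfl

/-! ### Pauli letters -/

/-- parity of the common bits, `x < 2048` -/
noncomputable def pr (x y : ℕ) : Bool := tb PT (Nat.land (Nat.land x 0x7ff) y)

theorem pr_eq (x y : ℕ) : bz (pr x y) = vec 11 (x % 2048) ⬝ᵥ vec 11 y := by
  unfold pr
  have h : Nat.land x 0x7ff = x % 2048 := by
    show x &&& (2 ^ 11 - 1) = _
    rw [Nat.and_two_pow_sub_one_eq_mod]
  rw [h]
  exact parity_eq _ _ (Nat.mod_lt _ (by norm_num))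

theorem vec_mod (x : ℕ) : vec 11 (x % 2048) = vec 11 x := by
  funext i
  show bit (x % 2 ^ 11) i = bit x i
  unfold bit
  rw [Nat.testBit_mod_two_pow]
  simp

theorem pr_eq' (x y : ℕ) : bz (pr x y) = vec 11 x ⬝ᵥ vec 11 y := by rw [pr_eq, vec_mod]

theorem vec_land (x : ℕ) : vec 11 (x &&& 0x7ff) = vec 11 x := by
  have h : x &&& 0x7ff = x % 2048 := by
    have h2 : (0x7ff : ℕ) = 2 ^ 11 - 1 := by norm_num
    rw [h2, Nat.and_two_pow_sub_one_eq_mod]
  rw [h, vec_mod]

theorem dec_a (m : ℕ) : (dec 11 m).a = vec 11 (m >>> 11) := by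
  funext i
  show bit m (11 + i) = bit (m >>> 11) i
  rw [bit_shiftRight]

theorem dec_b (m : ℕ) : (dec 11 m).b = vec 11 m := rfl

/-- The expected lane and sign of the Pauli element with code `m` at lane `i`. -/
noncomputable def exq (m i j : ℕ) (s : Bool) : Bool :=
  Bool.rec
    -- i < 4096
    (and (Nat.beq j i) (not (xor s (xor (pr m (Nat.shiftRight (cd i) 11)) (pr (cd i) (Nat.shiftRight m 11))))))
    -- 4096 ≤ i
    (and (Nat.beq j (Nat.add 4096 (Nat.xor (Nat.sub i 4096) (Nat.land (Nat.shiftRight m 11) 0x7ff))))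
      (not (xor s (xor (tb m 22) (pr m (Nat.xor (Nat.sub i 4096) (Nat.shiftRight m 11)))))))
    (Nat.ble 4096 i)

/-- The check that the letter with program `P` is the Pauli element with code `m`. -/
noncomputable def qOK (P : Prog) (m : ℕ) : Bool :=
  allN 13 (fun i => Bool.rec true (mono P i (exq m i)) (tb U i)) 0

theorem bz_inj {a b : Bool} (h : (!(xor a b)) = true) : bz a = bz b := by
  cases a <;> cases b <;> simp_all

theorem E_eq_of_qOK {l : Ltr} {m : ℕ} (h : qOK l.prog m = true) : E l = Cd.R (dec 11 m) := by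
  apply LinearEquiv.ext
  intro f
  funext i
  have hi := lt_of_U i.2
  have h1 := allN_spec h (Nat.zero_le i.1) (by rw [zero_add]; omega)
  simp only [tb_eq, i.2] at h1
  obtain ⟨j, s, hj, hk⟩ := mono_E (l := l) (i := i) h1
  rw [hj]
  unfold exq at hk
  by_cases hq : 4096 ≤ i.1
  · have hq' : Nat.ble 4096 i.1 = true := Nat.ble_eq.mpr hq
    rw [hq'] at hk
    have hk2 : and (Nat.beq j (4096 + ((i.1 - 4096) ^^^ ((m >>> 11) &&& 0x7ff))))
      (!(xor s (xor (tb m 22) (pr m ((i.1 - 4096) ^^^ (m >>> 11)))))) = true := hk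
    rw [Bool.and_eq_true] at hk2
    have hjj := Nat.eq_of_beq_eq_true hk2.1
    have hs := bz_inj hk2.2
    rw [bz_xor, pr_eq', tb_eq] at hs
    have hisq : Cd.isq i := hq
    rw [Cd.R_q _ _ hisq, rho_apply]
    have hqb : Cd.qb i = vec 11 (i.1 - 4096) := rfl
    have hadd : Cd.qb i + (dec 11 m).a = vec 11 ((i.1 - 4096) ^^^ (m >>> 11)) := by
      rw [hqb, dec_a, vec_xor]
    rw [hadd]
    have hs2 : (dec 11 m).s = bz (m.testBit 22) := by
      show bit m 22 = _
      unfold bit bz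
      rfl
    rw [hs2, dec_b, ← hs]
    congr 1
    have hidx : idx (vec 11 ((i.1 - 4096) ^^^ (m >>> 11))) = (i.1 - 4096) ^^^ ((m >>> 11) &&& 0x7ff) := by
      have e0 : vec 11 ((i.1 - 4096) ^^^ (m >>> 11)) = vec 11 ((i.1 - 4096) ^^^ ((m >>> 11) &&& 0x7ff)) := by
        rw [vec_xor, vec_xor, vec_land]
      rw [e0]
      apply idx_vec
      apply Nat.xor_lt_two_pow
      · have : i.1 - 4096 < 2 ^ 11 := by omega
        exact this
      · exact lt_of_le_of_lt Nat.and_le_right (by norm_num)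
    have hjU : U.testBit j = true := by
      rw [hjj, ← hidx]; exact testBit_q (idx_lt _)
    rw [ext_apply_of_true ℚ hjU]
    have : (⟨j, hjU⟩ : Lane U) = Cd.ql (vec 11 ((i.1 - 4096) ^^^ (m >>> 11))) := by
      apply Subtype.ext
      show j = 4096 + idx (vec 11 ((i.1 - 4096) ^^^ (m >>> 11)))
      rw [hidx, hjj]
    rw [this]
  · have hq' : Nat.ble 4096 i.1 = false := by
      cases hb : Nat.ble 4096 i.1
      · rfl
      · exact absurd (Nat.ble_eq.mp hb) hq
    rw [hq'] at hk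
    have hk2 : and (Nat.beq j i.1) (!(xor s (xor (pr m (cd i.1 >>> 11)) (pr (cd i.1) (m >>> 11))))) = true := hk
    rw [Bool.and_eq_true] at hk2
    have hjj := Nat.eq_of_beq_eq_true hk2.1
    have hs := bz_inj hk2.2
    rw [bz_xor, pr_eq', pr_eq'] at hs
    have hisq : ¬ Cd.isq i := hq
    rw [Cd.R_nq _ _ hisq, c_eq]
    unfold Pauli.form
    rw [dec_a, dec_a, dec_b, dec_b, ← hs, hjj, ext_coe]

/-! ### The checks -/

theorem E_X0 : E .X0 = Cd.R (dec 11 0x800) := E_eq_of_qOK (by decide +kernel)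

theorem E_X1 : E .X1 = Cd.R (dec 11 0x1000) := E_eq_of_qOK (by decide +kernel)

theorem E_X2 : E .X2 = Cd.R (dec 11 0x2000) := E_eq_of_qOK (by decide +kernel)

theorem E_X3 : E .X3 = Cd.R (dec 11 0x4000) := E_eq_of_qOK (by decide +kernel)

theorem E_X4 : E .X4 = Cd.R (dec 11 0x8000) := E_eq_of_qOK (by decide +kernel)

theorem E_X5 : E .X5 = Cd.R (dec 11 0x10000) := E_eq_of_qOK (by decide +kernel)

theorem E_X6 : E .X6 = Cd.R (dec 11 0x20000) := E_eq_of_qOK (by decide +kernel)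

theorem E_X7 : E .X7 = Cd.R (dec 11 0x40000) := E_eq_of_qOK (by decide +kernel)

theorem E_X8 : E .X8 = Cd.R (dec 11 0x80000) := E_eq_of_qOK (by decide +kernel)

theorem E_X9 : E .X9 = Cd.R (dec 11 0x100000) := E_eq_of_qOK (by decide +kernel)

theorem E_X10 : E .X10 = Cd.R (dec 11 0x200000) := E_eq_of_qOK (by decide +kernel)

theorem E_Z0 : E .Z0 = Cd.R (dec 11 0x1) := E_eq_of_qOK (by decide +kernel)

theorem E_Z1 : E .Z1 = Cd.R (dec 11 0x2) := E_eq_of_qOK (by decide +kernel)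

theorem E_Z2 : E .Z2 = Cd.R (dec 11 0x4) := E_eq_of_qOK (by decide +kernel)

theorem E_Z3 : E .Z3 = Cd.R (dec 11 0x8) := E_eq_of_qOK (by decide +kernel)

theorem E_Z4 : E .Z4 = Cd.R (dec 11 0x10) := E_eq_of_qOK (by decide +kernel)

theorem E_Z5 : E .Z5 = Cd.R (dec 11 0x20) := E_eq_of_qOK (by decide +kernel)

theorem E_Z6 : E .Z6 = Cd.R (dec 11 0x40) := E_eq_of_qOK (by decide +kernel)

theorem E_Z7 : E .Z7 = Cd.R (dec 11 0x80) := E_eq_of_qOK (by decide +kernel)

theorem E_Z8 : E .Z8 = Cd.R (dec 11 0x100) := E_eq_of_qOK (by decide +kernel)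

theorem E_Z9 : E .Z9 = Cd.R (dec 11 0x200) := E_eq_of_qOK (by decide +kernel)

theorem E_Z10 : E .Z10 = Cd.R (dec 11 0x400) := E_eq_of_qOK (by decide +kernel)

theorem E_z : E .z = Cd.R (dec 11 0x400000) := E_eq_of_qOK (by decide +kernel)

/-- The letter number `k` (`k < 11`: `Z_k`, `11 ≤ k < 22`: `X_(k-11)`, else `z`). -/
def qL : ℕ → Ltr
  | 0 => .Z0
  | 1 => .Z1
  | 2 => .Z2
  | 3 => .Z3
  | 4 => .Z4
  | 5 => .Z5
  | 6 => .Z6
  | 7 => .Z7
  | 8 => .Z8
  | 9 => .Z9
  | 10 => .Z10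
  | 11 => .X0
  | 12 => .X1
  | 13 => .X2
  | 14 => .X3
  | 15 => .X4
  | 16 => .X5
  | 17 => .X6
  | 18 => .X7
  | 19 => .X8
  | 20 => .X9
  | 21 => .X10
  | _ => .z

theorem E_qL (k : ℕ) (hk : k < 22) : E (qL k) = Cd.R (dec 11 (2 ^ k)) := by
  interval_cases k
  · exact E_Z0
  · exact E_Z1
  · exact E_Z2
  · exact E_Z3
  · exact E_Z4
  · exact E_Z5
  · exact E_Z6
  · exact E_Z7
  · exact E_Z8
  · exact E_Z9
  · exact E_Z10
  · exact E_X0
  · exact E_X1
  · exact E_X2
  · exact E_X3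
  · exact E_X4
  · exact E_X5
  · exact E_X6
  · exact E_X7
  · exact E_X8
  · exact E_X9
  · exact E_X10

/-! ### Words -/

/-- The code of a letter of `Q`. -/
def cl : Ltr → ℕ
  | .Z0 => 0x1
  | .Z1 => 0x2
  | .Z2 => 0x4
  | .Z3 => 0x8
  | .Z4 => 0x10
  | .Z5 => 0x20
  | .Z6 => 0x40
  | .Z7 => 0x80
  | .Z8 => 0x100
  | .Z9 => 0x200
  | .Z10 => 0x400
  | .X0 => 0x800
  | .X1 => 0x1000
  | .X2 => 0x2000
  | .X3 => 0x4000
  | .X4 => 0x8000
  | .X5 => 0x10000
  | .X6 => 0x20000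
  | .X7 => 0x40000
  | .X8 => 0x80000
  | .X9 => 0x100000
  | .X10 => 0x200000
  | .z => 0x400000
  | _ => 0

/-- letters of `Q` -/
def isq : Ltr → Bool
  | .Z0 => true
  | .Z1 => true
  | .Z2 => true
  | .Z3 => true
  | .Z4 => true
  | .Z5 => true
  | .Z6 => true
  | .Z7 => true
  | .Z8 => true
  | .Z9 => true
  | .Z10 => true
  | .X0 => true
  | .X1 => true
  | .X2 => true
  | .X3 => true
  | .X4 => true
  | .X5 => true
  | .X6 => true
  | .X7 => true
  | .X8 => true
  | .X9 => true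
  | .X10 => true
  | .z => true
  | _ => false

theorem E_cl {l : Ltr} (h : isq l = true) : E l = Cd.R (dec 11 (cl l)) := by
  cases l
  · exact E_z
  · exact E_X0
  · exact E_X1
  · exact E_X2
  · exact E_X3
  · exact E_X4
  · exact E_X5
  · exact E_X6
  · exact E_X7
  · exact E_X8
  · exact E_X9
  · exact E_X10
  · exact E_Z0
  · exact E_Z1
  · exact E_Z2
  · exact E_Z3
  · exact E_Z4
  · exact E_Z5
  · exact E_Z6
  · exact E_Z7
  · exact E_Z8
  · exact E_Z9
  · exact E_Z10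
  all_goals exact absurd h (by decide)

/-- The code of a word in letters of `Q`. -/
noncomputable def cw (v : List Ltr) : ℕ :=
  List.rec (motive := fun _ => ℕ) 0 (fun l _ ih => mulK ih (cl l)) v

theorem W_eq_R (v : List Ltr) (hv : v.all isq = true) : W v = Cd.R (dec 11 (cw v)) := by
  induction v with
  | nil =>
    show (1 : V ≃ₗ[ℚ] V) = Cd.R (dec 11 0)
    rw [dec_zero, map_one]
  | cons l v ih =>
    rw [List.all_cons, Bool.and_eq_true] at hv
    rw [W_cons, ih hv.2, E_cl hv.1, ← map_mul]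
    show _ = Cd.R (dec 11 (mulK (cw v) (cl l)))
    rw [mulK_eq, dec_mulN (by norm_num)]

/-! ### The subgroup `Q` -/

theorem isQ_qL (k : ℕ) (hk : k < 22) : (qL k).isQ = true := by
  interval_cases k <;> rfl

theorem exists_qL {l : Ltr} (h : l.isQ = true) : ∃ k < 22, l = qL k := by
  cases l
  case X0 => exact ⟨11, by norm_num, rfl⟩
  case X1 => exact ⟨12, by norm_num, rfl⟩
  case X2 => exact ⟨13, by norm_num, rfl⟩
  case X3 => exact ⟨14, by norm_num, rfl⟩
  case X4 => exact ⟨15, by norm_num, rfl⟩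
  case X5 => exact ⟨16, by norm_num, rfl⟩
  case X6 => exact ⟨17, by norm_num, rfl⟩
  case X7 => exact ⟨18, by norm_num, rfl⟩
  case X8 => exact ⟨19, by norm_num, rfl⟩
  case X9 => exact ⟨20, by norm_num, rfl⟩
  case X10 => exact ⟨21, by norm_num, rfl⟩
  case Z0 => exact ⟨0, by norm_num, rfl⟩
  case Z1 => exact ⟨1, by norm_num, rfl⟩
  case Z2 => exact ⟨2, by norm_num, rfl⟩
  case Z3 => exact ⟨3, by norm_num, rfl⟩
  case Z4 => exact ⟨4, by norm_num, rfl⟩
  case Z5 => exact ⟨5, by norm_num, rfl⟩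
  case Z6 => exact ⟨6, by norm_num, rfl⟩
  case Z7 => exact ⟨7, by norm_num, rfl⟩
  case Z8 => exact ⟨8, by norm_num, rfl⟩
  case Z9 => exact ⟨9, by norm_num, rfl⟩
  case Z10 => exact ⟨10, by norm_num, rfl⟩
  all_goals exact absurd h (by decide)

open Cfsg.Agent.Monster.PauliGates in
/-- The Pauli group is generated by the `X_k` and `Z_k`. -/
theorem closure_gens : Subgroup.closure {x : Pauli 11 | ∃ k < 22, x = dec 11 (2 ^ k)} = ⊤ := by
  set H := Subgroup.closure {x : Pauli 11 | ∃ k < 22, x = dec 11 (2 ^ k)} with hH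
  have hX : ∀ i : Fin 11, (⟨0, dl i, 0⟩ : Pauli 11) ∈ H := by
    intro i
    apply Subgroup.subset_closure
    exact ⟨11 + i.1, by have := i.2; omega, (dec_X i).symm⟩
  have hZ : ∀ i : Fin 11, (⟨0, 0, dl i⟩ : Pauli 11) ∈ H := by
    intro i
    apply Subgroup.subset_closure
    exact ⟨i.1, by have := i.2; omega, (dec_Z i).symm⟩
  have hz : Pauli.z 11 ∈ H := by
    have h1 : (⟨0, dl 0, 0⟩ : Pauli 11) * ⟨0, 0, dl 0⟩ * (⟨0, dl 0, 0⟩ : Pauli 11)⁻¹ =
        Pauli.z 11 * ⟨0, 0, dl 0⟩ := by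
      rw [Pauli.conj_eq, Pauli.z_mul]
      have : Pauli.form (⟨0, dl 0, 0⟩ : Pauli 11) ⟨0, 0, dl 0⟩ = 1 := by
        simp [Pauli.form]
      rw [this]
    rw [eq_mul_inv_of_mul_eq h1.symm]
    exact H.mul_mem (H.mul_mem (H.mul_mem (hX 0) (hZ 0)) (H.inv_mem (hX 0))) (H.inv_mem (hZ 0))
  have hA : ∀ S : Finset (Fin 11), (⟨0, ∑ i ∈ S, dl i, 0⟩ : Pauli 11) ∈ H := by
    intro S
    induction S using Finset.induction_on with
    | empty =>
      rw [Finset.sum_empty]
      exact H.one_mem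
    | insert i S hi ih =>
      have : (⟨0, ∑ j ∈ insert i S, dl j, 0⟩ : Pauli 11) =
          ⟨0, dl i, 0⟩ * ⟨0, ∑ j ∈ S, dl j, 0⟩ := by
        rw [Finset.sum_insert hi]
        ext k <;> simp
      rw [this]
      exact H.mul_mem (hX i) ih
  have hB : ∀ S : Finset (Fin 11), (⟨0, 0, ∑ i ∈ S, dl i⟩ : Pauli 11) ∈ H := by
    intro S
    induction S using Finset.induction_on with
    | empty =>
      rw [Finset.sum_empty]
      exact H.one_mem
    | insert i S hi ih =>
      have : (⟨0, 0, ∑ j ∈ insert i S, dl j⟩ : Pauli 11) =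
          ⟨0, 0, dl i⟩ * ⟨0, 0, ∑ j ∈ S, dl j⟩ := by
        rw [Finset.sum_insert hi]
        ext k <;> simp
      rw [this]
      exact H.mul_mem (hZ i) ih
  have hv : ∀ v : B 11, v = ∑ i ∈ Finset.univ.filter (fun i => v i = 1), dl i := by
    intro v
    funext k
    rw [Finset.sum_apply, Finset.sum_filter]
    rw [Finset.sum_eq_single k]
    · rcases zmod2_cases (v k) with h | h
      · rw [h]; simp
      · rw [h]; simp
    · intro i _ hik
      rw [dl_ne (Ne.symm hik)]; simp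
    · intro h; exact absurd (Finset.mem_univ _) h
  rw [eq_top_iff]
  intro x _
  have hx : x = ⟨x.s, 0, 0⟩ * (⟨0, x.a, 0⟩ * ⟨0, 0, x.b⟩) := by
    ext i <;> simp
  rw [hx]
  refine H.mul_mem ?_ (H.mul_mem ?_ ?_)
  · rcases zmod2_cases x.s with h | h
    · rw [h]; exact H.one_mem
    · rw [h]; exact hz
  · rw [hv x.a]; exact hA _
  · rw [hv x.b]; exact hB _

theorem Q_eq : Q = Cd.R.range := by
  rw [MonoidHom.range_eq_map, ← closure_gens, MonoidHom.map_closure]
  show Subgroup.closure _ = _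
  congr 1
  ext g
  constructor
  · rintro ⟨l, hl, rfl⟩
    obtain ⟨k, hk, rfl⟩ := exists_qL hl
    exact ⟨dec 11 (2 ^ k), ⟨k, hk, rfl⟩, (E_qL k hk).symm⟩
  · rintro ⟨x, ⟨k, hk, rfl⟩, rfl⟩
    exact ⟨qL k, isQ_qL k hk, (E_qL k hk).symm⟩

theorem dec_z : dec 11 0x400000 = Pauli.z 11 := by
  have h : ∀ k, bit 0x400000 k = if k = 22 then 1 else 0 := by
    intro k
    have h2 := bit_b1_shiftLeft 1 0 22 k
    simpa [b1, bit_one, Nat.one_shiftLeft] using h2
  refine Pauli.ext ?_ ?_ ?_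
  · show bit 0x400000 22 = 1
    rw [h, if_pos rfl]
  · funext i
    show bit 0x400000 (11 + i.1) = 0
    have : 11 + i.1 ≠ 22 := by omega
    rw [h, if_neg this]
  · funext i
    show bit 0x400000 i.1 = 0
    have : i.1 ≠ 22 := by omega
    rw [h, if_neg this]

theorem z_eq : z = Cd.R (Pauli.z 11) := by
  rw [← dec_z]; exact E_z

/-! ### Relations -/

/-- The relation `l q_k = v l`, where the word `v` has the code `im I k`. -/
theorem rel_R {l : Ltr} {I k : ℕ} (hk : k < 22) {v : List Ltr} (hv : v.all isq = true)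
    (hc : Nat.beq (cw v) (im I k) = true) (h : W [qL k, l] = W (l :: v)) :
    E l * Cd.R (dec 11 (2 ^ k)) = Cd.R (dec 11 (im I k)) * E l := by
  rw [W_cons, W_single, W_cons, W_eq_R v hv, Nat.eq_of_beq_eq_true hc, E_qL k hk] at h
  exact h

/-- **The facts for a letter.** -/
theorem fact_of {l : Ltr} {T I : ℕ} (hrel : ∀ k < 22, E l * Cd.R (dec 11 (2 ^ k)) = Cd.R (dec 11 (im I k)) * E l)
    (hrow : ∀ c < 12, chunk l.prog T I c = true) :
    ∃ α : MulAut (Pauli 11), (∀ x, E l * Cd.R x = Cd.R (α x) * E l) ∧ XFact Cd u (E l) α := by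
  obtain ⟨α, hα⟩ := KCore.exists_aut Cd.R Cd.R_injective (E l) closure_gens (by
    rintro x ⟨k, hk, rfl⟩
    exact ⟨_, hrel k hk⟩)
  refine ⟨α, hα, xfact_of_rows hrow ?_⟩
  intro k hk
  apply Cd.R_injective
  exact mul_right_cancel ((hα _).symm.trans (hrel k hk))

end Cfsg.Agent.BabyM.KQ
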