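import Cfsg.Agent.BabyM.ThetaHom
import Cfsg.Agent.BabyM.CertAbs
import Cfsg.Agent.BabyM.CertNbr
import Cfsg.Agent.BabyM.CertInv
import Cfsg.Agent.BabyM.CertAsm
set_option linter.all false

/-!
# The group `N = 2^{1+22}.2^{10}.M22.2` of the concrete model and its action on the 462 neighbours

`N` is generated by the letters `X_k`, `Z_k`, `y_k`, `p`, `h`.  It acts on the neighbours of the
standard frame through `π`; the letters act by the tables of `NbAct` (`lact` of `CertNbr`).  The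
facts `XiData` on `ξ`, from the hypothesis that the kernel of `π` is `Q`.
-/

set_option autoImplicit false

open scoped Pointwise

namespace Cfsg.Agent.BabyM.ThetaN

open Cfsg Cfsg.Agent.Leech.Code Cfsg.Agent.Leech.Basic Cfsg.Agent.Leech.Co0Elts
  Cfsg.Agent.BabyM.Co2Gen Cfsg.Agent.BabyM.Co2GenStd Cfsg.Agent.BabyM.NbAct Cfsg.Agent.SporadicA
  Cfsg.Agent.BabyM.Conc Cfsg.Agent.Monster.VecEngine Cfsg.Agent.Monster.VecSpace
  Cfsg.Agent.BabyM.ThetaInst Cfsg.Agent.BabyM.ThetaXi Cfsg.Agent.BabyM.ThetaHom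
  Cfsg.Agent.BabyM.CertVec Cfsg.Agent.BabyM.CertNbr Cfsg.Agent.BabyM.CertAbs
  Cfsg.Agent.BabyM.CertInv

/-! ### The group `N` -/

theorem W_mem_N' {w : List Ltr} (h : ∀ l ∈ w, isN l = true) : W w ∈ N := by
  induction w with
  | nil => rw [W_nil]; exact N.one_mem
  | cons l w ih =>
    rw [W_cons]
    exact N.mul_mem (ih fun m hm => h m (List.mem_cons_of_mem _ hm))
      (E_mem_N (h l List.mem_cons_self))

theorem isC_of_isN {l : Ltr} (h : isN l = true) : l.isC = true := by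
  cases l <;> first | rfl | exact absurd (show false = true from h) Bool.false_ne_true

theorem isN_of_isQ {l : Ltr} (h : l.isQ = true) : isN l = true := by
  cases l <;> first | rfl | exact absurd (show false = true from h) Bool.false_ne_true

theorem N_le_C : N ≤ C := by
  apply Subgroup.closure_mono
  rintro g ⟨l, hl, rfl⟩
  exact ⟨l, isC_of_isN hl, rfl⟩

theorem Q_le_N : Q ≤ N := by
  apply Subgroup.closure_mono
  rintro g ⟨l, hl, rfl⟩
  exact ⟨l, isN_of_isQ hl, rfl⟩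

theorem C_le : C ≤ Subgroup.closure ((N : Set (V ≃ₗ[ℚ] V)) ∪ {E .xi}) := by
  unfold C
  rw [Subgroup.closure_le]
  rintro g ⟨l, hl, rfl⟩
  by_cases h : isN l = true
  · exact Subgroup.subset_closure (Or.inl (E_mem_N h))
  · have h1 : l = .xi := by
      cases l <;> first | rfl | exact absurd rfl h |
        exact absurd (show false = true from hl) Bool.false_ne_true
    rw [h1]
    exact Subgroup.subset_closure (Or.inr rfl)

theorem ξ_mem_C : E .xi ∈ C := E_mem_C rfl

/-! ### The values of `π` on the letters of `N` -/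

theorem cases_isN {l : Ltr} (h : isN l = true) :
    (l.isQ = true ∧ ∀ i, lact l i = i) ∨
    (∃ k, yIdx l = some k ∧ ∀ i, lact l i = look (tY k) i) ∨ l = .p ∨ l = .h := by
  cases l <;> first
    | exact Or.inl ⟨rfl, fun _ => rfl⟩
    | exact Or.inr (Or.inl ⟨_, rfl, fun _ => rfl⟩)
    | exact Or.inr (Or.inr (Or.inl rfl))
    | exact Or.inr (Or.inr (Or.inr rfl))
    | exact absurd (show false = true from h) Bool.false_ne_true

/-- An element of `N` acts on the head as an element of `NN`. -/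
theorem rel_N : ∀ g ∈ N, ∃ c ∈ NN, Rel g c := by
  have hcl := closure_eq_NN pPerm_tab hPerm_tab
  intro g hg
  induction hg using Subgroup.closure_induction with
  | mem g hg =>
    obtain ⟨l, hl, rfl⟩ := hg
    rcases cases_isN hl with ⟨h1, -⟩ | ⟨k, hk, -⟩ | rfl | rfl
    · exact ⟨1, NN.one_mem, rel_Q h1⟩
    · refine ⟨_, ?_, rel_y hk⟩
      rw [← hcl]
      exact Subgroup.subset_closure (.sgn k (yIdx_lt hk))
    · refine ⟨_, ?_, rel_p⟩
      rw [← hcl]
      exact Subgroup.subset_closure .p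
    · refine ⟨_, ?_, rel_h⟩
      rw [← hcl]
      exact Subgroup.subset_closure .h
  | one => exact ⟨1, NN.one_mem, Rel.one⟩
  | mul a b _ _ ha hb =>
    obtain ⟨c, hc, h1⟩ := ha
    obtain ⟨d, hd, h2⟩ := hb
    exact ⟨c * d, NN.mul_mem hc hd, h1.mul h2⟩
  | inv a _ ha =>
    obtain ⟨c, hc, h1⟩ := ha
    exact ⟨c⁻¹, NN.inv_mem hc, h1.inv⟩

theorem rel_NN {g : V ≃ₗ[ℚ] V} (hg : g ∈ N) {c : Co0} (h : Rel g c) : c ∈ NN := by
  obtain ⟨d, hd, h1⟩ := rel_N g hg
  rw [h.unique h1]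
  exact hd

/-- The action of `N` on the head. -/
noncomputable def πN : N →* NN :=
  (π.comp (Subgroup.inclusion N_le_C)).codRestrict NN fun g =>
    rel_NN g.2 (rel_π (Subgroup.inclusion N_le_C g))

theorem rel_πN (g : N) : Rel (g : V ≃ₗ[ℚ] V) (πN g) := rel_π (Subgroup.inclusion N_le_C g)

theorem πN_eq {g : N} {c : Co0} (h : Rel (g : V ≃ₗ[ℚ] V) c) : ((πN g : NN) : Co0) = c :=
  (rel_πN g).unique h

/-- **The action on the 462 neighbours.** -/
noncomputable instance : MulAction N (Fin 462) := MulAction.compHom (Fin 462) πN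

theorem smul_def (g : N) (i : Fin 462) : g • i = πN g • i := rfl

/-- The action of an element acting on the head as `c`. -/
theorem smul_eq {g : N} {c : Co0} (h : Rel (g : V ≃ₗ[ℚ] V) c) {i j : Fin 462}
    (hc : c • fr i = fr j) : g • i = j := by
  rw [smul_def]
  apply smul_eq_of
  rw [πN_eq h]
  exact hc

/-- The letters act by the tables. -/
theorem smul_letter {l : Ltr} (h : isN l = true) (g : N) (hg : (g : V ≃ₗ[ℚ] V) = E l)
    (i : Fin 462) : ((g • i : Fin 462) : ℕ) = lact l i := by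
  rcases cases_isN h with ⟨h1, h2⟩ | ⟨k, hk, h2⟩ | rfl | rfl
  · rw [h2, smul_eq (c := 1) (i := i) (j := i) (by rw [hg]; exact rel_Q h1) (one_smul _ _)]
  · rw [h2, smul_eq (by rw [hg]; exact rel_y hk) (sgn_fr _ (okY k (yIdx_lt hk)) i)]
  · have h3 := smul_eq (by rw [hg]; exact rel_p) (perm_fr (DuadGen.p_mem pPerm_tab) pPerm_tab okP i)
    rw [h3]; rfl
  · have h3 := smul_eq (g := g) (i := i) (by rw [hg]; exact rel_h) (by
      show (negOne * perm hPerm (DuadGen.h_mem hPerm_tab)) • fr i = _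
      rw [mul_smul, perm_fr (DuadGen.h_mem hPerm_tab) hPerm_tab okH i]; exact negOne_fr _)
    rw [h3]; rfl

/-- The words act by the tables. -/
theorem smul_word {w : List Ltr} (h : ∀ l ∈ w, isN l = true) (g : N)
    (hg : (g : V ≃ₗ[ℚ] V) = W w) (i : Fin 462) : ((g • i : Fin 462) : ℕ) = wact w i := by
  induction w generalizing g i with
  | nil =>
    have : g = 1 := Subtype.ext hg
    rw [this, one_smul]; rfl
  | cons l w ih =>
    have hl := h l List.mem_cons_self
    have hw : ∀ m ∈ w, isN m = true := fun m hm => h m (List.mem_cons_of_mem _ hm)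
    let a : N := ⟨E l, E_mem_N hl⟩
    let b : N := ⟨W w, W_mem_N' hw⟩
    have h1 : g = b * a := Subtype.ext (by rw [hg, W_cons]; rfl)
    rw [h1, mul_smul, ih hw b rfl, smul_letter hl a rfl]
    rfl

/-! ### Transitivity -/

/-- parents in a tree, packed -/
def tPar : ℕ :=
  0x399b2e54cb91a4e357389b8e151b811adf4c379a6dd703715adb72b6944d9723612cd770b59b4d53fb51cad33f34912d156341c6cf50b39c4cd4ab31c2cb443292ac93eb2124c74c31928c54bb112cc3383097ec15eb0140bf6faf928bd6f2f180bb6eae91eb95b2e0dcb7312d8dab530ad0d8b35bac8d6b12fac0d4af552b9b8ad4fab15eab49aa9b4a956aa1b2a746a99b0a534a90a6a34fa88a4a152280a29f2e279449d38a71189b2d2689c992ca6152976ba593c956b251249364a490a916a240ee8f69a38d08d69230b08b212281e8920a2098870821896851fa1094831f208928105200127f1e1f88e7d541f1987b659e9a079669e1a077421d99c753b1d17673339c998712b9c1966f231b8606d1d9b05e6b371a85c691c9a0d8671c19858651b99056631b18854611a980525f33978945d651708e5b64968925964160965763958ea5563150cc53211488251621408a4f23138664d2d930b24b0e1284e490d920ba470d1184a4528910aa430c10846410b900ac3f0b0f8423d0a8f0403b1c0e984391a8e18237478d98035410d17e333a0c97c31328c17a2f2a8b8662d220b1762b190a97429150a04a27118981025098900e23090884c2108880361f08078081d07870061b0706800191086002170b0580015058511013430490a11458411c0f5b839120d37830fc0b41028c8095a020fe075981886054201062031f8083c011680000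

/-- letters of the tree, packed (`10 = p`, `11 = h`) -/
def tLet : ℕ :=
  0x8b7a7b6a6b6a5a5a5b5b4a4a4a4a4a3b3b3a3b3a3a2a2a2a2a2a2a2a1b1a1b1b1b1b1b1b0b0b0a0a0a0a0b0a0b1b1a1a1a1a1a1b1a3a0a0a0a0a0b0a0a0b0a0b2a0a2a2b2a2b2a2a2b4b1b0a1a0a1a1a1a1a1a1b1a1a3a0a5a0a1a0a0b0a0a0b0a0a0a0a2a0b4b0a0a2a2b2b2a2b2b2a3a1a0b1a0a3a1a0a1a1a1a1b1a1a1b1a2a0a2a0a1a2a0a1b0b0a0b0a0b0a0b0a0a1a0a1b0b0a1a0b0a0b0b0a0a0a0b0a0a0b1b0a1a0a0b1a0a0a4a0b0a0b0a0a0a0a0a0a1a0a1a0a0b1a0a0a3a3b0b0b0a0a0a0a0b0a0b1a0a1a0a0a1b0b0a2b2a2a0b0b0b0b0a0a0b0b0b2b0a3a0b0a3a0b0a1b1a1b10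

/-- depths, packed -/
def tRk : ℕ :=
  0x1284a0e64a107399074a0c54a0e6524e641d2841d075a949290c55a9495a92852507525495a8c54a0e65252862d6a41d8b524e6399ac524e66b1495258b62d6a5a96a62dee4a107315496b1073992841d496b128314c55256a290e662d28525cd41d074a1074a0c562ca45a96a3158b3990741d8b29128734e620d2862d2862dac52483525285a96a5a96a525495a96a5a9285a96a5a9285a949525cd62d6a5258b41d49735285a9495a9285a88362d28398e65258b41dac41ca45258b5a9ac6b1073150741d8b189495a9286b0e620dac1896a62d285258b5a928399ac5256a62d074a1074a1ac5256a4a1074a1493998b4a1ac315ac525077356a62ca4398415a98b188415a94941ca44a1ac5a8c562ca45256a62d6a62dcd5254920d8b5a820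

/-- the letter of a number -/
def ltr : ℕ → Ltr
  | 0 => .y1
  | 1 => .y2
  | 2 => .y3
  | 3 => .y4
  | 4 => .y5
  | 5 => .y6
  | 6 => .y7
  | 7 => .y8
  | 8 => .y9
  | 9 => .y10
  | 10 => .p
  | _ => .h

theorem isN_ltr (n : ℕ) : isN (ltr n) = true := by
  unfold ltr
  split <;> rfl

/-- the parent of `i` -/
def par (i : ℕ) : ℕ := look tPar i

/-- the letter of `i` -/
def let' (i : ℕ) : Ltr := ltr ((tLet >>> (4 * i)) % 16)

/-- the depth of `i` -/
def rk (i : ℕ) : ℕ := look5 tRk i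

theorem tree_check : ∀ i < 462, i ≠ 0 → par i < 462 ∧ rk (par i) < rk i ∧
    lact (let' i) (par i) = i := by decide +kernel

/-- `N` is transitive on the neighbours. -/
theorem trans (y : Fin 462) : ∃ k : N, k • (0 : Fin 462) = y := by
  have key : ∀ n, ∀ y : Fin 462, rk y < n → ∃ k : N, k • (0 : Fin 462) = y := by
    intro n
    induction n with
    | zero => intro y hy; exact absurd hy (Nat.not_lt_zero _)
    | succ n ih =>
      intro y hy
      by_cases hy0 : (y : ℕ) = 0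
      · exact ⟨1, by rw [one_smul]; exact Fin.ext hy0.symm⟩
      obtain ⟨h1, h2, h3⟩ := tree_check y y.2 hy0
      obtain ⟨k, hk⟩ := ih ⟨par y, h1⟩ (lt_of_lt_of_le h2 (Nat.lt_succ_iff.1 hy))
      let a : N := ⟨E (let' y), E_mem_N (isN_ltr _)⟩
      refine ⟨a * k, ?_⟩
      rw [mul_smul, hk]
      apply Fin.ext
      rw [smul_letter (isN_ltr _) a rfl]
      exact h3
  exact key _ y (Nat.lt_succ_self _)

/-! ### The facts on `ξ` -/

theorem πN_surjective : Function.Surjective πN := by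
  rintro ⟨c, hc⟩
  have h1 : ∀ c ∈ NN, ∃ g ∈ N, Rel g c := by
    intro c hc
    rw [← closure_eq_NN pPerm_tab hPerm_tab] at hc
    induction hc using Subgroup.closure_induction with
    | mem x hx =>
      cases hx with
      | sgn k hk =>
        have : ∃ l : Ltr, isN l = true ∧ yIdx l = some k := by
          interval_cases k
          · exact ⟨.y1, rfl, rfl⟩
          · exact ⟨.y2, rfl, rfl⟩
          · exact ⟨.y3, rfl, rfl⟩
          · exact ⟨.y4, rfl, rfl⟩
          · exact ⟨.y5, rfl, rfl⟩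
          · exact ⟨.y6, rfl, rfl⟩
          · exact ⟨.y7, rfl, rfl⟩
          · exact ⟨.y8, rfl, rfl⟩
          · exact ⟨.y9, rfl, rfl⟩
          · exact ⟨.y10, rfl, rfl⟩
        obtain ⟨l, hl, hk'⟩ := this
        exact ⟨E l, E_mem_N hl, rel_y hk'⟩
      | p => exact ⟨E .p, E_mem_N rfl, rel_p⟩
      | h => exact ⟨E .h, E_mem_N rfl, rel_h⟩
    | one => exact ⟨1, N.one_mem, Rel.one⟩
    | mul a b _ _ ha hb =>
      obtain ⟨g, hg, h1⟩ := ha
      obtain ⟨g', hg', h2⟩ := hb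
      exact ⟨g * g', N.mul_mem hg hg', h1.mul h2⟩
    | inv a _ ha =>
      obtain ⟨g, hg, h1⟩ := ha
      exact ⟨g⁻¹, N.inv_mem hg, h1.inv⟩
  obtain ⟨g, hg, h2⟩ := h1 c hc
  exact ⟨⟨g, hg⟩, Subtype.ext (πN_eq h2)⟩

/-- Membership in `N`, when the kernel of the action on the head is `Q`. -/
theorem mem_N_of (hker : ∀ g ∈ C, Rel g 1 → g ∈ Q) {g : V ≃ₗ[ℚ] V} (hg : g ∈ C) {c : Co0}
    (hc : c ∈ NN) (h : Rel g c) : g ∈ N := by
  obtain ⟨n, hn⟩ := πN_surjective ⟨c, hc⟩
  have h1 : Rel (n : V ≃ₗ[ℚ] V) c := by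
    have := rel_πN n
    rwa [hn] at this
  have h2 : g * (n : V ≃ₗ[ℚ] V)⁻¹ ∈ Q := by
    apply hker _ (C.mul_mem hg (C.inv_mem (N_le_C n.2)))
    have := h.mul h1.inv
    rwa [mul_inv_cancel] at this
  have h3 := N.mul_mem (Q_le_N h2) n.2
  rwa [inv_mul_cancel_right] at h3

/-- **The facts on `ξ`.** -/
theorem xiData (hker : ∀ g ∈ C, Rel g 1 → g ∈ Q) : XiData N (E .xi) (0 : Fin 462) where
  trans := trans
  conj k hk := by
    rw [smul_def, smul_zero_iff] at hk
    exact mem_N_of hker (C.mul_mem (C.mul_mem ξ_mem_C (N_le_C k.2)) (C.inv_mem ξ_mem_C)) hk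
      ((rel_xi.mul (rel_πN k)).mul rel_xi.inv)
  conj' k hk := by
    rw [smul_def, smul_zero_iff] at hk
    refine mem_N_of hker (C.mul_mem (C.mul_mem (C.inv_mem ξ_mem_C) (N_le_C k.2)) ξ_mem_C)
      (c := ξ * (πN k : Co0) * ξ⁻¹) hk ?_
    have := (rel_xi.inv.mul (rel_πN k)).mul rel_xi
    rwa [show ξ⁻¹ * (πN k : Co0) * ξ = ξ * (πN k : Co0) * ξ⁻¹ by rw [ξ_inv]] at this
  sq := by
    have h1 : Rel (E .xi * E .xi) 1 := by
      have := rel_xi.mul rel_xi
      rwa [ξ_mul_self] at this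
    have h2 : E .xi * E .xi ∈ N := Q_le_N (hker _ (C.mul_mem ξ_mem_C ξ_mem_C) h1)
    exact ⟨⟨_, h2⟩, smul_eq (c := 1) h1 (one_smul _ _), rfl⟩

/-- **The action on the neighbours, in the form used by `CertAsm`.** -/
theorem nbAction (hker : ∀ g ∈ C, Rel g 1 → g ∈ Q) : CertAsm.NbAction where
  act _ h y := smul_letter h _ rfl y
  xi := xiData hker

end Cfsg.Agent.BabyM.ThetaN
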