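import Cfsg.Agent.BabyM.KQ
import Cfsg.Agent.BabyM.ConcEq
import Cfsg.Agent.BabyM.KRowData
set_option linter.all false

/-! Conjugates of the Pauli letters under y6, y7, y8, y9, y10 (helper235). -/

set_option autoImplicit false

namespace Cfsg.Agent.BabyM.KRelY2

open Cfsg.Agent.Monster.PauliBits Cfsg.Agent.BabyM.Conc Cfsg.Agent.BabyM.ConcEq Cfsg.Agent.BabyM.KTab
open Cfsg.Agent.BabyM.KRow Cfsg.Agent.BabyM.KRowData Cfsg.Agent.BabyM.KQ

theorem y6_0 : W [.Z0, .y6] = W [.y6, .Z0] :=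
  eqM (by decide +kernel)

theorem y6_1 : W [.Z1, .y6] = W [.y6, .Z1] :=
  eqM (by decide +kernel)

theorem y6_2 : W [.Z2, .y6] = W [.y6, .Z2] :=
  eqM (by decide +kernel)

theorem y6_3 : W [.Z3, .y6] = W [.y6, .Z3] :=
  eqM (by decide +kernel)

theorem y6_4 : W [.Z4, .y6] = W [.y6, .Z4] :=
  eqM (by decide +kernel)

theorem y6_5 : W [.Z5, .y6] = W [.y6, .Z5, .Z10] :=
  eqM (by decide +kernel)

theorem y6_6 : W [.Z6, .y6] = W [.y6, .Z6] :=
  eqM (by decide +kernel)

theorem y6_7 : W [.Z7, .y6] = W [.y6, .Z7] :=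
  eqM (by decide +kernel)

theorem y6_8 : W [.Z8, .y6] = W [.y6, .Z8] :=
  eqM (by decide +kernel)

theorem y6_9 : W [.Z9, .y6] = W [.y6, .Z9] :=
  eqM (by decide +kernel)

theorem y6_10 : W [.Z10, .y6] = W [.y6, .Z10] :=
  eqM (by decide +kernel)

theorem y6_11 : W [.X0, .y6] = W [.y6, .Z3, .Z6, .Z7, .Z9, .X0] :=
  eqM (by decide +kernel)

theorem y6_12 : W [.X1, .y6] = W [.y6, .Z2, .Z3, .Z9, .X1] :=
  eqM (by decide +kernel)

theorem y6_13 : W [.X2, .y6] = W [.y6, .Z1, .Z3, .Z6, .Z8, .X2] :=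
  eqM (by decide +kernel)

theorem y6_14 : W [.X3, .y6] = W [.y6, .Z0, .Z1, .Z2, .Z4, .Z6, .Z7, .Z8, .Z9, .Z10, .X3, .z] :=
  eqM (by decide +kernel)

theorem y6_15 : W [.X4, .y6] = W [.y6, .Z3, .Z6, .X4] :=
  eqM (by decide +kernel)

theorem y6_16 : W [.X5, .y6] = W [.y6, .X5] :=
  eqM (by decide +kernel)

theorem y6_17 : W [.X6, .y6] = W [.y6, .Z0, .Z2, .Z3, .Z4, .X6] :=
  eqM (by decide +kernel)

theorem y6_18 : W [.X7, .y6] = W [.y6, .Z0, .Z3, .Z8, .X7] :=
  eqM (by decide +kernel)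

theorem y6_19 : W [.X8, .y6] = W [.y6, .Z2, .Z3, .Z7, .X8] :=
  eqM (by decide +kernel)

theorem y6_20 : W [.X9, .y6] = W [.y6, .Z0, .Z1, .Z3, .X9] :=
  eqM (by decide +kernel)

theorem y6_21 : W [.X10, .y6] = W [.y6, .Z3, .X5, .X10] :=
  eqM (by decide +kernel)

theorem rel_y6 : ∀ k < 22, E .y6 * Cd.R (dec 11 (2 ^ k)) = Cd.R (dec 11 (im I_y6 k)) * E .y6 := by
  intro k hk
  interval_cases k
  · exact rel_R (v := [.Z0]) (by norm_num) (by decide) (by decide +kernel) y6_0
  · exact rel_R (v := [.Z1]) (by norm_num) (by decide) (by decide +kernel) y6_1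
  · exact rel_R (v := [.Z2]) (by norm_num) (by decide) (by decide +kernel) y6_2
  · exact rel_R (v := [.Z3]) (by norm_num) (by decide) (by decide +kernel) y6_3
  · exact rel_R (v := [.Z4]) (by norm_num) (by decide) (by decide +kernel) y6_4
  · exact rel_R (v := [.Z5, .Z10]) (by norm_num) (by decide) (by decide +kernel) y6_5
  · exact rel_R (v := [.Z6]) (by norm_num) (by decide) (by decide +kernel) y6_6
  · exact rel_R (v := [.Z7]) (by norm_num) (by decide) (by decide +kernel) y6_7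
  · exact rel_R (v := [.Z8]) (by norm_num) (by decide) (by decide +kernel) y6_8
  · exact rel_R (v := [.Z9]) (by norm_num) (by decide) (by decide +kernel) y6_9
  · exact rel_R (v := [.Z10]) (by norm_num) (by decide) (by decide +kernel) y6_10
  · exact rel_R (v := [.Z3, .Z6, .Z7, .Z9, .X0]) (by norm_num) (by decide) (by decide +kernel) y6_11
  · exact rel_R (v := [.Z2, .Z3, .Z9, .X1]) (by norm_num) (by decide) (by decide +kernel) y6_12
  · exact rel_R (v := [.Z1, .Z3, .Z6, .Z8, .X2]) (by norm_num) (by decide) (by decide +kernel) y6_13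
  · exact rel_R (v := [.Z0, .Z1, .Z2, .Z4, .Z6, .Z7, .Z8, .Z9, .Z10, .X3, .z]) (by norm_num) (by decide) (by decide +kernel) y6_14
  · exact rel_R (v := [.Z3, .Z6, .X4]) (by norm_num) (by decide) (by decide +kernel) y6_15
  · exact rel_R (v := [.X5]) (by norm_num) (by decide) (by decide +kernel) y6_16
  · exact rel_R (v := [.Z0, .Z2, .Z3, .Z4, .X6]) (by norm_num) (by decide) (by decide +kernel) y6_17
  · exact rel_R (v := [.Z0, .Z3, .Z8, .X7]) (by norm_num) (by decide) (by decide +kernel) y6_18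
  · exact rel_R (v := [.Z2, .Z3, .Z7, .X8]) (by norm_num) (by decide) (by decide +kernel) y6_19
  · exact rel_R (v := [.Z0, .Z1, .Z3, .X9]) (by norm_num) (by decide) (by decide +kernel) y6_20
  · exact rel_R (v := [.Z3, .X5, .X10]) (by norm_num) (by decide) (by decide +kernel) y6_21

theorem y7_0 : W [.Z0, .y7] = W [.y7, .Z0] :=
  eqM (by decide +kernel)

theorem y7_1 : W [.Z1, .y7] = W [.y7, .Z1] :=
  eqM (by decide +kernel)

theorem y7_2 : W [.Z2, .y7] = W [.y7, .Z2] :=
  eqM (by decide +kernel)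

theorem y7_3 : W [.Z3, .y7] = W [.y7, .Z3] :=
  eqM (by decide +kernel)

theorem y7_4 : W [.Z4, .y7] = W [.y7, .Z4] :=
  eqM (by decide +kernel)

theorem y7_5 : W [.Z5, .y7] = W [.y7, .Z5] :=
  eqM (by decide +kernel)

theorem y7_6 : W [.Z6, .y7] = W [.y7, .Z6, .Z10] :=
  eqM (by decide +kernel)

theorem y7_7 : W [.Z7, .y7] = W [.y7, .Z7] :=
  eqM (by decide +kernel)

theorem y7_8 : W [.Z8, .y7] = W [.y7, .Z8] :=
  eqM (by decide +kernel)

theorem y7_9 : W [.Z9, .y7] = W [.y7, .Z9] :=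
  eqM (by decide +kernel)

theorem y7_10 : W [.Z10, .y7] = W [.y7, .Z10] :=
  eqM (by decide +kernel)

theorem y7_11 : W [.X0, .y7] = W [.y7, .Z4, .Z5, .Z9, .X0] :=
  eqM (by decide +kernel)

theorem y7_12 : W [.X1, .y7] = W [.y7, .Z2, .Z4, .Z8, .Z9, .X1] :=
  eqM (by decide +kernel)

theorem y7_13 : W [.X2, .y7] = W [.y7, .Z1, .Z4, .Z5, .X2] :=
  eqM (by decide +kernel)

theorem y7_14 : W [.X3, .y7] = W [.y7, .Z4, .Z5, .Z7, .Z8, .X3] :=
  eqM (by decide +kernel)

theorem y7_15 : W [.X4, .y7] = W [.y7, .Z0, .Z1, .Z2, .Z3, .Z5, .Z7, .Z8, .Z9, .Z10, .X4, .z] :=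
  eqM (by decide +kernel)

theorem y7_16 : W [.X5, .y7] = W [.y7, .Z0, .Z2, .Z3, .Z4, .X5] :=
  eqM (by decide +kernel)

theorem y7_17 : W [.X6, .y7] = W [.y7, .X6] :=
  eqM (by decide +kernel)

theorem y7_18 : W [.X7, .y7] = W [.y7, .Z3, .Z4, .Z9, .X7] :=
  eqM (by decide +kernel)

theorem y7_19 : W [.X8, .y7] = W [.y7, .Z1, .Z3, .Z4, .X8] :=
  eqM (by decide +kernel)

theorem y7_20 : W [.X9, .y7] = W [.y7, .Z0, .Z1, .Z4, .Z7, .X9] :=
  eqM (by decide +kernel)

theorem y7_21 : W [.X10, .y7] = W [.y7, .Z4, .X6, .X10] :=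
  eqM (by decide +kernel)

theorem rel_y7 : ∀ k < 22, E .y7 * Cd.R (dec 11 (2 ^ k)) = Cd.R (dec 11 (im I_y7 k)) * E .y7 := by
  intro k hk
  interval_cases k
  · exact rel_R (v := [.Z0]) (by norm_num) (by decide) (by decide +kernel) y7_0
  · exact rel_R (v := [.Z1]) (by norm_num) (by decide) (by decide +kernel) y7_1
  · exact rel_R (v := [.Z2]) (by norm_num) (by decide) (by decide +kernel) y7_2
  · exact rel_R (v := [.Z3]) (by norm_num) (by decide) (by decide +kernel) y7_3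
  · exact rel_R (v := [.Z4]) (by norm_num) (by decide) (by decide +kernel) y7_4
  · exact rel_R (v := [.Z5]) (by norm_num) (by decide) (by decide +kernel) y7_5
  · exact rel_R (v := [.Z6, .Z10]) (by norm_num) (by decide) (by decide +kernel) y7_6
  · exact rel_R (v := [.Z7]) (by norm_num) (by decide) (by decide +kernel) y7_7
  · exact rel_R (v := [.Z8]) (by norm_num) (by decide) (by decide +kernel) y7_8
  · exact rel_R (v := [.Z9]) (by norm_num) (by decide) (by decide +kernel) y7_9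
  · exact rel_R (v := [.Z10]) (by norm_num) (by decide) (by decide +kernel) y7_10
  · exact rel_R (v := [.Z4, .Z5, .Z9, .X0]) (by norm_num) (by decide) (by decide +kernel) y7_11
  · exact rel_R (v := [.Z2, .Z4, .Z8, .Z9, .X1]) (by norm_num) (by decide) (by decide +kernel) y7_12
  · exact rel_R (v := [.Z1, .Z4, .Z5, .X2]) (by norm_num) (by decide) (by decide +kernel) y7_13
  · exact rel_R (v := [.Z4, .Z5, .Z7, .Z8, .X3]) (by norm_num) (by decide) (by decide +kernel) y7_14
  · exact rel_R (v := [.Z0, .Z1, .Z2, .Z3, .Z5, .Z7, .Z8, .Z9, .Z10, .X4, .z]) (by norm_num) (by decide) (by decide +kernel) y7_15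
  · exact rel_R (v := [.Z0, .Z2, .Z3, .Z4, .X5]) (by norm_num) (by decide) (by decide +kernel) y7_16
  · exact rel_R (v := [.X6]) (by norm_num) (by decide) (by decide +kernel) y7_17
  · exact rel_R (v := [.Z3, .Z4, .Z9, .X7]) (by norm_num) (by decide) (by decide +kernel) y7_18
  · exact rel_R (v := [.Z1, .Z3, .Z4, .X8]) (by norm_num) (by decide) (by decide +kernel) y7_19
  · exact rel_R (v := [.Z0, .Z1, .Z4, .Z7, .X9]) (by norm_num) (by decide) (by decide +kernel) y7_20
  · exact rel_R (v := [.Z4, .X6, .X10]) (by norm_num) (by decide) (by decide +kernel) y7_21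

theorem y8_0 : W [.Z0, .y8] = W [.y8, .Z0] :=
  eqM (by decide +kernel)

theorem y8_1 : W [.Z1, .y8] = W [.y8, .Z1] :=
  eqM (by decide +kernel)

theorem y8_2 : W [.Z2, .y8] = W [.y8, .Z2] :=
  eqM (by decide +kernel)

theorem y8_3 : W [.Z3, .y8] = W [.y8, .Z3] :=
  eqM (by decide +kernel)

theorem y8_4 : W [.Z4, .y8] = W [.y8, .Z4] :=
  eqM (by decide +kernel)

theorem y8_5 : W [.Z5, .y8] = W [.y8, .Z5] :=
  eqM (by decide +kernel)

theorem y8_6 : W [.Z6, .y8] = W [.y8, .Z6] :=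
  eqM (by decide +kernel)

theorem y8_7 : W [.Z7, .y8] = W [.y8, .Z7, .Z10] :=
  eqM (by decide +kernel)

theorem y8_8 : W [.Z8, .y8] = W [.y8, .Z8] :=
  eqM (by decide +kernel)

theorem y8_9 : W [.Z9, .y8] = W [.y8, .Z9] :=
  eqM (by decide +kernel)

theorem y8_10 : W [.Z10, .y8] = W [.y8, .Z10] :=
  eqM (by decide +kernel)

theorem y8_11 : W [.X0, .y8] = W [.y8, .Z1, .Z5, .Z9, .X0] :=
  eqM (by decide +kernel)

theorem y8_12 : W [.X1, .y8] = W [.y8, .Z0, .Z2, .Z4, .X1] :=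
  eqM (by decide +kernel)

theorem y8_13 : W [.X2, .y8] = W [.y8, .Z1, .Z3, .X2] :=
  eqM (by decide +kernel)

theorem y8_14 : W [.X3, .y8] = W [.y8, .Z2, .Z5, .Z6, .X3] :=
  eqM (by decide +kernel)

theorem y8_15 : W [.X4, .y8] = W [.y8, .Z1, .Z6, .Z8, .X4] :=
  eqM (by decide +kernel)

theorem y8_16 : W [.X5, .y8] = W [.y8, .Z0, .Z3, .Z8, .X5] :=
  eqM (by decide +kernel)

theorem y8_17 : W [.X6, .y8] = W [.y8, .Z3, .Z4, .Z9, .X6] :=
  eqM (by decide +kernel)

theorem y8_18 : W [.X7, .y8] = W [.y8, .X7] :=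
  eqM (by decide +kernel)

theorem y8_19 : W [.X8, .y8] = W [.y8, .Z4, .Z5, .X8] :=
  eqM (by decide +kernel)

theorem y8_20 : W [.X9, .y8] = W [.y8, .Z0, .Z6, .X9] :=
  eqM (by decide +kernel)

theorem y8_21 : W [.X10, .y8] = W [.y8, .X7, .X10] :=
  eqM (by decide +kernel)

theorem rel_y8 : ∀ k < 22, E .y8 * Cd.R (dec 11 (2 ^ k)) = Cd.R (dec 11 (im I_y8 k)) * E .y8 := by
  intro k hk
  interval_cases k
  · exact rel_R (v := [.Z0]) (by norm_num) (by decide) (by decide +kernel) y8_0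
  · exact rel_R (v := [.Z1]) (by norm_num) (by decide) (by decide +kernel) y8_1
  · exact rel_R (v := [.Z2]) (by norm_num) (by decide) (by decide +kernel) y8_2
  · exact rel_R (v := [.Z3]) (by norm_num) (by decide) (by decide +kernel) y8_3
  · exact rel_R (v := [.Z4]) (by norm_num) (by decide) (by decide +kernel) y8_4
  · exact rel_R (v := [.Z5]) (by norm_num) (by decide) (by decide +kernel) y8_5
  · exact rel_R (v := [.Z6]) (by norm_num) (by decide) (by decide +kernel) y8_6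
  · exact rel_R (v := [.Z7, .Z10]) (by norm_num) (by decide) (by decide +kernel) y8_7
  · exact rel_R (v := [.Z8]) (by norm_num) (by decide) (by decide +kernel) y8_8
  · exact rel_R (v := [.Z9]) (by norm_num) (by decide) (by decide +kernel) y8_9
  · exact rel_R (v := [.Z10]) (by norm_num) (by decide) (by decide +kernel) y8_10
  · exact rel_R (v := [.Z1, .Z5, .Z9, .X0]) (by norm_num) (by decide) (by decide +kernel) y8_11
  · exact rel_R (v := [.Z0, .Z2, .Z4, .X1]) (by norm_num) (by decide) (by decide +kernel) y8_12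
  · exact rel_R (v := [.Z1, .Z3, .X2]) (by norm_num) (by decide) (by decide +kernel) y8_13
  · exact rel_R (v := [.Z2, .Z5, .Z6, .X3]) (by norm_num) (by decide) (by decide +kernel) y8_14
  · exact rel_R (v := [.Z1, .Z6, .Z8, .X4]) (by norm_num) (by decide) (by decide +kernel) y8_15
  · exact rel_R (v := [.Z0, .Z3, .Z8, .X5]) (by norm_num) (by decide) (by decide +kernel) y8_16
  · exact rel_R (v := [.Z3, .Z4, .Z9, .X6]) (by norm_num) (by decide) (by decide +kernel) y8_17
  · exact rel_R (v := [.X7]) (by norm_num) (by decide) (by decide +kernel) y8_18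
  · exact rel_R (v := [.Z4, .Z5, .X8]) (by norm_num) (by decide) (by decide +kernel) y8_19
  · exact rel_R (v := [.Z0, .Z6, .X9]) (by norm_num) (by decide) (by decide +kernel) y8_20
  · exact rel_R (v := [.X7, .X10]) (by norm_num) (by decide) (by decide +kernel) y8_21

theorem y9_0 : W [.Z0, .y9] = W [.y9, .Z0] :=
  eqM (by decide +kernel)

theorem y9_1 : W [.Z1, .y9] = W [.y9, .Z1] :=
  eqM (by decide +kernel)

theorem y9_2 : W [.Z2, .y9] = W [.y9, .Z2] :=
  eqM (by decide +kernel)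

theorem y9_3 : W [.Z3, .y9] = W [.y9, .Z3] :=
  eqM (by decide +kernel)

theorem y9_4 : W [.Z4, .y9] = W [.y9, .Z4] :=
  eqM (by decide +kernel)

theorem y9_5 : W [.Z5, .y9] = W [.y9, .Z5] :=
  eqM (by decide +kernel)

theorem y9_6 : W [.Z6, .y9] = W [.y9, .Z6] :=
  eqM (by decide +kernel)

theorem y9_7 : W [.Z7, .y9] = W [.y9, .Z7] :=
  eqM (by decide +kernel)

theorem y9_8 : W [.Z8, .y9] = W [.y9, .Z8, .Z10] :=
  eqM (by decide +kernel)

theorem y9_9 : W [.Z9, .y9] = W [.y9, .Z9] :=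
  eqM (by decide +kernel)

theorem y9_10 : W [.Z10, .y9] = W [.y9, .Z10] :=
  eqM (by decide +kernel)

theorem y9_11 : W [.X0, .y9] = W [.y9, .Z3, .Z9, .X0] :=
  eqM (by decide +kernel)

theorem y9_12 : W [.X1, .y9] = W [.y9, .Z2, .Z6, .X1] :=
  eqM (by decide +kernel)

theorem y9_13 : W [.X2, .y9] = W [.y9, .Z1, .Z5, .Z9, .X2] :=
  eqM (by decide +kernel)

theorem y9_14 : W [.X3, .y9] = W [.y9, .Z0, .Z5, .Z6, .X3] :=
  eqM (by decide +kernel)

theorem y9_15 : W [.X4, .y9] = W [.y9, .Z6, .Z7, .Z9, .X4] :=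
  eqM (by decide +kernel)

theorem y9_16 : W [.X5, .y9] = W [.y9, .Z2, .Z3, .Z7, .X5] :=
  eqM (by decide +kernel)

theorem y9_17 : W [.X6, .y9] = W [.y9, .Z1, .Z3, .Z4, .X6] :=
  eqM (by decide +kernel)

theorem y9_18 : W [.X7, .y9] = W [.y9, .Z4, .Z5, .X7] :=
  eqM (by decide +kernel)

theorem y9_19 : W [.X8, .y9] = W [.y9, .X8] :=
  eqM (by decide +kernel)

theorem y9_20 : W [.X9, .y9] = W [.y9, .Z0, .Z2, .Z4, .X9] :=
  eqM (by decide +kernel)

theorem y9_21 : W [.X10, .y9] = W [.y9, .X8, .X10] :=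
  eqM (by decide +kernel)

theorem rel_y9 : ∀ k < 22, E .y9 * Cd.R (dec 11 (2 ^ k)) = Cd.R (dec 11 (im I_y9 k)) * E .y9 := by
  intro k hk
  interval_cases k
  · exact rel_R (v := [.Z0]) (by norm_num) (by decide) (by decide +kernel) y9_0
  · exact rel_R (v := [.Z1]) (by norm_num) (by decide) (by decide +kernel) y9_1
  · exact rel_R (v := [.Z2]) (by norm_num) (by decide) (by decide +kernel) y9_2
  · exact rel_R (v := [.Z3]) (by norm_num) (by decide) (by decide +kernel) y9_3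
  · exact rel_R (v := [.Z4]) (by norm_num) (by decide) (by decide +kernel) y9_4
  · exact rel_R (v := [.Z5]) (by norm_num) (by decide) (by decide +kernel) y9_5
  · exact rel_R (v := [.Z6]) (by norm_num) (by decide) (by decide +kernel) y9_6
  · exact rel_R (v := [.Z7]) (by norm_num) (by decide) (by decide +kernel) y9_7
  · exact rel_R (v := [.Z8, .Z10]) (by norm_num) (by decide) (by decide +kernel) y9_8
  · exact rel_R (v := [.Z9]) (by norm_num) (by decide) (by decide +kernel) y9_9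
  · exact rel_R (v := [.Z10]) (by norm_num) (by decide) (by decide +kernel) y9_10
  · exact rel_R (v := [.Z3, .Z9, .X0]) (by norm_num) (by decide) (by decide +kernel) y9_11
  · exact rel_R (v := [.Z2, .Z6, .X1]) (by norm_num) (by decide) (by decide +kernel) y9_12
  · exact rel_R (v := [.Z1, .Z5, .Z9, .X2]) (by norm_num) (by decide) (by decide +kernel) y9_13
  · exact rel_R (v := [.Z0, .Z5, .Z6, .X3]) (by norm_num) (by decide) (by decide +kernel) y9_14
  · exact rel_R (v := [.Z6, .Z7, .Z9, .X4]) (by norm_num) (by decide) (by decide +kernel) y9_15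
  · exact rel_R (v := [.Z2, .Z3, .Z7, .X5]) (by norm_num) (by decide) (by decide +kernel) y9_16
  · exact rel_R (v := [.Z1, .Z3, .Z4, .X6]) (by norm_num) (by decide) (by decide +kernel) y9_17
  · exact rel_R (v := [.Z4, .Z5, .X7]) (by norm_num) (by decide) (by decide +kernel) y9_18
  · exact rel_R (v := [.X8]) (by norm_num) (by decide) (by decide +kernel) y9_19
  · exact rel_R (v := [.Z0, .Z2, .Z4, .X9]) (by norm_num) (by decide) (by decide +kernel) y9_20
  · exact rel_R (v := [.X8, .X10]) (by norm_num) (by decide) (by decide +kernel) y9_21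

theorem y10_0 : W [.Z0, .y10] = W [.y10, .Z0] :=
  eqM (by decide +kernel)

theorem y10_1 : W [.Z1, .y10] = W [.y10, .Z1] :=
  eqM (by decide +kernel)

theorem y10_2 : W [.Z2, .y10] = W [.y10, .Z2] :=
  eqM (by decide +kernel)

theorem y10_3 : W [.Z3, .y10] = W [.y10, .Z3] :=
  eqM (by decide +kernel)

theorem y10_4 : W [.Z4, .y10] = W [.y10, .Z4] :=
  eqM (by decide +kernel)

theorem y10_5 : W [.Z5, .y10] = W [.y10, .Z5] :=
  eqM (by decide +kernel)

theorem y10_6 : W [.Z6, .y10] = W [.y10, .Z6] :=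
  eqM (by decide +kernel)

theorem y10_7 : W [.Z7, .y10] = W [.y10, .Z7] :=
  eqM (by decide +kernel)

theorem y10_8 : W [.Z8, .y10] = W [.y10, .Z8] :=
  eqM (by decide +kernel)

theorem y10_9 : W [.Z9, .y10] = W [.y10, .Z9, .Z10] :=
  eqM (by decide +kernel)

theorem y10_10 : W [.Z10, .y10] = W [.y10, .Z10] :=
  eqM (by decide +kernel)

theorem y10_11 : W [.X0, .y10] = W [.y10, .Z1, .Z2, .Z3, .Z4, .Z5, .Z6, .Z7, .Z8, .Z10, .X0, .z] :=
  eqM (by decide +kernel)

theorem y10_12 : W [.X1, .y10] = W [.y10, .Z0, .Z2, .Z5, .Z6, .X1] :=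
  eqM (by decide +kernel)

theorem y10_13 : W [.X2, .y10] = W [.y10, .Z0, .Z1, .Z8, .X2] :=
  eqM (by decide +kernel)

theorem y10_14 : W [.X3, .y10] = W [.y10, .Z0, .Z4, .Z5, .X3] :=
  eqM (by decide +kernel)

theorem y10_15 : W [.X4, .y10] = W [.y10, .Z0, .Z3, .Z6, .Z8, .X4] :=
  eqM (by decide +kernel)

theorem y10_16 : W [.X5, .y10] = W [.y10, .Z0, .Z1, .Z3, .X5] :=
  eqM (by decide +kernel)

theorem y10_17 : W [.X6, .y10] = W [.y10, .Z0, .Z1, .Z4, .Z7, .X6] :=
  eqM (by decide +kernel)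

theorem y10_18 : W [.X7, .y10] = W [.y10, .Z0, .Z6, .X7] :=
  eqM (by decide +kernel)

theorem y10_19 : W [.X8, .y10] = W [.y10, .Z0, .Z2, .Z4, .X8] :=
  eqM (by decide +kernel)

theorem y10_20 : W [.X9, .y10] = W [.y10, .X9] :=
  eqM (by decide +kernel)

theorem y10_21 : W [.X10, .y10] = W [.y10, .Z0, .X9, .X10] :=
  eqM (by decide +kernel)

theorem rel_y10 : ∀ k < 22, E .y10 * Cd.R (dec 11 (2 ^ k)) = Cd.R (dec 11 (im I_y10 k)) * E .y10 := by
  intro k hk
  interval_cases k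
  · exact rel_R (v := [.Z0]) (by norm_num) (by decide) (by decide +kernel) y10_0
  · exact rel_R (v := [.Z1]) (by norm_num) (by decide) (by decide +kernel) y10_1
  · exact rel_R (v := [.Z2]) (by norm_num) (by decide) (by decide +kernel) y10_2
  · exact rel_R (v := [.Z3]) (by norm_num) (by decide) (by decide +kernel) y10_3
  · exact rel_R (v := [.Z4]) (by norm_num) (by decide) (by decide +kernel) y10_4
  · exact rel_R (v := [.Z5]) (by norm_num) (by decide) (by decide +kernel) y10_5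
  · exact rel_R (v := [.Z6]) (by norm_num) (by decide) (by decide +kernel) y10_6
  · exact rel_R (v := [.Z7]) (by norm_num) (by decide) (by decide +kernel) y10_7
  · exact rel_R (v := [.Z8]) (by norm_num) (by decide) (by decide +kernel) y10_8
  · exact rel_R (v := [.Z9, .Z10]) (by norm_num) (by decide) (by decide +kernel) y10_9
  · exact rel_R (v := [.Z10]) (by norm_num) (by decide) (by decide +kernel) y10_10
  · exact rel_R (v := [.Z1, .Z2, .Z3, .Z4, .Z5, .Z6, .Z7, .Z8, .Z10, .X0, .z]) (by norm_num) (by decide) (by decide +kernel) y10_11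
  · exact rel_R (v := [.Z0, .Z2, .Z5, .Z6, .X1]) (by norm_num) (by decide) (by decide +kernel) y10_12
  · exact rel_R (v := [.Z0, .Z1, .Z8, .X2]) (by norm_num) (by decide) (by decide +kernel) y10_13
  · exact rel_R (v := [.Z0, .Z4, .Z5, .X3]) (by norm_num) (by decide) (by decide +kernel) y10_14
  · exact rel_R (v := [.Z0, .Z3, .Z6, .Z8, .X4]) (by norm_num) (by decide) (by decide +kernel) y10_15
  · exact rel_R (v := [.Z0, .Z1, .Z3, .X5]) (by norm_num) (by decide) (by decide +kernel) y10_16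
  · exact rel_R (v := [.Z0, .Z1, .Z4, .Z7, .X6]) (by norm_num) (by decide) (by decide +kernel) y10_17
  · exact rel_R (v := [.Z0, .Z6, .X7]) (by norm_num) (by decide) (by decide +kernel) y10_18
  · exact rel_R (v := [.Z0, .Z2, .Z4, .X8]) (by norm_num) (by decide) (by decide +kernel) y10_19
  · exact rel_R (v := [.X9]) (by norm_num) (by decide) (by decide +kernel) y10_20
  · exact rel_R (v := [.Z0, .X9, .X10]) (by norm_num) (by decide) (by decide +kernel) y10_21

end Cfsg.Agent.BabyM.KRelY2
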