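import Cfsg.Agent.BabyM.KRow
import Cfsg.Agent.BabyM.KRowData
set_option linter.all false

/-! Rows of the letter `y9` of `C` (helper235). -/

set_option autoImplicit false

namespace Cfsg.Agent.BabyM.KRow_y9

open Cfsg.Agent.BabyM.KRow Cfsg.Agent.BabyM.KRowData Cfsg.Agent.BabyM.Conc

theorem c0 : chunk (Ltr.prog .y9) T_y9 I_y9 0 = true := by decide +kernel

theorem c1 : chunk (Ltr.prog .y9) T_y9 I_y9 1 = true := by decide +kernel

theorem c2 : chunk (Ltr.prog .y9) T_y9 I_y9 2 = true := by decide +kernel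

theorem c3 : chunk (Ltr.prog .y9) T_y9 I_y9 3 = true := by decide +kernel

theorem c4 : chunk (Ltr.prog .y9) T_y9 I_y9 4 = true := by decide +kernel

theorem c5 : chunk (Ltr.prog .y9) T_y9 I_y9 5 = true := by decide +kernel

theorem c6 : chunk (Ltr.prog .y9) T_y9 I_y9 6 = true := by decide +kernel

theorem c7 : chunk (Ltr.prog .y9) T_y9 I_y9 7 = true := by decide +kernel

theorem c8 : chunk (Ltr.prog .y9) T_y9 I_y9 8 = true := by decide +kernel

theorem c9 : chunk (Ltr.prog .y9) T_y9 I_y9 9 = true := by decide +kernel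

theorem c10 : chunk (Ltr.prog .y9) T_y9 I_y9 10 = true := by decide +kernel

theorem c11 : chunk (Ltr.prog .y9) T_y9 I_y9 11 = true := by decide +kernel

theorem rows : ∀ c < 12, chunk (Ltr.prog .y9) T_y9 I_y9 c = true := by
  intro c hc
  interval_cases c
  · exact c0
  · exact c1
  · exact c2
  · exact c3
  · exact c4
  · exact c5
  · exact c6
  · exact c7
  · exact c8
  · exact c9
  · exact c10
  · exact c11

end Cfsg.Agent.BabyM.KRow_y9
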