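import Cfsg.Agent.BabyM.Model
import Cfsg.Agent.Monster.AbstractOrder
import Cfsg.Prelude.Def_Sporadic
set_option linter.all false

/-!
# The Baby Monster: order of `G` and the class of transpositions, from the model facts

Inputs besides the structures of `Model.lean`:
* `hrig : ∀ g ∈ M.G, g d₀ = d₀ → g d₁ = d₁ → g ∈ M.C`;
* `hint : ∀ g ∈ M.G, g d₀ = d₀ ∨ g d₀ = -d₀ → g * t₀ = t₀ * g`.
-/

set_option autoImplicit false

namespace Cfsg.Agent.BabyM.Count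

open Cfsg.Agent.BabyM.Model

variable {W : Type} [AddCommGroup W] [Module ℚ W] {M : BData W} {K₀ : Type} [Group K₀]

/-! ### the group `C` -/

theorem C_le_G : M.C ≤ M.G := fun _ hg => Subgroup.subset_closure (Or.inl hg)

theorem τ_mem_G : M.τ ∈ M.G := Subgroup.subset_closure (Or.inr rfl)

theorem card_C (BG : BGroup M K₀) : Nat.card M.C = 2 ^ 23 * 42305421312000 := by
  obtain ⟨π, hπ, hker⟩ := BG.quot
  have h1 := Subgroup.card_eq_card_quotient_mul_card_subgroup π.ker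
  have h2 : Nat.card (M.C ⧸ π.ker) = 42305421312000 := by
    rw [← BG.card]
    exact Nat.card_congr (QuotientGroup.quotientKerEquivOfSurjective π hπ).toEquiv
  have h3 : Nat.card π.ker = 2 ^ 23 := by
    rw [← BG.Q_card]
    refine Nat.card_congr ⟨fun g => ⟨g.1.1, (hker g.1).1 g.2⟩,
      fun q => ⟨⟨q.1, BG.Q_le q.2⟩, (hker _).2 q.2⟩, fun _ => rfl, fun _ => rfl⟩
  rw [h1, h2, h3, mul_comm]

theorem finite_C (BG : BGroup M K₀) : Finite M.C :=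
  Nat.finite_of_card_ne_zero (by rw [card_C BG]; norm_num)

theorem Q_normal (BG : BGroup M K₀) {g q : W ≃ₗ[ℚ] W} (hg : g ∈ M.C) (hq : q ∈ M.Q) :
    g * q * g⁻¹ ∈ M.Q := by
  obtain ⟨π, hπ, hker⟩ := BG.quot
  have h1 : π ⟨q, BG.Q_le hq⟩ = 1 := (hker _).2 hq
  have h2 : π (⟨g, hg⟩ * ⟨q, BG.Q_le hq⟩ * ⟨g, hg⟩⁻¹) = 1 := by
    rw [map_mul, map_mul, h1, mul_one, ← map_mul, mul_inv_cancel, map_one]
  exact (hker _).1 h2

/-- an element of `Q` fixing `u₀` and negating `e₀` -/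
theorem exists_q (BG : BGroup M K₀) (BR : BRep M) :
    ∃ q ∈ M.Q, q * M.t₀ ≠ M.t₀ * q ∧ q M.u₀ = M.u₀ ∧ q M.e₀ = -M.e₀ := by
  by_contra hne
  push Not at hne
  have h1 : ∀ y ∈ M.Q, M.t₀ * y = y * M.t₀ := by
    intro y hy
    by_contra h
    exact hne y hy (Ne.symm h) (BR.Q_u₀ y hy) (BR.Q_e₀_neg y hy (Ne.symm h))
  rcases BG.Q_center M.t₀ BR.t₀_mem h1 with h | h
  · exact BR.t₀_ne h
  · exact BR.t₀_ne_z h

theorem Q_e₀ (BR : BRep M) {q : W ≃ₗ[ℚ] W} (hq : q ∈ M.Q) : q M.e₀ = M.e₀ ∨ q M.e₀ = -M.e₀ := by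
  by_cases h : q * M.t₀ = M.t₀ * q
  · exact Or.inl (BR.Q_e₀_pos q hq h)
  · exact Or.inr (BR.Q_e₀_neg q hq h)

theorem e₀_ne (BR : BRep M) : M.e₀ ≠ 0 := by
  intro h
  have := BR.e₀_norm
  rw [h] at this
  simp at this

theorem F_u₀_e₀ (BG : BGroup M K₀) (BR : BRep M) : M.F M.u₀ M.e₀ = 0 := by
  obtain ⟨q, hq, -, h1, h2⟩ := exists_q BG BR
  have h3 := BR.C_isom q (BG.Q_le hq) M.u₀ M.e₀
  rw [h1, h2, map_neg] at h3
  linarith

theorem two_smul_eq_zero {x : W} (h : x + x = 0) : x = 0 := by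
  have h2 : (2 : ℚ) • x = 0 := by rw [two_smul]; exact h
  exact (smul_eq_zero.1 h2).resolve_left (by norm_num)

theorem add_self_inj {x y : W} (h : x + x = y + y) : x = y := by
  have h1 : (x - y) + (x - y) = 0 := by
    rw [show (x - y) + (x - y) = (x + x) - (y + y) by abel, h, sub_self]
  exact sub_eq_zero.1 (two_smul_eq_zero h1)

/-- `g (u₀ + e₀) = a + b` with `a ∈ {±u₀}`-like comparison: components are preserved. -/
theorem comp (BG : BGroup M K₀) (BR : BRep M) {g : W ≃ₗ[ℚ] W} (hg : g ∈ M.C) {a b : W}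
    (ha : ∀ q ∈ M.Q, q * M.t₀ ≠ M.t₀ * q → q a = a) (hb : ∀ q ∈ M.Q, q * M.t₀ ≠ M.t₀ * q → q b = -b)
    (hb0 : b ≠ 0) (h : g M.d₀ = a + b) : g M.u₀ = a ∧ g M.e₀ = b := by
  obtain ⟨q, hq, hqt, h1, h2⟩ := exists_q BG BR
  have hq' : g⁻¹ * q * g ∈ M.Q := by
    have := Q_normal BG (inv_mem hg) hq
    rwa [inv_inv] at this
  have e1 : q (g M.u₀) = g M.u₀ := by
    have : q (g M.u₀) = g ((g⁻¹ * q * g) M.u₀) := by
      change (q * g) M.u₀ = (g * (g⁻¹ * q * g)) M.u₀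
      congr 1
      group
    rw [this, BR.Q_u₀ _ hq']
  have e2 : q (g M.e₀) = g M.e₀ ∨ q (g M.e₀) = - g M.e₀ := by
    have : q (g M.e₀) = g ((g⁻¹ * q * g) M.e₀) := by
      change (q * g) M.e₀ = (g * (g⁻¹ * q * g)) M.e₀
      congr 1
      group
    rw [this]
    rcases Q_e₀ BR hq' with h3 | h3
    · left; rw [h3]
    · right; rw [h3, map_neg]
  have h' : g M.u₀ + g M.e₀ = a + b := by rw [← map_add]; exact h
  have h'' : q (g M.u₀) + q (g M.e₀) = a - b := by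
    rw [← map_add, h', map_add, ha q hq hqt, hb q hq hqt, sub_eq_add_neg]
  rw [e1] at h''
  rcases e2 with e2 | e2
  · exfalso
    rw [e2, h'] at h''
    apply hb0
    apply two_smul_eq_zero
    have : a + b - (a - b) = 0 := by rw [h'', sub_self]
    rw [← this]; abel
  · rw [e2] at h''
    have h5 : g M.u₀ = a := by
      apply add_self_inj
      calc g M.u₀ + g M.u₀ = (g M.u₀ + g M.e₀) + (g M.u₀ + -g M.e₀) := by abel
        _ = a + a := by rw [h', h'']; abel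
    refine ⟨h5, ?_⟩
    rw [h5] at h'
    exact add_left_cancel h'

theorem fix_d₀ (BG : BGroup M K₀) (BR : BRep M) {g : W ≃ₗ[ℚ] W} (hg : g ∈ M.C)
    (h : g M.d₀ = M.d₀) : g M.u₀ = M.u₀ ∧ g M.e₀ = M.e₀ :=
  comp BG BR hg (fun q hq _ => BR.Q_u₀ q hq) (fun q hq hqt => BR.Q_e₀_neg q hq hqt) (e₀_ne BR) h

theorem fix_d₁ (BG : BGroup M K₀) (BR : BRep M) {g : W ≃ₗ[ℚ] W} (hg : g ∈ M.C)
    (h : g M.d₀ = M.d₀) : g M.d₁ = M.d₁ := by
  obtain ⟨h1, h2⟩ := fix_d₀ BG BR hg h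
  change g (M.u₀ - M.e₀) = _
  rw [map_sub, h1, h2]
  rfl

theorem d₀_mem_S : M.d₀ ∈ M.S := ⟨1, one_mem _, rfl⟩

theorem S_smul {g x : _} (hg : g ∈ M.C) (hx : x ∈ M.S) : g x ∈ M.S := by
  obtain ⟨h, hh, rfl⟩ := hx
  exact ⟨g * h, mul_mem hg hh, rfl⟩

theorem d₁_mem_S (BG : BGroup M K₀) (BR : BRep M) : M.d₁ ∈ M.S := by
  obtain ⟨q, hq, -, h1, h2⟩ := exists_q BG BR
  refine ⟨q, BG.Q_le hq, ?_⟩
  change _ = q (M.u₀ + M.e₀)
  rw [map_add, h1, h2, ← sub_eq_add_neg]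
  rfl

theorem F_d₁_d₀ (BG : BGroup M K₀) (BR : BRep M) : M.F M.d₁ M.d₀ = -1 := by
  change M.F (M.u₀ - M.e₀) (M.u₀ + M.e₀) = -1
  have h1 := F_u₀_e₀ BG BR
  have h2 : M.F M.e₀ M.u₀ = 0 := by rw [BR.F_symm, h1]
  simp only [map_add, map_sub, LinearMap.sub_apply, BR.u₀_norm, BR.e₀_norm, h1, h2]
  norm_num

/-! ### the set of axes -/

theorem S_sub_D (BO : BOrbit M) : M.S ⊆ M.D := by
  rintro x ⟨g, hg, rfl⟩
  refine ⟨M.j₀, g, hg, ?_⟩
  rw [BO.d_j₀]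
  rfl

theorem C_smul_D {g x : _} (hg : g ∈ M.C) (hx : x ∈ M.D) : g x ∈ M.D := by
  obtain ⟨j, h, hh, rfl⟩ := hx
  exact ⟨j, g * h, mul_mem hg hh, rfl⟩

theorem D_finite (BG : BGroup M K₀) (BO : BOrbit M) : M.D.Finite := by
  have := finite_C BG
  have := BO.finite
  have h : M.D = Set.range (fun p : M.J × M.C => (p.2 : W ≃ₗ[ℚ] W) (M.d p.1)) := by
    ext x
    constructor
    · rintro ⟨j, g, hg, rfl⟩
      exact ⟨(j, ⟨g, hg⟩), rfl⟩
    · rintro ⟨⟨j, g⟩, rfl⟩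
      exact ⟨j, g, g.2, rfl⟩
  rw [h]
  exact Set.finite_range _

theorem τ_smul_D (BO : BOrbit M) {x : W} (hx : x ∈ M.D) : M.τ x ∈ M.D := by
  obtain ⟨j, h, hh, rfl⟩ := hx
  obtain ⟨k, h', hh', e⟩ := BO.closed j h hh
  exact ⟨k, h', hh', e⟩

theorem τ_inv (BO : BOrbit M) : M.τ⁻¹ = M.τ * M.τ :=
  inv_eq_of_mul_eq_one_right (by rw [← mul_assoc]; exact BO.τ_cube)

theorem G_smul_D (BO : BOrbit M) {g : W ≃ₗ[ℚ] W} (hg : g ∈ M.G) :
    ∀ x ∈ M.D, g x ∈ M.D := by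
  induction hg using Subgroup.closure_induction with
  | mem y hy =>
    rcases hy with hy | hy
    · exact fun x hx => C_smul_D hy hx
    · rw [Set.mem_singleton_iff.1 hy]
      exact fun x hx => τ_smul_D BO hx
  | one => exact fun x hx => hx
  | mul a b _ _ iha ihb => exact fun x hx => iha _ (ihb _ hx)
  | inv a ha ih =>
    intro x hx
    -- use finiteness through the generators
    have key : ∀ y ∈ Subgroup.closure ((M.C : Set (W ≃ₗ[ℚ] W)) ∪ {M.τ}),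
        ∀ x ∈ M.D, y x ∈ M.D ∧ y⁻¹ x ∈ M.D := by
      intro y hy
      induction hy using Subgroup.closure_induction with
      | mem y hy =>
        rcases hy with hy | hy
        · exact fun x hx => ⟨C_smul_D hy hx, C_smul_D (inv_mem hy) hx⟩
        · rw [Set.mem_singleton_iff.1 hy]
          intro x hx
          refine ⟨τ_smul_D BO hx, ?_⟩
          rw [τ_inv BO]
          exact τ_smul_D BO (τ_smul_D BO hx)
      | one => exact fun x hx => ⟨hx, by rw [inv_one]; exact hx⟩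
      | mul a b _ _ iha ihb =>
        intro x hx
        refine ⟨(iha _ (ihb _ hx).1).1, ?_⟩
        rw [mul_inv_rev]
        exact (ihb _ (iha _ hx).2).2
      | inv a _ ih =>
        intro x hx
        rw [inv_inv]
        exact (ih x hx).symm
    exact (key a ha x hx).2

theorem G_isom (BR : BRep M) (BO : BOrbit M) {g : W ≃ₗ[ℚ] W} (hg : g ∈ M.G) :
    ∀ x y, M.F (g x) (g y) = M.F x y := by
  induction hg using Subgroup.closure_induction with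
  | mem y hy =>
    rcases hy with hy | hy
    · exact BR.C_isom y hy
    · rw [Set.mem_singleton_iff.1 hy]
      exact BO.τ_isom
  | one => exact fun x y => rfl
  | mul a b _ _ iha ihb =>
    intro x y
    exact (iha _ _).trans (ihb _ _)
  | inv a _ ih =>
    intro x y
    rw [← ih (a⁻¹ x) (a⁻¹ y)]
    change M.F ((a * a⁻¹) x) ((a * a⁻¹) y) = _
    rw [mul_inv_cancel]
    rfl

theorem D_eq_orbit (BO : BOrbit M) : M.D = MulAction.orbit M.G M.d₀ := by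
  ext x
  constructor
  · rintro ⟨j, g, hg, rfl⟩
    obtain ⟨k, hk, e⟩ := BO.trans j
    refine ⟨⟨g * k⁻¹, mul_mem (C_le_G hg) (inv_mem hk)⟩, ?_⟩
    change (g * k⁻¹) M.d₀ = g (M.d j)
    rw [← e]
    change (g * k⁻¹ * k) (M.d j) = g (M.d j)
    rw [inv_mul_cancel_right]
  · rintro ⟨g, rfl⟩
    exact G_smul_D BO g.2 _ (S_sub_D BO d₀_mem_S)

/-- the axes of inner product `-1` with `d₀` -/
def R (M : BData W) : Set W := {x | x ∈ M.D ∧ M.F M.d₀ x = -1}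

theorem card_R (BR : BRep M) (BO : BOrbit M) :
    Nat.card (R M) = 3968055 := by
  classical
  have hS := BR.S_card
  have hP := BO.card_pairs
  have hc : ∀ s : M.S, ∃ k : M.C, (k : W ≃ₗ[ℚ] W) M.d₀ = (s : W) := by
    rintro ⟨s, g, hg, rfl⟩
    exact ⟨⟨g, hg⟩, rfl⟩
  choose k hk using hc
  have h1 : Nat.card {p : W × W | p.1 ∈ M.D ∧ p.2 ∈ M.S ∧ M.F p.2 p.1 = -1} =
      Nat.card (M.S × R M) := by
    refine Nat.card_congr ⟨fun p => (⟨p.1.2, p.2.2.1⟩,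
        ⟨(k ⟨p.1.2, p.2.2.1⟩ : W ≃ₗ[ℚ] W)⁻¹ p.1.1, C_smul_D (inv_mem (k _).2) p.2.1, ?_⟩),
      fun q => ⟨((k q.1 : W ≃ₗ[ℚ] W) q.2.1, q.1.1), C_smul_D (k q.1).2 q.2.2.1, q.1.2, ?_⟩, ?_, ?_⟩
    · have e1 := hk ⟨p.1.2, p.2.2.1⟩
      have e2 := BR.C_isom (k ⟨p.1.2, p.2.2.1⟩ : W ≃ₗ[ℚ] W) (k _).2 M.d₀
        ((k ⟨p.1.2, p.2.2.1⟩ : W ≃ₗ[ℚ] W)⁻¹ p.1.1)
      rw [← e2, e1]
      have e3 : (k ⟨p.1.2, p.2.2.1⟩ : W ≃ₗ[ℚ] W) ((k ⟨p.1.2, p.2.2.1⟩ : W ≃ₗ[ℚ] W)⁻¹ p.1.1) =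
          p.1.1 := LinearEquiv.apply_symm_apply _ _
      rw [e3]
      exact p.2.2.2
    · have e1 := hk q.1
      change M.F (q.1 : W) ((k q.1 : W ≃ₗ[ℚ] W) q.2.1) = -1
      rw [← e1, BR.C_isom _ (k q.1).2]
      exact q.2.2.2
    · rintro ⟨⟨x, s⟩, h⟩
      refine Subtype.ext (Prod.ext ?_ rfl)
      exact LinearEquiv.apply_symm_apply _ _
    · rintro ⟨s, x⟩
      refine Prod.ext rfl (Subtype.ext ?_)
      exact LinearEquiv.symm_apply_apply _ _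
  rw [Nat.card_prod] at h1
  have h2 : Nat.card M.S = 9200 := by rw [Nat.card_coe_set_eq, hS]
  rw [h2, Nat.card_coe_set_eq, hP] at h1
  exact (Nat.eq_of_mul_eq_mul_left (by norm_num) h1).symm

/-- transitivity on pairs of inner product `-1` -/
theorem trans_pairs (BG : BGroup M K₀) (BR : BRep M) (BO : BOrbit M) {b : W} (hb : b ∈ R M) :
    ∃ g ∈ M.G, g M.d₀ = M.d₀ ∧ g M.d₁ = b := by
  -- for every `b ∈ R` there is `g ∈ G` with `g b = d₀`, `g d₀ = d₁`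
  have key : ∀ b ∈ R M, ∃ g ∈ M.G, g b = M.d₀ ∧ g M.d₀ = M.d₁ := by
    rintro b ⟨⟨j, h, hh, rfl⟩, hF⟩
    have hs : h⁻¹ M.d₀ ∈ M.S := S_smul (inv_mem hh) d₀_mem_S
    have hF' : M.F (h⁻¹ M.d₀) (M.d j) = -1 := by
      rw [← BR.C_isom h hh]
      have : h (h⁻¹ M.d₀) = M.d₀ := LinearEquiv.apply_symm_apply _ _
      rw [this]
      exact hF
    obtain ⟨g, hg, h1, h2⟩ := BO.trans₂ j _ hs hF'
    refine ⟨g * h⁻¹, mul_mem hg (inv_mem (C_le_G hh)), ?_, h2⟩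
    rw [← h1]
    change g (h⁻¹ (h (M.d j))) = _
    congr 1
    exact LinearEquiv.symm_apply_apply _ _
  have hd₁ : M.d₁ ∈ R M := by
    refine ⟨S_sub_D BO (d₁_mem_S BG BR), ?_⟩
    rw [BR.F_symm]
    exact F_d₁_d₀ BG BR
  obtain ⟨g', hg', a1, a2⟩ := key _ hd₁
  obtain ⟨g, hg, b1, b2⟩ := key _ hb
  refine ⟨g⁻¹ * g', mul_mem (inv_mem hg) hg', ?_, ?_⟩
  · change g⁻¹ (g' M.d₀) = _
    rw [a2, ← b2]
    exact LinearEquiv.symm_apply_apply _ _
  · change g⁻¹ (g' M.d₁) = _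
    rw [a1, ← b1]
    exact LinearEquiv.symm_apply_apply _ _

/-! ### the axes span -/

theorem z_C (BG : BGroup M K₀) : M.z ∈ M.C := BG.Q_le BG.z_mem

theorem zz (BG : BGroup M K₀) (x : W) : M.z (M.z x) = x := by
  change (M.z * M.z) x = x
  rw [BG.z_sq]
  rfl

theorem span_D (BG : BGroup M K₀) (BR : BRep M) (BO : BOrbit M) :
    Submodule.span ℚ M.D = ⊤ := by
  set N := Submodule.span ℚ M.D with hN
  have hinv : ∀ g ∈ M.C, ∀ x ∈ N, g x ∈ N := by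
    intro g hg x hx
    have : N.map (g : W →ₗ[ℚ] W) ≤ N := by
      rw [hN, Submodule.map_span, Submodule.span_le]
      rintro _ ⟨y, hy, rfl⟩
      exact Submodule.subset_span (C_smul_D hg hy)
    exact this (Submodule.mem_map_of_mem hx)
  have hd0 : M.d₀ ∈ N := Submodule.subset_span (S_sub_D BO d₀_mem_S)
  have hd1 : M.d₁ ∈ N := Submodule.subset_span (S_sub_D BO (d₁_mem_S BG BR))
  have hu : M.u₀ ∈ N := by
    have h1 : M.u₀ = (1 / 2 : ℚ) • (M.d₀ + M.d₁) := by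
      change M.u₀ = (1 / 2 : ℚ) • ((M.u₀ + M.e₀) + (M.u₀ - M.e₀))
      have : (M.u₀ + M.e₀) + (M.u₀ - M.e₀) = (2 : ℚ) • M.u₀ := by rw [two_smul]; abel
      rw [this, smul_smul]
      norm_num
    rw [h1]
    exact N.smul_mem _ (N.add_mem hd0 hd1)
  have he : M.e₀ ∈ N := by
    have h1 : M.e₀ = M.d₀ - M.u₀ := by
      change M.e₀ = (M.u₀ + M.e₀) - M.u₀
      abel
    rw [h1]
    exact N.sub_mem hd0 hu
  have hU : M.U ≤ N := by
    rw [BData.U, Submodule.span_le]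
    rintro x ⟨g, hg, rfl⟩
    exact hinv g hg _ hu
  have hE : M.E ≤ N := by
    rw [BData.E, Submodule.span_le]
    rintro x ⟨g, hg, rfl⟩
    exact hinv g hg _ he
  have hplus : ∀ x, M.z x = x → x ∈ N := by
    intro x hx
    obtain ⟨u, hu', e, he', rfl⟩ := BR.fix_z x hx
    exact N.add_mem (hU hu') (hE he')
  have hminus : ∀ x, M.z x = -x → x ∈ N := by
    intro x hx
    obtain ⟨j, g, hg, -, hj⟩ := BO.exists_moved
    have hdj : M.d j ∈ N := Submodule.subset_span ⟨j, 1, one_mem _, rfl⟩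
    have hs : M.d j - M.z (M.d j) ∈ N := N.sub_mem hdj (hinv _ (z_C BG) _ hdj)
    have hs1 : M.z (M.d j - M.z (M.d j)) = -(M.d j - M.z (M.d j)) := by
      rw [map_sub, zz BG]
      abel
    have hs0 : M.d j - M.z (M.d j) ≠ 0 := sub_ne_zero.2 (Ne.symm hj)
    have h1 := BR.irred _ hs1 hs0 x hx
    have h2 : Submodule.span ℚ {y | ∃ q ∈ M.Q, y = q (M.d j - M.z (M.d j))} ≤ N := by
      rw [Submodule.span_le]
      rintro y ⟨q, hq, rfl⟩
      exact hinv q (BG.Q_le hq) _ hs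
    exact h2 h1
  rw [eq_top_iff]
  intro x _
  have h1 : x = (1 / 2 : ℚ) • (x + M.z x) + (1 / 2 : ℚ) • (x - M.z x) := by
    rw [← smul_add]
    have : x + M.z x + (x - M.z x) = (2 : ℚ) • x := by rw [two_smul]; abel
    rw [this, smul_smul]
    norm_num
  rw [h1]
  refine N.add_mem (N.smul_mem _ (hplus _ ?_)) (N.smul_mem _ (hminus _ ?_))
  · rw [map_add, zz BG, add_comm]
  · rw [map_sub, zz BG]
    abel

theorem eq_one_of_fix (BG : BGroup M K₀) (BR : BRep M) (BO : BOrbit M) {g : W ≃ₗ[ℚ] W}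
    (h : ∀ x ∈ M.D, g x = x) : g = 1 := by
  have h1 : ∀ x ∈ Submodule.span ℚ M.D, g x = x := by
    intro x hx
    induction hx using Submodule.span_induction with
    | mem x hx => exact h x hx
    | zero => exact map_zero g
    | add x y _ _ hx hy => rw [map_add, hx, hy]
    | smul a x _ hx => rw [map_smul, hx]
  ext x
  exact h1 x (by rw [span_D BG BR BO]; trivial)

theorem finite_G (BG : BGroup M K₀) (BR : BRep M) (BO : BOrbit M) : Finite M.G := by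
  have := (D_finite BG BO).to_subtype
  refine Finite.of_injective (fun g : M.G => fun x : M.D =>
    (⟨(g : W ≃ₗ[ℚ] W) x, G_smul_D BO g.2 _ x.2⟩ : M.D)) ?_
  intro g h hgh
  have h1 : (h : W ≃ₗ[ℚ] W)⁻¹ * g = 1 := by
    apply eq_one_of_fix BG BR BO
    intro x hx
    have := congrFun hgh ⟨x, hx⟩
    have h2 : (g : W ≃ₗ[ℚ] W) x = (h : W ≃ₗ[ℚ] W) x := congrArg Subtype.val this
    change (h : W ≃ₗ[ℚ] W)⁻¹ ((g : W ≃ₗ[ℚ] W) x) = x
    rw [h2]
    exact LinearEquiv.symm_apply_apply _ _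
  exact Subtype.ext (inv_mul_eq_one.1 h1).symm

/-! ### the order -/

theorem card_G (BG : BGroup M K₀) (BR : BRep M) (BO : BOrbit M)
    (hrig : ∀ g ∈ M.G, g M.d₀ = M.d₀ → g M.d₁ = M.d₁ → g ∈ M.C) :
    Nat.card M.G = 4154781481226426191177580544000000 := by
  have := finite_G BG BR BO
  have hKS : M.S = MulAction.orbit (M.C.subgroupOf M.G) M.d₀ := by
    ext x
    constructor
    · rintro ⟨g, hg, rfl⟩
      exact ⟨⟨⟨g, C_le_G hg⟩, hg⟩, rfl⟩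
    · rintro ⟨⟨⟨g, hg⟩, hg'⟩, rfl⟩
      exact ⟨g, hg', rfl⟩
  have h := Cfsg.Agent.Monster.AbstractOrder.card_group (G := M.G) (V := W)
    (M.C.subgroupOf M.G) M.D M.S (R M) M.d₀ M.d₁ (D_eq_orbit BO) hKS
    (fun g h0 h1 => hrig g.1 g.2 h0 h1)
    (fun k hk h0 => fix_d₁ BG BR hk h0) ?_ ?_
  · have h1 : Nat.card M.S = 9200 := by rw [Nat.card_coe_set_eq, BR.S_card]
    have h2 : Nat.card M.D = 27143910000 := by rw [Nat.card_coe_set_eq, BO.card_D]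
    have h3 : Nat.card (M.C.subgroupOf M.G) = Nat.card M.C :=
      Nat.card_congr (Subgroup.subgroupOfEquivOfLe C_le_G).toEquiv
    rw [h1, h2, h3, card_R BR BO, card_C BG] at h
    omega
  · intro g h0
    refine ⟨G_smul_D BO g.2 _ (S_sub_D BO (d₁_mem_S BG BR)), ?_⟩
    have h1 : (g : W ≃ₗ[ℚ] W) M.d₀ = M.d₀ := h0
    change M.F M.d₀ ((g : W ≃ₗ[ℚ] W) M.d₁) = -1
    rw [← h1, G_isom BR BO g.2, BR.F_symm]
    exact F_d₁_d₀ BG BR
  · intro b hb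
    obtain ⟨g, hg, h0, h1⟩ := trans_pairs BG BR BO hb
    exact ⟨⟨g, hg⟩, h0, h1⟩

end Cfsg.Agent.BabyM.Count
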