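import Cfsg.Agent.BabyM.KTab
set_option linter.all false

/-!
# Kernel rows for the generators of `C` (helper235)

For a letter `l` of `C`: the kernel checks, for each of the 2300 X-lanes `i`, that `l` maps the unit vector `i` and the vector `u_i` to
`±` those of another X-lane `j`, and that the image of the class `c_i` under the automorphism with the images `I` of the Pauli
generators is `z^s c_j`.
-/

set_option autoImplicit false

namespace Cfsg.Agent.BabyM.KRow

open Cfsg.Agent.Lib.PermNet Cfsg.Agent.Monster Cfsg.Agent.Monster.VecEngine Cfsg.Agent.Monster.VecSpace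
open Cfsg.Agent.Monster.PauliBasic Cfsg.Agent.Monster.PauliRep Cfsg.Agent.Monster.PauliClif Cfsg.Agent.Monster.PauliBits
open Cfsg.Agent.BabyM.KTabData Cfsg.Agent.BabyM.QAct Cfsg.Agent.BabyM.QData Cfsg.Agent.BabyM.QData.Good
open Cfsg.Agent.BabyM.Conc Cfsg.Agent.BabyM.KTab

/-! ### Unit vectors -/

/-- The vector `1` (`-1` if `b`) in lane `j`. -/
noncomputable def sun (j : ℕ) (b : Bool) : Pl :=
  Bool.rec (.cons (Nat.shiftLeft 1 j) (.sgn 0)) (.sgn (Nat.shiftLeft 1 j)) b

/-- a bit as an element of `ZMod 2` -/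
def bz (b : Bool) : ZMod 2 := if b then 1 else 0

theorem bz_xor (b c : Bool) : bz (xor b c) = bz b + bz c := by
  cases b <;> cases c <;> decide

theorem bt_one_shiftLeft (j k : ℕ) : bt (Nat.shiftLeft 1 j) k = if k = j then 1 else 0 := by
  have h : (Nat.shiftLeft 1 j).testBit k = decide (k = j) := by
    show (1 <<< j).testBit k = _
    rw [Nat.one_shiftLeft, Nat.testBit_two_pow]
    by_cases hkj : k = j
    · subst hkj; simp
    · have : ¬ j = k := fun h => hkj h.symm
      simp [hkj, this]
  unfold bt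
  rw [h]
  by_cases hkj : k = j <;> simp [hkj]

theorem vecU_sun (j : Lane U) (b : Bool) : vecU ℚ U (sun j.1 b) = sg ℚ (bz b) • Pi.single j 1 := by
  funext k
  have h0 : bt 0 k.1 = 0 := by simp [bt]
  show ((val (sun j.1 b) k.1 : ℤ) : ℚ) = (sg ℚ (bz b) • (Pi.single j 1 : V)) k
  rw [Pi.smul_apply, smul_eq_mul]
  have hk : (k.1 = j.1) = (k = j) := propext ⟨fun h => Subtype.ext h, fun h => by rw [h]⟩
  cases b
  · have h1 : val (sun j.1 false) k.1 = if k = j then 1 else 0 := by
      show bt (Nat.shiftLeft 1 j.1) k.1 + 2 * - bt 0 k.1 = _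
      rw [h0, bt_one_shiftLeft]
      simp only [hk]
      ring
    rw [h1]
    show _ = sg ℚ 0 * _
    rw [sg_zero, one_mul]
    by_cases hkj : k = j
    · subst hkj; simp
    · rw [if_neg hkj, Pi.single_eq_of_ne hkj]; simp
  · have h1 : val (sun j.1 true) k.1 = if k = j then -1 else 0 := by
      show - bt (Nat.shiftLeft 1 j.1) k.1 = _
      rw [bt_one_shiftLeft]
      simp only [hk]
      split_ifs <;> ring
    rw [h1]
    show _ = sg ℚ 1 * _
    rw [sg_one]
    by_cases hkj : k = j
    · subst hkj; simp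
    · rw [if_neg hkj, Pi.single_eq_of_ne hkj]; simp

/-- `± u_j`. -/
noncomputable def supl (j : ℕ) (b : Bool) : Pl :=
  Bool.rec (uPl j) (VecEngine.neg (Nat.shiftLeft 0x7fffff 1344) (uPl j)) b

theorem vecU_supl (j : Lane U) (b : Bool) : vecU ℚ U (supl j.1 b) = sg ℚ (bz b) • u j := by
  cases b
  · show u j = sg ℚ 0 • u j
    rw [sg_zero, one_smul]
  · show _ = sg ℚ 1 • u j
    rw [sg_one, neg_smul, one_smul]
    funext k
    show ((val (VecEngine.neg (Nat.shiftLeft 0x7fffff 1344) (uPl j.1)) k.1 : ℤ) : ℚ) = - u j k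
    rw [val_neg]
    by_cases hk : Cd.isU k
    · have h1 := hk
      rw [isU_iff] at h1
      have h2 : (Nat.shiftLeft 0x7fffff 1344).testBit k.1 = true := by
        show (0x7fffff <<< 1344).testBit k.1 = true
        rw [Nat.testBit_shiftLeft]
        have h3 : (0x7fffff : ℕ).testBit (k.1 - 1344) = true := by
          have : (0x7fffff : ℕ) = 2 ^ 23 - 1 := by norm_num
          rw [this, Nat.testBit_two_pow_sub_one]
          simp; omega
        rw [h3]; simp; omega
      rw [if_pos h2]
      push_cast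
      rfl
    · have h0 := u_supp j k hk
      have h1 : ((val (uPl j.1) k.1 : ℤ) : ℚ) = 0 := h0
      rw [h0]
      split_ifs
      · push_cast; rw [h1]
      · rw [h1, neg_zero]

/-! ### Words in the Pauli group -/

/-- The image of the generator number `k` (`k < 11`: `Z_k`, `11 ≤ k < 22`: `X_(k-11)`). -/
noncomputable def im (I k : ℕ) : ℕ := fld I 24 0xffffff k

/-- Table of the parities of the numbers below 2048. -/
def PT : ℕ := 0x96696996699696696996966996696996699696699669699696696996699696696996966996696996966969966996966996696996699696696996966996696996699696699669699696696996699696699669699669969669699696699669699696696996699696696996966996696996699696699669699696696996699696696996966996696996966969966996966996696996699696696996966996696996966969966996966969969669966969966996966996696996966969966996966996696996699696696996966996696996699696699669699696696996699696696996966996696996966969966996966996696996699696696996966996696996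

/-- Bit test with kernel-accelerated functions. -/
noncomputable def tb (a b : ℕ) : Bool := Nat.beq (Nat.land (Nat.shiftRight a b) 1) 1

theorem tb_eq (a b : ℕ) : tb a b = a.testBit b := by
  show Nat.beq ((a >>> b) &&& 1) 1 = a.testBit b
  rw [Nat.testBit, Nat.and_comm 1]
  have h : (a >>> b) &&& 1 = 0 ∨ (a >>> b) &&& 1 = 1 := by
    rw [Nat.and_one_is_mod]; omega
  rcases h with h | h
  · rw [h]; rfl
  · rw [h]; rfl

/-- Multiplication of codes, table version. -/
noncomputable def mulK (x y : ℕ) : ℕ :=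
  Bool.rec (Nat.xor x y) (Nat.xor (Nat.xor x y) 0x400000)
    (tb PT (Nat.land (Nat.land x 0x7ff) (Nat.shiftRight y 11)))

theorem PT_check : allN 11 (fun t => Nat.beq (par32 t) (Bool.rec 0 1 (tb PT t))) 0 = true := by decide +kernel

theorem mulK_eq (x y : ℕ) : mulK x y = mulN 11 x y := by
  have ht : (x &&& (2 ^ 11 - 1)) &&& (y >>> 11) < 2048 := by
    refine lt_of_le_of_lt Nat.and_le_left ?_
    rw [Nat.and_two_pow_sub_one_eq_mod]
    exact Nat.mod_lt _ (by norm_num)
  have h := Nat.eq_of_beq_eq_true (allN_spec PT_check (Nat.zero_le _) (by rw [zero_add]; exact ht))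
  show (Bool.rec (x ^^^ y) ((x ^^^ y) ^^^ 0x400000) (tb PT ((x &&& 0x7ff) &&& (y >>> 11))) : ℕ) =
    x ^^^ y ^^^ (par32 ((x &&& (2 ^ 11 - 1)) &&& (y >>> 11)) <<< (2 * 11))
  have e1 : (2 ^ 11 - 1 : ℕ) = 0x7ff := by norm_num
  rw [e1] at h ⊢
  rw [h]
  cases tb PT ((x &&& 0x7ff) &&& (y >>> 11)) with
  | false => show x ^^^ y = x ^^^ y ^^^ (0 <<< 22); rw [Nat.zero_shiftLeft, Nat.xor_zero]
  | true => rfl

/-- One step of the evaluation of a word. -/
noncomputable def wstep (img : ℕ → ℕ) (m k acc : ℕ) : ℕ := Bool.rec acc (mulK acc (img k)) (tb m k)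

/-- Evaluation of a word. -/
noncomputable def wfold (img : ℕ → ℕ) (m : ℕ) (l : List ℕ) : ℕ → ℕ :=
  List.rec (motive := fun _ => ℕ → ℕ) (fun acc => acc) (fun k _ ih acc => seq (wstep img m k acc) ih) l

/-- the order of the generators -/
def pos : List ℕ := [11, 12, 13, 14, 15, 16, 17, 18, 19, 20, 21, 0, 1, 2, 3, 4, 5, 6, 7, 8, 9, 10]

theorem wfold_sound {α : MulAut (Pauli 11)} {img : ℕ → ℕ}
    (hα : ∀ k < 22, α (dec 11 (2 ^ k)) = dec 11 (img k)) (m : ℕ) (l : List ℕ) (hl : ∀ k ∈ l, k < 22) (acc acc' : ℕ)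
    (h : α (dec 11 acc) = dec 11 acc') :
    α (dec 11 (wfold (fun k => 2 ^ k) m l acc)) = dec 11 (wfold img m l acc') := by
  induction l generalizing acc acc' with
  | nil => exact h
  | cons k l ih =>
    show α (dec 11 (seq (wstep (fun k => 2 ^ k) m k acc) (wfold (fun k => 2 ^ k) m l))) =
      dec 11 (seq (wstep img m k acc') (wfold img m l))
    rw [seq_eq, seq_eq]
    apply ih (fun k' hk' => hl k' (List.mem_cons_of_mem _ hk'))
    unfold wstep
    cases tb m k with
    | false => exact h
    | true =>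
      show α (dec 11 (mulK acc (2 ^ k))) = dec 11 (mulK acc' (img k))
      rw [mulK_eq, mulK_eq, dec_mulN (by norm_num), dec_mulN (by norm_num), map_mul, h, hα k (hl k (by simp))]

/-- The code of every X-lane is the product of its generators. -/
theorem word_check : allN 12 (fun i => Bool.rec true (Nat.beq (wfold (fun k => 2 ^ k) (cd i) pos 0) (cd i))
    (Nat.testBit U i)) 0 = true := by
  decide +kernel

theorem dec_zero : dec 11 0 = 1 := by
  refine Pauli.ext ?_ ?_ ?_
  · exact bit_zero (2 * 11)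
  · funext i; exact bit_zero (11 + i.1)
  · funext i; exact bit_zero i.1

theorem dec_xor_top (x : ℕ) (b : Bool) (hx : x < 2 ^ 22) :
    dec 11 (Nat.xor (Nat.shiftLeft (Bool.rec 0 1 b) 22) x) = ⟨bz b, 0, 0⟩ * dec 11 x := by
  have h0 : ∀ k, bit (Nat.shiftLeft (Bool.rec 0 1 b : ℕ) 22) k = if k = 22 then bz b else 0 := by
    intro k
    show bit ((Bool.rec 0 1 b : ℕ) <<< 22) k = _
    rw [bit_shiftLeft]
    cases b
    · show (if 22 ≤ k then bit 0 (k - 22) else 0) = if k = 22 then (0 : ZMod 2) else 0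
      rw [bit_zero]; simp
    · show (if 22 ≤ k then bit 1 (k - 22) else 0) = if k = 22 then (1 : ZMod 2) else 0
      rw [bit_one]
      by_cases h : k = 22
      · subst h; simp
      · by_cases h2 : 22 ≤ k
        · have : k - 22 ≠ 0 := by omega
          rw [if_pos h2, if_neg this, if_neg h]
        · rw [if_neg h2, if_neg h]
  have hx22 : bit x 22 = 0 := bit_eq_zero_of_lt hx
  refine Pauli.ext ?_ ?_ ?_
  · show bit (_ ^^^ x) (2 * 11) = bz b + bit x (2 * 11) + 0 ⬝ᵥ _
    rw [bit_xor, h0, if_pos rfl, zero_dotProduct, add_zero]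
  · funext i
    show bit (_ ^^^ x) (11 + i.1) = (0 : B 11) i + bit x (11 + i.1)
    have : 11 + i.1 ≠ 22 := by omega
    rw [bit_xor, h0, if_neg this]; rfl
  · funext i
    show bit (_ ^^^ x) i.1 = (0 : B 11) i + bit x i.1
    have : i.1 ≠ 22 := by omega
    rw [bit_xor, h0, if_neg this]; rfl

/-! ### Rows -/

/-- The check of one row. -/
noncomputable def rowOK (P : Prog) (T I i : ℕ) : Bool :=
  (fun e => (fun j => (fun s => (fun t =>
    and (check [P] (sun i false) [] (sun j (xor s t)))
      (and (check [P] (uPl i) [] (supl j t))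
        (and (Nat.beq (wfold (im I) (cd i) pos 0) (Nat.xor (Nat.shiftLeft (Bool.rec 0 1 s) 22) (cd j)))
          (and (Nat.testBit U j) (and (Nat.blt j 4096) (not (Nat.beq (cd j) 0)))))))
    (Nat.testBit e 13)) (Nat.testBit e 12)) (Nat.land e 0xfff)) (fld T 16 0xffff i)

/-- The check of the rows `256 c, …, 256 c + 255`. -/
noncomputable def chunk (P : Prog) (T I c : ℕ) : Bool :=
  allN 8 (fun i => Bool.rec true (Bool.rec (rowOK P T I i) true (Nat.beq (cd i) 0)) (tb U i)) (Nat.mul 256 c)

theorem top_check : allN 10 (fun i => Nat.beq (cd i) 0) 3072 = true := by decide +kernel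

theorem xfact_of_rows {l : Ltr} {T I : ℕ} (h : ∀ c < 12, chunk l.prog T I c = true) {α : MulAut (Pauli 11)}
    (hα : ∀ k < 22, α (dec 11 (2 ^ k)) = dec 11 (im I k)) : XFact Cd u (E l) α := by
  intro i hi
  rw [isX_iff] at hi
  have hlt : i.1 < 3072 := by
    by_contra hc
    exact hi.2 (Nat.eq_of_beq_eq_true (allN_spec top_check (by omega) (by omega)))
  have h1 := allN_spec (h (i.1 / 256) (by omega)) (i := i.1)
    (by show 256 * (i.1 / 256) ≤ i.1; omega) (by show i.1 < 256 * (i.1 / 256) + 2 ^ 8; omega)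
  simp only [tb_eq, i.2] at h1
  have h0 : Nat.beq (cd i.1) 0 = false := by
    rw [Bool.eq_false_iff]
    intro hh
    exact hi.2 (Nat.eq_of_beq_eq_true hh)
  rw [h0] at h1
  have h2 : rowOK l.prog T I i.1 = true := h1
  set e := fld T 16 0xffff i.1 with he
  set j := Nat.land e 0xfff with hj
  set s := Nat.testBit e 12 with hs
  set t := Nat.testBit e 13 with ht
  have h3 : and (check [l.prog] (sun i.1 false) [] (sun j (xor s t)))
      (and (check [l.prog] (uPl i.1) [] (supl j t))
        (and (Nat.beq (wfold (im I) (cd i.1) pos 0) (Nat.xor (Nat.shiftLeft (Bool.rec 0 1 s) 22) (cd j)))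
          (and (Nat.testBit U j) (and (Nat.blt j 4096) (not (Nat.beq (cd j) 0)))))) = true := h2
  rw [Bool.and_eq_true, Bool.and_eq_true, Bool.and_eq_true, Bool.and_eq_true, Bool.and_eq_true] at h3
  obtain ⟨c1, c2, c3, c4, c5, c6⟩ := h3
  have hj2 : j < 4096 := by
    simpa [Nat.blt] using c5
  have hcj : cd j ≠ 0 := by
    intro hh
    rw [hh] at c6
    exact absurd c6 (by decide)
  refine ⟨⟨j, c4⟩, isX_iff.mpr ⟨hj2, hcj⟩, bz s, bz t, ?_, ?_, ?_⟩
  · have h4 := allN_spec word_check (Nat.zero_le i.1) (by rw [zero_add]; exact hi.1)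
    simp only [i.2] at h4
    have h5 : wfold (fun k => 2 ^ k) (cd i.1) pos 0 = cd i.1 := Nat.eq_of_beq_eq_true h4
    have h6 := wfold_sound hα (cd i.1) pos (by decide) 0 0 (by rw [dec_zero, map_one])
    rw [h5, Nat.eq_of_beq_eq_true c3, dec_xor_top _ _ (cd_lt j)] at h6
    exact h6
  · have h4 := W_eq_of_check (v₁ := [l]) (v₂ := []) (x₁ := uPl i.1) (x₂ := supl j t) c2
    rw [W_single, W_nil] at h4
    have h5 := vecU_supl ⟨j, c4⟩ t
    show E l (vecU ℚ U (uPl i.1)) = _
    rw [h4]
    exact h5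
  · have h4 := W_eq_of_check (v₁ := [l]) (v₂ := []) (x₁ := sun i.1 false) (x₂ := sun j (xor s t)) c1
    rw [W_single, W_nil] at h4
    have h5 := vecU_sun ⟨j, c4⟩ (xor s t)
    have h6 := vecU_sun i false
    have h7 : (Pi.single i 1 : V) = vecU ℚ U (sun i.1 false) := by
      rw [h6]; show _ = sg ℚ 0 • _; rw [sg_zero, one_smul]
    rw [bz_xor] at h5
    rw [← h5]
    rw [h7, h4]
    rfl

end Cfsg.Agent.BabyM.KRow
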