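import Mathlib
set_option linter.all false

/-!
Characters `Q → ±1` of a finite group `Q` with `Q' ≤ Z(Q) = ⟨z⟩` of order two are given by commutation with
an element of `Q`.
-/

namespace Cfsg.Agent.BabyM.AbsInner

open scoped commutatorElement

theorem card_hom_le {Q : Type*} [Group Q] [Finite Q] :
    Nat.card (Q →* ℤˣ) ≤ (commutator Q).index := by
  classical
  have : Finite (Abelianization Q) := inferInstanceAs (Finite (Q ⧸ commutator Q))
  have h1 : Nat.card (Abelianization Q →* ℂˣ) = Nat.card (Abelianization Q) :=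
    CommGroup.card_monoidHom_of_hasEnoughRootsOfUnity (Abelianization Q) ℂ
  have h2 : Nat.card (Abelianization Q) = (commutator Q).index := rfl
  rw [← h2, ← h1]
  have : Finite (Abelianization Q →* ℂˣ) := by
    refine Nat.finite_of_card_ne_zero ?_
    rw [h1]
    exact Nat.card_pos.ne'
  refine Nat.card_le_card_of_injective
    (fun f : Q →* ℤˣ => Abelianization.lift ((Units.map (algebraMap ℤ ℂ).toMonoidHom).comp f)) ?_
  intro f g hfg
  ext x
  have h3 := congrArg (fun φ : Abelianization Q →* ℂˣ => φ (Abelianization.of x)) hfg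
  simp only [Abelianization.lift_apply_of, MonoidHom.comp_apply] at h3
  have h4 := congrArg (fun u : ℂˣ => (u : ℂ)) h3
  simpa using h4

theorem inner {Q : Type*} [Group Q] [Finite Q] (z : Q) (hz1 : z ≠ 1) (hz2 : z * z = 1)
    (hzc : ∀ x, x * z = z * x) (hcomm : ∀ x y, x * y = y * x ∨ x * y = y * x * z)
    (hcen : ∀ x, (∀ y, x * y = y * x) → x = 1 ∨ x = z) (hne : ∃ x y : Q, x * y ≠ y * x)
    (f : Q →* ℤˣ) : ∃ q, ∀ x, q * x = x * q ↔ f x = 1 := by
  classical
  have hu : (-1 : ℤˣ) ≠ 1 := by decide
  let zz : ℤˣ → Q := fun u => if u = 1 then 1 else z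
  have zz1 : zz 1 = 1 := by simp [zz]
  have zzn : zz (-1) = z := by simp [zz, hu]
  have zzmul : ∀ u v, zz (u * v) = zz u * zz v := by
    intro u v
    rcases Int.units_eq_one_or u with rfl | rfl <;> rcases Int.units_eq_one_or v with rfl | rfl
    · simp [zz1]
    · simp [zz1]
    · simp [zz1]
    · rw [neg_mul_neg, one_mul, zz1, zzn, hz2]
  have zzinj : ∀ u v, zz u = zz v → u = v := by
    intro u v h
    rcases Int.units_eq_one_or u with rfl | rfl <;> rcases Int.units_eq_one_or v with rfl | rfl
    · rfl
    · rw [zz1, zzn] at h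
      exact absurd h.symm hz1
    · rw [zz1, zzn] at h
      exact absurd h hz1
    · rfl
  have zzc : ∀ u x, x * zz u = zz u * x := by
    intro u x
    rcases Int.units_eq_one_or u with rfl | rfl
    · simp [zz1]
    · rw [zzn, hzc]
  have hex : ∀ q x, ∃ u, q * x = x * q * zz u := by
    intro q x
    rcases hcomm q x with h | h
    · exact ⟨1, by rw [zz1, mul_one, h]⟩
    · exact ⟨-1, by rw [zzn, h]⟩
  choose s hs using hex
  have huniq : ∀ q x u, q * x = x * q * zz u → s q x = u := by
    intro q x u h
    rw [hs] at h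
    exact zzinj _ _ (mul_left_cancel h)
  have s1 : ∀ q x, s q x = 1 ↔ q * x = x * q := by
    intro q x
    constructor
    · intro h
      rw [hs, h, zz1, mul_one]
    · intro h
      exact huniq _ _ _ (by rw [zz1, mul_one, h])
  have smul_right : ∀ q x y, s q (x * y) = s q x * s q y := by
    intro q x y
    refine huniq _ _ _ ?_
    rw [zzmul, ← mul_assoc, hs q x, mul_assoc (x * q) (zz (s q x)) y, ← zzc _ y, ← mul_assoc,
      mul_assoc x q y, hs q y, mul_assoc, mul_assoc, mul_assoc, ← zzc (s q x) (zz (s q y))]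
    simp only [mul_assoc]
  have smul_left : ∀ q q' x, s (q * q') x = s q x * s q' x := by
    intro q q' x
    refine huniq _ _ _ ?_
    rw [mul_assoc, hs q' x, ← mul_assoc, ← mul_assoc, hs q x, mul_assoc (x * q) (zz (s q x)) q',
      ← zzc _ q', zzmul]
    simp only [mul_assoc]
  let c : Q →* (Q →* ℤˣ) := MonoidHom.mk' (fun q => MonoidHom.mk' (s q) (smul_right q)) (by
    intro a b
    ext x
    simp [smul_left])
  have hker : Nat.card c.ker ≤ 2 := by
    have hinj : Function.Injective (fun q : c.ker => decide ((q : Q) = 1)) := by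
      have hk : ∀ q : c.ker, (q : Q) = 1 ∨ (q : Q) = z := by
        intro q
        refine hcen _ fun y => ?_
        rw [← s1]
        have := q.2
        rw [MonoidHom.mem_ker] at this
        exact congrArg (fun φ : Q →* ℤˣ => φ y) this
      intro a b hab
      simp only [decide_eq_decide] at hab
      by_cases h1 : (a : Q) = 1
      · exact Subtype.ext (by rw [h1, hab.1 h1])
      · have h2 : (b : Q) ≠ 1 := fun h => h1 (hab.2 h)
        exact Subtype.ext (((hk a).resolve_left h1).trans ((hk b).resolve_left h2).symm)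
    calc Nat.card c.ker ≤ Nat.card Bool := Nat.card_le_card_of_injective _ hinj
      _ = 2 := by simp
  have hrange : Nat.card Q = Nat.card c.ker * Nat.card c.range := by
    have h1 := Subgroup.card_mul_index c.ker
    have h2 : c.ker.index = Nat.card c.range := by
      rw [Subgroup.index]
      exact Nat.card_congr (QuotientGroup.quotientKerEquivRange c).toEquiv
    rw [h2] at h1
    exact h1.symm
  have hcommut : 2 ≤ Nat.card (commutator Q) := by
    obtain ⟨x, y, hxy⟩ := hne
    have hmem : ⁅x, y⁆ ∈ commutator Q :=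
      Subgroup.commutator_mem_commutator (Subgroup.mem_top x) (Subgroup.mem_top y)
    have hne1 : ⁅x, y⁆ ≠ 1 := fun h => hxy (commutatorElement_eq_one_iff_mul_comm.1 h)
    have : Nontrivial (commutator Q) := ⟨⟨⟨_, hmem⟩, 1, fun h => hne1 (congrArg Subtype.val h)⟩⟩
    exact Finite.one_lt_card
  have hcard := Subgroup.card_mul_index (commutator Q)
  have hle := card_hom_le (Q := Q)
  have hfinHom : Finite (Q →* ℤˣ) := by
    refine Finite.of_injective (fun f : Q →* ℤˣ => (f : Q → ℤˣ)) ?_
    exact DFunLike.coe_injective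
  have hpos : 0 < Nat.card Q := Nat.card_pos
  have hsurj : Nat.card (Q →* ℤˣ) ≤ Nat.card c.range := by
    nlinarith
  have htop : c.range = ⊤ := by
    refine Subgroup.eq_top_of_le_card _ hsurj
  obtain ⟨q, hq⟩ : f ∈ c.range := by rw [htop]; trivial
  refine ⟨q, fun x => ?_⟩
  rw [← s1, ← hq]
  rfl

end Cfsg.Agent.BabyM.AbsInner
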