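import Cfsg.Agent.BabyM.AbsTrans
import Cfsg.Agent.BabyM.AbsInner
set_option linter.all false

/-!
Rigidity: an isometry permuting the axes and commuting with `z` lies in `± C`.
-/

set_option linter.unusedSectionVars false

namespace Cfsg.Agent.BabyM.Model

variable {W : Type} [AddCommGroup W] [Module ℚ W]

namespace BAll

variable {M : BData W} {K₀ : Type} [Group K₀] (A : BAll M K₀)
include A

theorem z_z (x : W) : M.z (M.z x) = x := by
  rw [← LinearEquiv.mul_apply, A.grp.z_sq]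
  rfl

theorem finDz : {c | c ∈ M.D ∧ M.z c = c}.Finite := A.D_finite.subset fun _ h => h.1

theorem S_sub : M.S ⊆ {c | c ∈ M.D ∧ M.z c = c} := by
  rintro _ ⟨g, hg, rfl⟩
  refine ⟨A.C_D g hg _ A.d₀_mem, ?_⟩
  unfold BData.d₀
  rw [map_add, map_add, A.z_U _ (A.C_U g hg _ A.u₀_mem), A.z_E _ (A.C_E g hg _ A.e₀_mem)]

theorem S_finite : M.S.Finite := A.finDz.subset A.S_sub

omit A in
/-- the second moment operator of the axes fixed by `z` -/
noncomputable def T (A : BAll M K₀) : W →ₗ[ℚ] W :=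
  ∑ c ∈ A.finDz.toFinset, (M.F c).smulRight c

theorem T_apply (x : W) : A.T x = ∑ c ∈ A.finDz.toFinset, M.F c x • c := by
  unfold T
  rw [LinearMap.sum_apply]
  rfl

theorem T_comm (k : W ≃ₗ[ℚ] W) (hk : k ∈ M.Γ) (hz : k * M.z = M.z * k) (x : W) :
    A.T (k x) = k (A.T x) := by
  have hz' : ∀ y, M.z (k y) = k (M.z y) := fun y =>
    (congrArg (fun f : W ≃ₗ[ℚ] W => f y) hz).symm
  have hmem : ∀ c, c ∈ M.D ∧ M.z c = c → k c ∈ M.D ∧ M.z (k c) = k c := fun c h =>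
    ⟨(hk.2 c).2 h.1, by rw [hz', h.2]⟩
  have hmem' : ∀ c, c ∈ M.D ∧ M.z c = c → k⁻¹ c ∈ M.D ∧ M.z (k⁻¹ c) = k⁻¹ c := by
    intro c h
    refine ⟨((M.Γ.inv_mem hk).2 c).2 h.1, ?_⟩
    apply k.injective
    rw [← hz', apply_inv_self', h.2]
  rw [A.T_apply, A.T_apply, map_sum]
  refine Finset.sum_nbij' (fun c => k⁻¹ c) (fun c => k c) ?_ ?_ ?_ ?_ ?_
  · intro c hc
    rw [Set.Finite.mem_toFinset] at hc ⊢
    exact hmem' c hc
  · intro c hc
    rw [Set.Finite.mem_toFinset] at hc ⊢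
    exact hmem c hc
  · intro c _
    exact apply_inv_self' k c
  · intro c _
    exact inv_apply_self' k c
  · intro c _
    have h1 : M.F (k⁻¹ c) x = M.F c (k x) := by
      rw [← hk.1, apply_inv_self']
    rw [map_smul, apply_inv_self', h1]

/-- axes fixed by `z` outside the base orbit are in `E` -/
theorem mem_E_of (c : W) (h1 : c ∈ M.D) (h2 : M.z c = c) (h3 : c ∉ M.S) : c ∈ M.E := by
  obtain ⟨j, g, hg, rfl⟩ := h1
  have h4 := congrArg (fun f : W ≃ₗ[ℚ] W => f (M.d j)) (A.grp.z_comm g hg)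
  simp only [LinearEquiv.mul_apply] at h4
  rw [h2] at h4
  rcases A.orb.z_d j (g.injective h4) with rfl | h
  · exact absurd ⟨g, hg, by rw [A.d₀_eq]⟩ h3
  · exact A.C_E g hg _ h

theorem T_U : ∀ x ∈ M.U, A.T x = (1200 : ℚ) • x := by
  intro x hx
  induction hx using Submodule.span_induction with
  | mem x hx =>
    obtain ⟨g, hg, rfl⟩ := hx
    rw [A.T_apply, ← A.rep.design g hg, finsum_mem_eq_finite_toFinset_sum _ A.S_finite]
    symm
    refine Finset.sum_subset ?_ ?_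
    · intro c hc
      rw [Set.Finite.mem_toFinset] at hc ⊢
      exact A.S_sub hc
    · intro c hc hc'
      rw [Set.Finite.mem_toFinset] at hc hc'
      rw [A.E_U_orth _ (A.mem_E_of c hc.1 hc.2 hc') _ (A.C_U g hg _ A.u₀_mem), zero_smul]
  | zero => simp
  | add a b _ _ ha hb => rw [map_add, ha, hb, smul_add]
  | smul r a _ ha => rw [map_smul, ha, smul_comm]

/-- vectors of `E` orthogonal to all `g e₀` vanish -/
theorem eq_zero_E (x : W) (hx : x ∈ M.E) (h : ∀ g ∈ M.C, M.F x (g M.e₀) = 0) : x = 0 := by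
  refine A.eq_zero_of_orth x (fun u hu => A.E_U_orth x hx u hu) ?_
    (fun m hm => A.fix_orth x m (A.z_E x hx) hm)
  intro e he
  induction he using Submodule.span_induction with
  | mem y hy =>
    obtain ⟨g, hg, rfl⟩ := hy
    exact h g hg
  | zero => simp
  | add a b _ _ ha hb => rw [map_add, ha, hb, add_zero]
  | smul r a _ ha => rw [map_smul, ha, smul_zero]

theorem F_e' (g : W ≃ₗ[ℚ] W) (hg : g ∈ M.C) (h1 : g M.e₀ ≠ M.e₀) (h2 : g M.e₀ ≠ - M.e₀) :
    M.F M.e₀ (g M.e₀) = 0 := by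
  rw [A.rep.F_symm]
  exact A.F_e g hg h1 h2

theorem T_e₀ : ∃ β : ℚ, A.T M.e₀ = β • M.e₀ := by
  have hzΓ := A.C_le A.grp.z_mem_C
  have hzz : M.z * M.z = M.z * M.z := rfl
  have hzT : M.z (A.T M.e₀) = A.T M.e₀ := by
    rw [← A.T_comm M.z hzΓ hzz, A.rep.z_e₀]
  obtain ⟨u, hu, e, he, hue⟩ := A.rep.fix_z _ hzT
  have hqz : ∀ q ∈ M.Q, q * M.z = M.z * q := fun q hq => A.grp.z_comm q (A.grp.Q_le hq)
  have hu0 : u = 0 := by
    refine A.eq_zero_of_orth u ?_ (fun e he => A.U_E_orth u hu e he)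
      (fun m hm => A.fix_orth u m (A.z_U u hu) hm)
    intro v hv
    obtain ⟨q, hq, h1, -⟩ := A.exists_q
    have h2 : q (A.T M.e₀) = - A.T M.e₀ := by
      rw [← A.T_comm q (A.C_le (A.grp.Q_le hq)) (hqz q hq), h1, map_neg]
    have h3 := A.rep.C_isom q (A.grp.Q_le hq) (A.T M.e₀) v
    rw [h2, A.Q_U q hq v hv, LinearMap.BilinForm.neg_left] at h3
    have h4 : M.F (A.T M.e₀) v = 0 := by linarith
    rw [hue, LinearMap.BilinForm.add_left, A.E_U_orth e he v hv, add_zero] at h4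
    exact h4
  rw [hu0, zero_add] at hue
  refine ⟨M.F (A.T M.e₀) M.e₀ / 4, ?_⟩
  rw [← sub_eq_zero]
  refine A.eq_zero_E _ (Submodule.sub_mem _ (by rw [hue]; exact he)
    (Submodule.smul_mem _ _ A.e₀_mem)) ?_
  intro g hg
  rw [LinearMap.BilinForm.sub_left, LinearMap.BilinForm.smul_left]
  by_cases h1 : g M.e₀ = M.e₀
  · rw [h1, A.rep.e₀_norm]
    ring
  by_cases h2 : g M.e₀ = - M.e₀
  · rw [h2, map_neg, map_neg, A.rep.e₀_norm]
    ring
  obtain ⟨q, hq, h3, h4⟩ := A.rep.sep g hg h1 h2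
  have h5 : q (A.T M.e₀) = A.T M.e₀ := by
    rw [← A.T_comm q (A.C_le (A.grp.Q_le hq)) (hqz q hq), h3]
  have h6 := A.rep.C_isom q (A.grp.Q_le hq) (A.T M.e₀) (g M.e₀)
  rw [h5, h4, map_neg] at h6
  rw [A.F_e' g hg h1 h2]
  linarith

/-- the set of all `± e_r` -/
theorem finY : {x | ∃ g ∈ M.C, x = g M.e₀}.Finite := by
  have := A.grp.finite_C
  have : {x | ∃ g ∈ M.C, x = g M.e₀} = Set.range (fun g : M.C => (g : W ≃ₗ[ℚ] W) M.e₀) := by
    ext x
    constructor
    · rintro ⟨g, hg, rfl⟩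
      exact ⟨⟨g, hg⟩, rfl⟩
    · rintro ⟨g, rfl⟩
      exact ⟨g, g.2, rfl⟩
  rw [this]
  exact Set.finite_range _

omit A in
/-- Parseval operator -/
noncomputable def Pv (A : BAll M K₀) : W →ₗ[ℚ] W :=
  ∑ c ∈ A.finY.toFinset, (M.F c).smulRight c

theorem Pv_apply (x : W) : A.Pv x = ∑ c ∈ A.finY.toFinset, M.F c x • c := by
  unfold Pv
  rw [LinearMap.sum_apply]
  rfl

theorem Pv_comm (k : W ≃ₗ[ℚ] W) (hk : k ∈ M.C) (x : W) : A.Pv (k x) = k (A.Pv x) := by
  rw [A.Pv_apply, A.Pv_apply, map_sum]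
  refine Finset.sum_nbij' (fun c => k⁻¹ c) (fun c => k c) ?_ ?_ ?_ ?_ ?_
  · intro c hc
    rw [Set.Finite.mem_toFinset] at hc ⊢
    obtain ⟨g, hg, rfl⟩ := hc
    exact ⟨k⁻¹ * g, M.C.mul_mem (M.C.inv_mem hk) hg, rfl⟩
  · intro c hc
    rw [Set.Finite.mem_toFinset] at hc ⊢
    obtain ⟨g, hg, rfl⟩ := hc
    exact ⟨k * g, M.C.mul_mem hk hg, rfl⟩
  · intro c _
    exact apply_inv_self' k c
  · intro c _
    exact inv_apply_self' k c
  · intro c _
    have h1 : M.F (k⁻¹ c) x = M.F c (k x) := by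
      rw [← A.rep.C_isom k hk, apply_inv_self']
    rw [map_smul, apply_inv_self', h1]

theorem e₀_ne_neg : M.e₀ ≠ - M.e₀ := by
  intro h
  have h1 := A.rep.e₀_norm
  have h2 : M.F M.e₀ M.e₀ = - M.F M.e₀ M.e₀ := by
    conv_lhs => rw [h]
    rw [LinearMap.BilinForm.neg_left, ← h]
  linarith

theorem Pv_e₀ : A.Pv M.e₀ = (8 : ℚ) • M.e₀ := by
  classical
  rw [A.Pv_apply]
  obtain ⟨n, hn, -, hn2⟩ := A.neg_parts
  have h1 : ({M.e₀, - M.e₀} : Finset W) ⊆ A.finY.toFinset := by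
    intro x hx
    rw [Set.Finite.mem_toFinset]
    rw [Finset.mem_insert, Finset.mem_singleton] at hx
    rcases hx with rfl | rfl
    · exact ⟨1, M.C.one_mem, rfl⟩
    · exact ⟨n, hn, hn2.symm⟩
  rw [← Finset.sum_subset h1, Finset.sum_pair A.e₀_ne_neg, LinearMap.BilinForm.neg_left,
    A.rep.e₀_norm]
  · rw [neg_smul, smul_neg, neg_neg, ← add_smul]
    norm_num
  · intro x hx hx'
    rw [Set.Finite.mem_toFinset] at hx
    obtain ⟨g, hg, rfl⟩ := hx
    rw [Finset.mem_insert, Finset.mem_singleton, not_or] at hx'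
    rw [A.F_e g hg hx'.1 hx'.2, zero_smul]

theorem Pv_E : ∀ x ∈ M.E, A.Pv x = (8 : ℚ) • x := by
  intro x hx
  induction hx using Submodule.span_induction with
  | mem x hx =>
    obtain ⟨g, hg, rfl⟩ := hx
    rw [A.Pv_comm g hg, A.Pv_e₀, map_smul]
  | zero => simp
  | add a b _ _ ha hb => rw [map_add, ha, hb, smul_add]
  | smul r a _ ha => rw [map_smul, ha, smul_comm]

theorem parseval (u e : W) (hu : u ∈ M.U) (he : e ∈ M.E) :
    ∑ y ∈ A.finY.toFinset, M.F (u + e) y * M.F (u + e) y = 8 * M.F e e := by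
  have h1 : M.F (A.Pv e) e = 8 * M.F e e := by
    rw [A.Pv_E e he, LinearMap.BilinForm.smul_left]
  rw [← h1, A.Pv_apply, LinearMap.BilinForm.sum_left]
  refine Finset.sum_congr rfl fun y hy => ?_
  rw [Set.Finite.mem_toFinset] at hy
  obtain ⟨g, hg, rfl⟩ := hy
  rw [LinearMap.BilinForm.smul_left, LinearMap.BilinForm.add_left,
    A.U_E_orth u hu _ (A.C_E g hg _ A.e₀_mem), zero_add, A.rep.F_symm e]

theorem sum_T : ∀ g ∈ M.C, ∑ c ∈ A.finDz.toFinset, M.F c (g M.e₀) * M.F c (g M.e₀) =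
    M.F (A.T M.e₀) M.e₀ := by
  intro g hg
  have h1 : M.F (A.T (g M.e₀)) (g M.e₀) = M.F (A.T M.e₀) M.e₀ := by
    rw [A.T_comm g (A.C_le hg) (A.grp.z_comm g hg), A.rep.C_isom g hg]
  rw [← h1, A.T_apply, LinearMap.BilinForm.sum_left]
  refine Finset.sum_congr rfl fun y hy => ?_
  rw [LinearMap.BilinForm.smul_left]

theorem T_ne (β : ℚ) (hβ : A.T M.e₀ = β • M.e₀) : β ≠ 1200 := by
  classical
  intro h
  -- double sum
  have h1 : ∑ y ∈ A.finY.toFinset, ∑ c ∈ A.finDz.toFinset, M.F c y * M.F c y =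
      4600 * (4800 : ℚ) := by
    have h2 : ∀ y ∈ A.finY.toFinset, ∑ c ∈ A.finDz.toFinset, M.F c y * M.F c y = 4800 := by
      intro y hy
      rw [Set.Finite.mem_toFinset] at hy
      obtain ⟨g, hg, rfl⟩ := hy
      rw [A.sum_T g hg, hβ, LinearMap.BilinForm.smul_left, A.rep.e₀_norm, h]
      norm_num
    rw [Finset.sum_congr rfl h2, Finset.sum_const, nsmul_eq_mul]
    have h3 : (A.finY.toFinset).card = 4600 := by
      rw [← Set.ncard_eq_toFinset_card _ A.finY, A.rep.e_card]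
    rw [h3]
    norm_num
  rw [Finset.sum_comm] at h1
  -- split the outer sum
  have hsub : A.S_finite.toFinset ⊆ A.finDz.toFinset := by
    intro c hc
    rw [Set.Finite.mem_toFinset] at hc ⊢
    exact A.S_sub hc
  rw [← Finset.sum_sdiff hsub] at h1
  have h2 : ∑ c ∈ A.S_finite.toFinset, ∑ y ∈ A.finY.toFinset, M.F c y * M.F c y =
      9200 * (32 : ℚ) := by
    have h3 : ∀ c ∈ A.S_finite.toFinset, ∑ y ∈ A.finY.toFinset, M.F c y * M.F c y = 32 := by
      intro c hc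
      rw [Set.Finite.mem_toFinset] at hc
      obtain ⟨g, hg, rfl⟩ := hc
      unfold BData.d₀
      rw [map_add, A.parseval _ _ (A.C_U g hg _ A.u₀_mem) (A.C_E g hg _ A.e₀_mem),
        A.rep.C_isom g hg, A.rep.e₀_norm]
      norm_num
    rw [Finset.sum_congr rfl h3, Finset.sum_const, nsmul_eq_mul]
    have h4 : (A.S_finite.toFinset).card = 9200 := by
      rw [← Set.ncard_eq_toFinset_card _ A.S_finite, A.rep.S_card]
    rw [h4]
    norm_num
  have h3 : ∑ c ∈ A.finDz.toFinset \ A.S_finite.toFinset,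
      ∑ y ∈ A.finY.toFinset, M.F c y * M.F c y =
      ((A.finDz.toFinset \ A.S_finite.toFinset).card : ℚ) * 56 := by
    have h4 : ∀ c ∈ A.finDz.toFinset \ A.S_finite.toFinset,
        ∑ y ∈ A.finY.toFinset, M.F c y * M.F c y = 56 := by
      intro c hc
      rw [Finset.mem_sdiff, Set.Finite.mem_toFinset, Set.Finite.mem_toFinset] at hc
      have h5 := A.mem_E_of c hc.1.1 hc.1.2 hc.2
      have h6 := A.parseval 0 c (Submodule.zero_mem _) h5
      rw [zero_add] at h6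
      rw [h6, A.F_D c hc.1.1]
      norm_num
    rw [Finset.sum_congr rfl h4, Finset.sum_const, nsmul_eq_mul]
  rw [h2, h3] at h1
  generalize (A.finDz.toFinset \ A.S_finite.toFinset).card = n at h1
  have h5 : (n : ℚ) * 56 = 21785600 := by linarith
  have h6 : n * 56 = 21785600 := by exact_mod_cast h5
  omega

/-- an isometry permuting the axes and commuting with `z` preserves `U` and `E` -/
theorem pres (k : W ≃ₗ[ℚ] W) (hk : k ∈ M.Γ) (hz : k * M.z = M.z * k) :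
    (∀ x ∈ M.U, k x ∈ M.U) ∧ ∀ x ∈ M.E, k x ∈ M.E := by
  obtain ⟨β, hβ⟩ := A.T_e₀
  have hne := A.T_ne β hβ
  have T_E : ∀ x ∈ M.E, A.T x = β • x := by
    intro x hx
    induction hx using Submodule.span_induction with
    | mem x hx =>
      obtain ⟨g, hg, rfl⟩ := hx
      rw [A.T_comm g (A.C_le hg) (A.grp.z_comm g hg), hβ, map_smul]
    | zero => simp
    | add a b _ _ ha hb => rw [map_add, ha, hb, smul_add]
    | smul r a _ ha => rw [map_smul, ha, smul_comm]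
  have hz' : ∀ y, M.z (k y) = k (M.z y) := fun y =>
    (congrArg (fun f : W ≃ₗ[ℚ] W => f y) hz).symm
  constructor
  · intro x hx
    obtain ⟨u, hu, e, he, h⟩ := A.rep.fix_z (k x) (by rw [hz', A.z_U x hx])
    have h1 : A.T (k x) = (1200 : ℚ) • (u + e) := by
      rw [A.T_comm k hk hz, A.T_U x hx, map_smul, h]
    rw [h, map_add, A.T_U u hu, T_E e he, smul_add] at h1
    have h2 : (β - 1200) • e = 0 := by
      rw [sub_smul, sub_eq_zero]
      exact add_left_cancel h1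
    rcases smul_eq_zero.1 h2 with h3 | h3
    · exact absurd (by linarith) hne
    · rw [h, h3, add_zero]
      exact hu
  · intro x hx
    obtain ⟨u, hu, e, he, h⟩ := A.rep.fix_z (k x) (by rw [hz', A.z_E x hx])
    have h1 : A.T (k x) = β • (u + e) := by
      rw [A.T_comm k hk hz, T_E x hx, map_smul, h]
    rw [h, map_add, A.T_U u hu, T_E e he, smul_add] at h1
    have h2 : (1200 - β) • u = 0 := by
      rw [sub_smul, sub_eq_zero]
      exact add_right_cancel h1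
    rcases smul_eq_zero.1 h2 with h3 | h3
    · exact absurd (by linarith) hne
    · rw [h, h3, zero_add]
      exact he

/-- ... and permutes the base orbit, compatibly with the two parts -/
theorem pres_S (k : W ≃ₗ[ℚ] W) (hk : k ∈ M.Γ) (hz : k * M.z = M.z * k) (g : W ≃ₗ[ℚ] W)
    (hg : g ∈ M.C) : ∃ h ∈ M.C, k (g M.u₀) = h M.u₀ ∧ k (g M.e₀) = h M.e₀ := by
  obtain ⟨hU, hE⟩ := A.pres k hk hz
  have hz' : ∀ y, M.z (k y) = k (M.z y) := fun y =>
    (congrArg (fun f : W ≃ₗ[ℚ] W => f y) hz).symm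
  have hgU := A.C_U g hg _ A.u₀_mem
  have hgE := A.C_E g hg _ A.e₀_mem
  have h1 : k (g M.d₀) ∈ M.D := (hk.2 _).2 (A.C_D g hg _ A.d₀_mem)
  have h2 : M.z (k (g M.d₀)) = k (g M.d₀) := by
    rw [hz', (A.S_sub ⟨g, hg, rfl⟩ : g M.d₀ ∈ {c | c ∈ M.D ∧ M.z c = c}).2]
  by_cases h3 : k (g M.d₀) ∈ M.S
  · obtain ⟨h, hh, e⟩ := h3
    unfold BData.d₀ at e
    rw [map_add, map_add, map_add] at e
    exact ⟨h, hh, A.parts (hU _ hgU) (A.C_U h hh _ A.u₀_mem) (hE _ hgE) (A.C_E h hh _ A.e₀_mem) e⟩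
  · exfalso
    have h4 := A.mem_E_of _ h1 h2 h3
    have h5 : k (g M.u₀) ∈ M.E := by
      have : k (g M.u₀) = k (g M.d₀) - k (g M.e₀) := by
        unfold BData.d₀
        rw [map_add, map_add]
        abel
      rw [this]
      exact Submodule.sub_mem _ h4 (hE _ hgE)
    have h6 := A.eq_zero_of_mem_U_E _ (hU _ hgU) h5
    have h7 : M.F (k (g M.u₀)) (k (g M.u₀)) = 3 := by
      rw [hk.1, A.rep.C_isom g hg, A.rep.u₀_norm]
    rw [h6] at h7
    simp at h7

/-- a character of `Q` is given by commutation with an element of `Q` -/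
theorem inner (f : M.Q →* ℤˣ) :
    ∃ q ∈ M.Q, ∀ x : M.Q, q * x = x * q ↔ f x = 1 := by
  have : Finite M.Q := Nat.finite_of_card_ne_zero (by rw [A.grp.Q_card]; norm_num)
  obtain ⟨q, hq⟩ := AbsInner.inner (Q := M.Q) ⟨M.z, A.grp.z_mem⟩
    (fun h => A.grp.z_ne (congrArg Subtype.val h)) (Subtype.ext A.grp.z_sq)
    (fun x => Subtype.ext (A.grp.z_comm x (A.grp.Q_le x.2)))
    (fun x y => by
      rcases A.grp.Q_comm x x.2 y y.2 with h | h
      · exact Or.inl (Subtype.ext h)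
      · exact Or.inr (Subtype.ext h))
    (fun x h => by
      rcases A.grp.Q_center x x.2 (fun y hy => congrArg Subtype.val (h ⟨y, hy⟩)) with h | h
      · exact Or.inl (Subtype.ext h)
      · exact Or.inr (Subtype.ext h))
    (by
      obtain ⟨y, hy, h⟩ := A.grp.exists_noncomm _ A.rep.t₀_mem A.rep.t₀_ne A.rep.t₀_ne_z
      exact ⟨⟨_, A.rep.t₀_mem⟩, ⟨y, hy⟩, fun e => h (congrArg Subtype.val e)⟩) f
  refine ⟨q, q.2, fun x => ?_⟩
  rw [← hq x]
  exact ⟨fun h => Subtype.ext h, fun h => congrArg Subtype.val h⟩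

theorem exists_M : ∃ m m', M.z m = -m ∧ M.z m' = -m' ∧ M.F m m' ≠ 0 := by
  by_contra h
  push Not at h
  apply A.grp.z_ne
  ext x
  obtain ⟨u, hu, e, he, m, hm, rfl⟩ := A.decomp x
  have hm0 : m = 0 := by
    refine A.eq_zero_of_orth m (fun u hu => ?_) (fun e he => ?_) (fun m' hm' => h m m' hm hm')
    · rw [A.rep.F_symm]
      exact A.fix_orth u m (A.z_U u hu) hm
    · rw [A.rep.F_symm]
      exact A.fix_orth e m (A.z_E e he) hm
  rw [hm0, add_zero, map_add, A.z_U u hu, A.z_E e he]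
  rfl

/-- the case of an element acting trivially on `U` -/
theorem rigid₁ (k : W ≃ₗ[ℚ] W) (hk : k ∈ M.Γ) (hz : k * M.z = M.z * k)
    (hU : ∀ g ∈ M.C, k (g M.u₀) = g M.u₀) : k ∈ M.Q := by
  classical
  -- signs on `E`
  have hE : ∀ g ∈ M.C, k (g M.e₀) = g M.e₀ ∨ k (g M.e₀) = - g M.e₀ := by
    intro g hg
    obtain ⟨h, hh, h1, h2⟩ := A.pres_S k hk hz g hg
    rw [hU g hg] at h1
    have h3 := A.rep.stab_u₀ (g⁻¹ * h) (M.C.mul_mem (M.C.inv_mem hg) hh) (Or.inl (by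
      rw [LinearEquiv.mul_apply, ← h1, inv_apply_self']))
    rw [LinearEquiv.mul_apply] at h3
    rcases h3 with h3 | h3
    · left
      have := congrArg g h3
      rw [apply_inv_self'] at this
      rw [h2, this]
    · right
      have := congrArg g h3
      rw [apply_inv_self', map_neg] at this
      rw [h2, this]
  obtain ⟨q₀, hq₀, hq₀e, hq₀t⟩ := A.exists_q
  have hq₀d : q₀ M.d₀ = M.u₀ + - M.e₀ := by
    unfold BData.d₀
    rw [map_add, hq₀e, A.rep.Q_u₀ q₀ hq₀]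
  have hconj₀ : q₀ * M.t₀ * q₀⁻¹ = M.t₀ * M.z := by
    rw [hq₀t, mul_assoc, ← A.grp.z_comm q₀⁻¹ (M.C.inv_mem (A.grp.Q_le hq₀))]
    group
  have zC : ∀ g ∈ M.C, g * M.z = M.z * g := A.grp.z_comm
  -- conjugation of the generators of `Q`
  have hgen : ∀ g ∈ M.C, (k (g M.e₀) = g M.e₀ →
      k * (g * M.t₀ * g⁻¹) * k⁻¹ = g * M.t₀ * g⁻¹) ∧
      (k (g M.e₀) = - g M.e₀ → k * (g * M.t₀ * g⁻¹) * k⁻¹ = g * M.t₀ * g⁻¹ * M.z) := by
    intro g hg
    constructor
    · intro h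
      refine A.conj_t k g g hk (A.C_le hg) (A.C_le hg) (Or.inl ?_)
      unfold BData.d₀
      rw [map_add, map_add, h, hU g hg]
    · intro h
      have h1 := A.conj_t k g (g * q₀) hk (A.C_le hg)
        (A.C_le (M.C.mul_mem hg (A.grp.Q_le hq₀))) (Or.inl (by
          rw [LinearEquiv.mul_apply, hq₀d]
          unfold BData.d₀
          rw [map_add, map_add, map_add, h, hU g hg, map_neg]))
      rw [h1]
      have h2 : g * q₀ * M.t₀ * (g * q₀)⁻¹ = g * (q₀ * M.t₀ * q₀⁻¹) * g⁻¹ := by group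
      rw [h2, hconj₀, mul_assoc, mul_assoc, ← zC g⁻¹ (M.C.inv_mem hg)]
      group
  -- all of `Q`
  have hz2 : M.z * M.z = 1 := A.grp.z_sq
  have hall : ∀ x ∈ M.Q, k * x * k⁻¹ = x ∨ k * x * k⁻¹ = x * M.z := by
    intro x hx
    have hx' : x ∈ M.Q := hx
    rw [← A.grp.closure_conj M.t₀ A.rep.t₀_mem A.rep.t₀_ne A.rep.t₀_ne_z] at hx
    induction hx using Subgroup.closure_induction with
    | mem y hy =>
      obtain ⟨g, hg, rfl⟩ := hy
      rcases hE g hg with h | h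
      · exact Or.inl ((hgen g hg).1 h)
      · exact Or.inr ((hgen g hg).2 h)
    | one => left; group
    | mul a b ha hb iha ihb =>
      rw [A.grp.closure_conj M.t₀ A.rep.t₀_mem A.rep.t₀_ne A.rep.t₀_ne_z] at ha hb
      have e : k * (a * b) * k⁻¹ = (k * a * k⁻¹) * (k * b * k⁻¹) := by group
      rw [e]
      have hbz := zC b (A.grp.Q_le hb)
      rcases iha ha with h1 | h1 <;> rcases ihb hb with h2 | h2 <;> rw [h1, h2]
      · left; rfl
      · right; rw [mul_assoc]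
      · right; rw [mul_assoc, mul_assoc, hbz]
      · left
        rw [mul_assoc, ← mul_assoc M.z b M.z, ← hbz, mul_assoc b, hz2, mul_one]
    | inv a ha iha =>
      rw [A.grp.closure_conj M.t₀ A.rep.t₀_mem A.rep.t₀_ne A.rep.t₀_ne_z] at ha
      have e : k * a⁻¹ * k⁻¹ = (k * a * k⁻¹)⁻¹ := by group
      rw [e]
      rcases iha ha with h1 | h1 <;> rw [h1]
      · left; rfl
      · right
        rw [mul_inv_rev, zC a⁻¹ (M.C.inv_mem (A.grp.Q_le ha))]
        congr 1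
        exact (eq_inv_of_mul_eq_one_left hz2).symm
  -- the character
  have hzne : ∀ a : W ≃ₗ[ℚ] W, a * M.z ≠ a := fun a h => A.grp.z_ne (by simpa using h)
  have hu : (-1 : ℤˣ) ≠ 1 := by decide
  let f₀ : M.Q → ℤˣ := fun x => if k * x * k⁻¹ = x then 1 else -1
  have f1 : ∀ x : M.Q, f₀ x = 1 ↔ k * x * k⁻¹ = x := by
    intro x
    by_cases h : k * x * k⁻¹ = (x : W ≃ₗ[ℚ] W)
    · simp [f₀, h]
    · simp [f₀, h, hu]
  have f2 : ∀ x : M.Q, f₀ x = -1 ↔ k * x * k⁻¹ = x * M.z := by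
    intro x
    by_cases h : k * x * k⁻¹ = (x : W ≃ₗ[ℚ] W)
    · simp only [f₀, h, if_true]
      exact ⟨fun h => absurd h.symm hu, fun h' => absurd h'.symm (hzne _)⟩
    · simp only [f₀, h, if_false, true_iff]
      exact (hall x x.2).resolve_left h
  have fmul : ∀ x y : M.Q, f₀ (x * y) = f₀ x * f₀ y := by
    intro a b
    have e : k * ((a : W ≃ₗ[ℚ] W) * b) * k⁻¹ = (k * a * k⁻¹) * (k * b * k⁻¹) := by group
    have hbz := zC b (A.grp.Q_le b.2)
    rcases hall a a.2 with h1 | h1 <;> rcases hall b b.2 with h2 | h2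
    · rw [(f1 a).2 h1, (f1 b).2 h2, mul_one, f1, Subgroup.coe_mul, e, h1, h2]
    · rw [(f1 a).2 h1, (f2 b).2 h2, one_mul, f2, Subgroup.coe_mul, e, h1, h2, mul_assoc]
    · rw [(f2 a).2 h1, (f1 b).2 h2, mul_one, f2, Subgroup.coe_mul, e, h1, h2, mul_assoc, mul_assoc,
        hbz]
    · rw [(f2 a).2 h1, (f2 b).2 h2, neg_mul_neg, one_mul, f1, Subgroup.coe_mul, e, h1, h2,
        mul_assoc, ← mul_assoc M.z (b : W ≃ₗ[ℚ] W) M.z, ← hbz, mul_assoc (b : W ≃ₗ[ℚ] W), hz2,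
        mul_one]
  obtain ⟨q, hq, hqf⟩ := A.inner (MonoidHom.mk' f₀ fmul)
  -- `k₂ = q⁻¹ k` centralises `Q`
  set k₂ := q⁻¹ * k with hk₂
  have hk₂Γ : k₂ ∈ M.Γ := M.Γ.mul_mem (M.Γ.inv_mem (A.C_le (A.grp.Q_le hq))) hk
  have hcent : ∀ x ∈ M.Q, k₂ * x = x * k₂ := by
    intro x hx
    have h1 : k * x * k⁻¹ = q * x * q⁻¹ := by
      have h3 := hqf ⟨x, hx⟩
      rw [show (MonoidHom.mk' f₀ fmul) ⟨x, hx⟩ = f₀ ⟨x, hx⟩ from rfl, f1] at h3
      rcases A.grp.Q_comm q hq x hx with h | h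
      · have h4 := h3.1 h
        rw [h]
        change k * x * k⁻¹ = x at h4
        rw [h4]
        group
      · have h4 : ¬ (k * x * k⁻¹ = x) := by
          intro h5
          have h6 := h3.2 h5
          change q * x = x * q at h6
          rw [h6] at h
          exact hzne _ h.symm
        rw [(hall x hx).resolve_left h4, h, mul_assoc (x * q),
          ← zC q⁻¹ (M.C.inv_mem (A.grp.Q_le hq))]
        group
    have h2 : k₂ * x = q⁻¹ * (k * x * k⁻¹) * k := by rw [hk₂]; group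
    rw [h2, h1, hk₂]
    group
  have hk₂z : k₂ * M.z = M.z * k₂ := hcent _ A.grp.z_mem
  have hk₂U : ∀ g ∈ M.C, k₂ (g M.u₀) = g M.u₀ := by
    intro g hg
    rw [hk₂, LinearEquiv.mul_apply, hU g hg]
    exact A.Q_U _ (M.Q.inv_mem hq) _ (A.C_U g hg _ A.u₀_mem)
  -- trivial on `E`
  have hk₂E : ∀ g ∈ M.C, k₂ (g M.e₀) = g M.e₀ := by
    intro g hg
    have hqe : q⁻¹ (g M.e₀) = g M.e₀ ∨ q⁻¹ (g M.e₀) = - g M.e₀ := by
      have h1 := A.grp.Q_normal' g hg _ (M.Q.inv_mem hq)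
      have h2 : ((g⁻¹ * q⁻¹ * g) M.e₀ = M.e₀) ∨ ((g⁻¹ * q⁻¹ * g) M.e₀ = - M.e₀) := by
        by_cases hc : (g⁻¹ * q⁻¹ * g) * M.t₀ = M.t₀ * (g⁻¹ * q⁻¹ * g)
        · exact Or.inl (A.rep.Q_e₀_pos _ h1 hc)
        · exact Or.inr (A.rep.Q_e₀_neg _ h1 hc)
      rw [LinearEquiv.mul_apply, LinearEquiv.mul_apply] at h2
      rcases h2 with h2 | h2
      · left
        have := congrArg g h2
        rwa [apply_inv_self'] at this
      · right
        have := congrArg g h2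
        rwa [apply_inv_self', map_neg] at this
    have h3 : k₂ (g M.e₀) = g M.e₀ ∨ k₂ (g M.e₀) = - g M.e₀ := by
      rw [hk₂, LinearEquiv.mul_apply]
      rcases hE g hg with h | h <;> rw [h]
      · exact hqe
      · rw [map_neg]
        rcases hqe with h | h <;> rw [h]
        · exact Or.inr rfl
        · exact Or.inl (neg_neg _)
    rcases h3 with h3 | h3
    · exact h3
    · exfalso
      have h4 := A.conj_t k₂ g (g * q₀) hk₂Γ (A.C_le hg)
        (A.C_le (M.C.mul_mem hg (A.grp.Q_le hq₀))) (Or.inl (by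
          change k₂ (g M.d₀) = g (q₀ M.d₀)
          rw [hq₀d]
          unfold BData.d₀
          rw [map_add, map_add, map_add, h3, hk₂U g hg, map_neg]))
      rw [hcent _ (A.grp.Q_normal g hg _ A.rep.t₀_mem), mul_assoc, mul_inv_cancel, mul_one] at h4
      have h5 : g * q₀ * M.t₀ * (g * q₀)⁻¹ = g * (q₀ * M.t₀ * q₀⁻¹) * g⁻¹ := by group
      rw [h5, hconj₀] at h4
      have h6 : g * (M.t₀ * M.z) * g⁻¹ = g * M.t₀ * g⁻¹ * M.z := by
        rw [mul_assoc, mul_assoc, ← zC g⁻¹ (M.C.inv_mem hg)]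
        group
      rw [h6] at h4
      exact hzne _ h4.symm
  have hk₂U' : ∀ x ∈ M.U, k₂ x = x := by
    intro x hx
    induction hx using Submodule.span_induction with
    | mem x hx =>
      obtain ⟨g, hg, rfl⟩ := hx
      exact hk₂U g hg
    | zero => simp
    | add a b _ _ ha hb => rw [map_add, ha, hb]
    | smul r a _ ha => rw [map_smul, ha]
  have hk₂E' : ∀ x ∈ M.E, k₂ x = x := by
    intro x hx
    induction hx using Submodule.span_induction with
    | mem x hx =>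
      obtain ⟨g, hg, rfl⟩ := hx
      exact hk₂E g hg
    | zero => simp
    | add a b _ _ ha hb => rw [map_add, ha, hb]
    | smul r a _ ha => rw [map_smul, ha]
  -- scalar on the `2048`-part
  have hk₂z' : ∀ y, M.z (k₂ y) = k₂ (M.z y) := fun y =>
    (congrArg (fun f : W ≃ₗ[ℚ] W => f y) hk₂z).symm
  obtain ⟨α, hα⟩ := A.rep.scalar (k₂ : W →ₗ[ℚ] W)
    (fun m hm => by
      change M.z (k₂ m) = - k₂ m
      rw [hk₂z', hm, map_neg])
    (fun q' hq' m _ => congrArg (fun f : W ≃ₗ[ℚ] W => f m) (hcent q' hq'))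
  change ∀ m, M.z m = -m → k₂ m = α • m at hα
  obtain ⟨m, m', hm, hm', hF⟩ := A.exists_M
  have hα2 : α * α = 1 := by
    have h1 := hk₂Γ.1 m m'
    rw [hα m hm, hα m' hm', LinearMap.BilinForm.smul_left, map_smul, smul_eq_mul, ← mul_assoc] at h1
    have h2 : (α * α - 1) * M.F m m' = 0 := by linear_combination h1
    rcases mul_eq_zero.1 h2 with h | h
    · linarith
    · exact absurd h hF
  have hk : k = q * k₂ := by rw [hk₂]; group
  rw [hk]
  refine M.Q.mul_mem hq ?_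
  have hα3 : (α - 1) * (α + 1) = 0 := by linear_combination hα2
  rcases mul_eq_zero.1 hα3 with h | h
  · have h1 : k₂ = 1 := by
      ext x
      obtain ⟨u, hu, e, he, m, hm, rfl⟩ := A.decomp x
      rw [map_add, map_add, hk₂U' u hu, hk₂E' e he, hα m hm, show α = 1 by linarith, one_smul]
      rfl
    rw [h1]
    exact M.Q.one_mem
  · have h1 : k₂ = M.z := by
      ext x
      obtain ⟨u, hu, e, he, m, hm, rfl⟩ := A.decomp x
      rw [map_add, map_add, map_add, map_add, hk₂U' u hu, hk₂E' e he, hα m hm, A.z_U u hu,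
        A.z_E e he, hm, show α = -1 by linarith, neg_smul, one_smul]
    rw [h1]
    exact A.grp.z_mem

/-- `-1` as a linear equivalence -/
def _root_.Cfsg.Agent.BabyM.Model.negE (W : Type) [AddCommGroup W] [Module ℚ W] : W ≃ₗ[ℚ] W :=
  LinearEquiv.neg ℚ

theorem negE_comm (k : W ≃ₗ[ℚ] W) : k * negE W = negE W * k := by
  ext x
  change k (-x) = - k x
  rw [map_neg]

/-- **Rigidity**: isometries permuting the axes and commuting with `z` lie in `± C`. -/
theorem rigid (k : W ≃ₗ[ℚ] W) (hk : k ∈ M.Γ) (hz : k * M.z = M.z * k) :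
    k ∈ M.C ∨ negE W * k ∈ M.C := by
  obtain ⟨c, hc, h⟩ := A.rep.rigid k (fun x _ y _ => hk.1 x y) (fun g hg => by
    obtain ⟨h, hh, h1, -⟩ := A.pres_S k hk hz g hg
    exact ⟨h, hh, h1⟩)
  have hc' := M.C.inv_mem hc
  rcases h with h | h
  · left
    have h1 := A.rigid₁ (c⁻¹ * k) (M.Γ.mul_mem (A.C_le hc') hk) (by
      rw [mul_assoc, hz, ← mul_assoc, A.grp.z_comm _ hc', mul_assoc]) (fun g hg => by
        rw [LinearEquiv.mul_apply, h g hg, inv_apply_self'])
    have h2 : k = c * (c⁻¹ * k) := by group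
    rw [h2]
    exact M.C.mul_mem hc (A.grp.Q_le h1)
  · right
    have h1 := A.rigid₁ (c⁻¹ * (negE W * k)) (M.Γ.mul_mem (A.C_le hc')
      (M.Γ.mul_mem A.neg_mem hk)) (by
      rw [mul_assoc, mul_assoc, hz, ← mul_assoc (negE W), ← A.negE_comm M.z, mul_assoc M.z,
        ← mul_assoc, A.grp.z_comm _ hc', mul_assoc]) (fun g hg => by
        rw [LinearEquiv.mul_apply, LinearEquiv.mul_apply, h g hg]
        change c⁻¹ (- - c (g M.u₀)) = _
        rw [neg_neg, inv_apply_self'])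
    have h2 : negE W * k = c * (c⁻¹ * (negE W * k)) := by group
    rw [h2]
    exact M.C.mul_mem hc (A.grp.Q_le h1)

end BAll

end Cfsg.Agent.BabyM.Model
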