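/-
Elements of `N` fixing the vectors `v_k` (two for each `k`).
Generated file (blueprints/R19/model_B_512).
-/
import Cfsg.Agent.BabyM.CertVec
set_option linter.all false

set_option autoImplicit false
set_option maxRecDepth 100000

namespace Cfsg.Agent.BabyM.CertStab

open Cfsg.Agent.Monster.VecEngine Cfsg.Agent.Monster.VecSpace Cfsg.Agent.BabyM.Conc Cfsg.Agent.BabyM.CertVec

/-- Generator 0 of the stabiliser of `v_k`. -/
def s0 : ℕ → List Ltr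
  | 0 => [.h, .p, .p, .p, .h, .p, .p, .h, .p, .h, .p, .p, .y2, .y3, .y5, .y8, .y9, .y10]
  | 1 => [.p, .p, .p, .p, .p, .p, .p, .p, .p, .h, .p, .p, .h, .y3, .y4, .y9, .y10, .Z9]
  | 2 => [.p, .h, .p, .h, .p, .h, .p, .p, .p, .h, .p, .p, .h, .p, .h, .y1, .y5, .y7, .y9, .y10, .X5, .X7, .X9]
  | 3 => [.p, .p, .p, .p, .h, .p, .p, .p, .p, .p, .p, .p, .h, .y1, .y2, .y4, .y8, .y9, .y10, .Z10]
  | 4 => [.h, .p, .p, .p, .p, .p, .p, .h, .p, .p, .p, .p, .p, .h, .y2, .y5, .y7, .y9, .y10, .Z5, .Z9, .Z10, .X6, .X10]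
  | 5 => [.h, .p, .p, .p, .p, .p, .h, .p, .p, .p, .p, .p, .p, .h, .y4, .y6, .y9, .Z7]
  | 6 => [.p, .h, .p, .h, .p, .p, .h, .p, .h, .p, .h, .p, .h, .y1, .y2, .y3, .y4, .y5, .y6, .y7, .y8, .X2, .X3, .X6, .X7, .X0, .Z0, .X0, .Z0]
  | 7 => [.p, .p, .p, .p, .p, .p, .p, .p, .h, .p, .p, .p, .y1, .y2, .y6, .y7, .y8, .y10, .Z5, .Z7, .Z8]
  | 8 => [.p, .h, .p, .p, .h, .p, .p, .p, .h, .y1, .y2, .y4, .y7, .y10, .Z0, .Z3, .Z5, .Z7, .Z10]
  | 9 => [.p, .p, .h, .p, .p, .p, .h, .p, .p, .p, .p, .p, .h, .p, .h, .y4, .y5, .y7, .y9, .Z4, .Z8, .X3, .X5, .X6, .X7, .X8]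
  | 10 => [.p, .h, .p, .h, .p, .p, .p, .p, .p, .h, .p, .p, .h, .p, .p, .h, .y1, .y2, .y3, .y6, .y8, .Z0, .Z4, .Z5, .Z8, .Z9, .X0, .X3, .X5, .X7, .X0, .Z0, .X0, .Z0]
  | 11 => [.p, .p, .h, .p, .h, .p, .p, .p, .p, .p, .y1, .y2, .y3, .y6, .y7, .y9, .X2, .X3, .X5, .X9, .X0, .Z0, .X0, .Z0]
  | 12 => [.p, .h, .p, .h, .p, .p, .h, .p, .h, .p, .h, .p, .h, .y1, .y5, .y8, .Z1, .Z2, .Z5, .Z6, .Z8, .Z9, .X1, .X2, .X4, .X7, .X8]
  | 13 => [.h, .p, .h, .p, .h, .p, .p, .h, .y2, .y3, .y6, .Z4, .Z10, .X1, .X2, .X3, .X5, .X8, .X9]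
  | 14 => [.h, .p, .p, .p, .p, .h, .p, .h, .p, .h, .p, .h, .p, .p, .h, .y2, .y4, .y5, .y9, .y10, .Z0, .Z2, .Z7, .Z9, .X1, .X6, .X7, .X8, .X10]
  | 15 => [.h, .p, .p, .p, .p, .p, .h, .p, .p, .p, .y1, .y3, .y9, .y10, .Z1, .Z2, .Z4, .Z5, .Z6, .X0, .X2, .X4, .X6, .X8]
  | 16 => [.h, .p, .p, .p, .h, .p, .p, .h, .p, .p, .h, .p, .p, .y3, .y4, .y8, .Z1, .Z2, .Z3, .Z5, .Z6, .Z7, .Z9, .Z10, .X4, .X5, .X6, .X7, .X8, .X9, .X10, .X0, .Z0, .X0, .Z0]
  | 17 => [.h, .y2, .y6, .y10, .Z2, .Z4, .Z5, .Z6, .Z10, .X0, .X1, .X3, .X4, .X5, .X7, .X8, .X9, .X0, .Z0, .X0, .Z0]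
  | _ => [.p, .h, .p, .h, .p, .p, .p, .p, .p, .p, .y1, .y2, .y3, .y5, .y7, .y8, .y10, .Z3, .Z4, .Z5, .Z6, .Z7, .Z8, .X3, .X4, .X9, .X10]

theorem c0_0 : checkFix ((s0 0).map Ltr.prog) v0 = true := by decide +kernel

theorem c0_1 : checkFix ((s0 1).map Ltr.prog) v1 = true := by decide +kernel

theorem c0_2 : checkFix ((s0 2).map Ltr.prog) v2 = true := by decide +kernel

theorem c0_3 : checkFix ((s0 3).map Ltr.prog) v3 = true := by decide +kernel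

theorem c0_4 : checkFix ((s0 4).map Ltr.prog) v4 = true := by decide +kernel

theorem c0_5 : checkFix ((s0 5).map Ltr.prog) v5 = true := by decide +kernel

theorem c0_6 : checkFix ((s0 6).map Ltr.prog) v6 = true := by decide +kernel

theorem c0_7 : checkFix ((s0 7).map Ltr.prog) v7 = true := by decide +kernel

theorem c0_8 : checkFix ((s0 8).map Ltr.prog) v8 = true := by decide +kernel

theorem c0_9 : checkFix ((s0 9).map Ltr.prog) v9 = true := by decide +kernel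

theorem c0_10 : checkFix ((s0 10).map Ltr.prog) v10 = true := by decide +kernel

theorem c0_11 : checkFix ((s0 11).map Ltr.prog) v11 = true := by decide +kernel

theorem c0_12 : checkFix ((s0 12).map Ltr.prog) v12 = true := by decide +kernel

theorem c0_13 : checkFix ((s0 13).map Ltr.prog) v13 = true := by decide +kernel

theorem c0_14 : checkFix ((s0 14).map Ltr.prog) v14 = true := by decide +kernel

theorem c0_15 : checkFix ((s0 15).map Ltr.prog) v15 = true := by decide +kernel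

theorem c0_16 : checkFix ((s0 16).map Ltr.prog) v16 = true := by decide +kernel

theorem c0_17 : checkFix ((s0 17).map Ltr.prog) v17 = true := by decide +kernel

theorem c0_18 : checkFix ((s0 18).map Ltr.prog) v18 = true := by decide +kernel

theorem c0 (k : ℕ) (hk : k < 19) : checkFix ((s0 k).map Ltr.prog) (yv k) = true := by
  interval_cases k
  · exact c0_0
  · exact c0_1
  · exact c0_2
  · exact c0_3
  · exact c0_4
  · exact c0_5
  · exact c0_6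
  · exact c0_7
  · exact c0_8
  · exact c0_9
  · exact c0_10
  · exact c0_11
  · exact c0_12
  · exact c0_13
  · exact c0_14
  · exact c0_15
  · exact c0_16
  · exact c0_17
  · exact c0_18

theorem fix0 (k : ℕ) (hk : k < 19) : W (s0 k) (vecU ℚ U (yv k)) = vecU ℚ U (yv k) := W_fix_of_check (c0 k hk)

theorem isN_s0 (k : ℕ) (hk : k < 19) : (s0 k).all isN = true := by interval_cases k <;> rfl

/-- Generator 1 of the stabiliser of `v_k`. -/
def s1 : ℕ → List Ltr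
  | 0 => [.h, .p, .p, .p, .p, .h, .p, .p, .p, .p, .p, .h, .p, .p, .h, .y1, .y4, .y5, .y9, .y10]
  | 1 => [.p, .h, .p, .p, .p, .h, .p, .p, .p, .p, .h, .p, .h, .y1, .y3, .y5, .y6, .y7, .y9, .y10, .Z9]
  | 2 => [.h, .p, .p, .p, .p, .p, .p, .h, .p, .h, .p, .p, .p, .p, .h, .y4, .y7, .y8, .X5, .X6]
  | 3 => [.p, .p, .h, .p, .h, .p, .p, .p, .h, .p, .h, .p, .p, .p, .Z10]
  | 4 => [.h, .p, .p, .p, .p, .h, .p, .h, .p, .h, .p, .h, .p, .p, .h, .y4, .y7, .y10, .Z8, .Z9, .X6, .X10]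
  | 5 => [.p, .h, .p, .p, .p, .h, .p, .h, .p, .p, .p, .p, .p, .h, .p, .y1, .y4, .y7, .Z6, .Z7]
  | 6 => [.p, .h, .p, .p, .p, .p, .p, .p, .p, .h, .p, .h, .p, .h, .y4, .y6, .y7, .y8, .y10, .X1, .X2, .X5, .X8]
  | 7 => [.p, .h, .p, .p, .h, .p, .p, .p, .h, .p, .p, .p, .h, .p, .y1, .y2, .y7, .Z5, .X1, .X2, .X3, .X9]
  | 8 => [.h, .p, .h, .p, .p, .h, .p, .h, .p, .p, .p, .h, .p, .h, .p, .h, .y2, .y8, .y9, .Z0, .Z5, .Z8, .Z9, .Z10]
  | 9 => [.p, .p, .h, .p, .p, .p, .h, .p, .h, .p, .p, .h, .y3, .y5, .y6, .y9, .y10, .Z4, .Z6, .Z8, .X0, .X1, .X4, .X5, .X6, .X7, .X8, .X9, .X0, .Z0, .X0, .Z0]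
  | 10 => [.p, .h, .p, .h, .p, .p, .p, .p, .p, .p, .p, .p, .h, .p, .h, .y3, .y4, .y7, .Z4, .Z6, .X0, .X1, .X3, .X4, .X5, .X7, .X10, .X0, .Z0, .X0, .Z0]
  | 11 => [.p, .h, .p, .p, .h, .p, .p, .p, .p, .h, .p, .h, .p, .p, .h, .y6, .y7, .y9, .Z0, .Z3, .Z5, .Z9, .X3, .X4, .X8, .X9, .X0, .Z0, .X0, .Z0]
  | 12 => [.p, .p, .p, .p, .p, .p, .p, .h, .p, .h, .p, .p, .p, .y5, .y6, .y8, .y9, .Z1, .Z2, .Z3, .Z4, .Z7, .X1, .X3, .X6, .X10, .X0, .Z0, .X0, .Z0]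
  | 13 => [.h, .p, .h, .p, .h, .p, .p, .p, .h, .p, .h, .p, .h, .p, .h, .y1, .y3, .y5, .y9, .Z0, .Z4, .Z6, .Z7, .Z10, .X1, .X2, .X5, .X8]
  | 14 => [.p, .p, .p, .p, .p, .p, .h, .p, .p, .p, .h, .p, .p, .y1, .y2, .y3, .y5, .y6, .y10, .Z0, .Z6, .Z9, .Z10, .X2, .X3, .X4, .X6, .X7, .X9, .X10, .X0, .Z0, .X0, .Z0]
  | 15 => [.p, .h, .p, .p, .h, .p, .h, .p, .p, .h, .p, .h, .p, .p, .h, .y4, .y5, .y6, .y8, .y10, .Z1, .Z4, .Z5, .Z6, .Z7, .Z8, .Z10, .X0, .X2, .X7, .X8, .X9]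
  | 16 => [.p, .p, .p, .p, .p, .p, .p, .h, .p, .p, .p, .h, .p, .y5, .y7, .y8, .Z1, .Z3, .Z4, .Z5, .Z6, .X2, .X3, .X6, .X8, .X9, .X10]
  | 17 => [.p, .p, .h, .p, .h, .p, .p, .p, .p, .h, .p, .h, .p, .h, .p, .p, .p, .h, .p, .p, .p, .y1, .y2, .y3, .y8, .y9, .Z0, .Z1, .Z4, .Z9, .Z10, .X1, .X3, .X4, .X6, .X7, .X0, .Z0, .X0, .Z0]
  | _ => [.h, .p, .p, .p, .p, .p, .p, .p, .p, .p, .h, .p, .h, .p, .p, .h, .y3, .y6, .y7, .y8, .y9, .Z1, .Z2, .Z3, .Z4, .Z5, .Z8, .X1, .X3, .X4, .X5, .X6, .X7, .X9, .X10, .X0, .Z0, .X0, .Z0]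

theorem c1_0 : checkFix ((s1 0).map Ltr.prog) v0 = true := by decide +kernel

theorem c1_1 : checkFix ((s1 1).map Ltr.prog) v1 = true := by decide +kernel

theorem c1_2 : checkFix ((s1 2).map Ltr.prog) v2 = true := by decide +kernel

theorem c1_3 : checkFix ((s1 3).map Ltr.prog) v3 = true := by decide +kernel

theorem c1_4 : checkFix ((s1 4).map Ltr.prog) v4 = true := by decide +kernel

theorem c1_5 : checkFix ((s1 5).map Ltr.prog) v5 = true := by decide +kernel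

theorem c1_6 : checkFix ((s1 6).map Ltr.prog) v6 = true := by decide +kernel

theorem c1_7 : checkFix ((s1 7).map Ltr.prog) v7 = true := by decide +kernel

theorem c1_8 : checkFix ((s1 8).map Ltr.prog) v8 = true := by decide +kernel

theorem c1_9 : checkFix ((s1 9).map Ltr.prog) v9 = true := by decide +kernel

theorem c1_10 : checkFix ((s1 10).map Ltr.prog) v10 = true := by decide +kernel

theorem c1_11 : checkFix ((s1 11).map Ltr.prog) v11 = true := by decide +kernel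

theorem c1_12 : checkFix ((s1 12).map Ltr.prog) v12 = true := by decide +kernel

theorem c1_13 : checkFix ((s1 13).map Ltr.prog) v13 = true := by decide +kernel

theorem c1_14 : checkFix ((s1 14).map Ltr.prog) v14 = true := by decide +kernel

theorem c1_15 : checkFix ((s1 15).map Ltr.prog) v15 = true := by decide +kernel

theorem c1_16 : checkFix ((s1 16).map Ltr.prog) v16 = true := by decide +kernel

theorem c1_17 : checkFix ((s1 17).map Ltr.prog) v17 = true := by decide +kernel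

theorem c1_18 : checkFix ((s1 18).map Ltr.prog) v18 = true := by decide +kernel

theorem c1 (k : ℕ) (hk : k < 19) : checkFix ((s1 k).map Ltr.prog) (yv k) = true := by
  interval_cases k
  · exact c1_0
  · exact c1_1
  · exact c1_2
  · exact c1_3
  · exact c1_4
  · exact c1_5
  · exact c1_6
  · exact c1_7
  · exact c1_8
  · exact c1_9
  · exact c1_10
  · exact c1_11
  · exact c1_12
  · exact c1_13
  · exact c1_14
  · exact c1_15
  · exact c1_16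
  · exact c1_17
  · exact c1_18

theorem fix1 (k : ℕ) (hk : k < 19) : W (s1 k) (vecU ℚ U (yv k)) = vecU ℚ U (yv k) := W_fix_of_check (c1 k hk)

theorem isN_s1 (k : ℕ) (hk : k < 19) : (s1 k).all isN = true := by interval_cases k <;> rfl

end Cfsg.Agent.BabyM.CertStab
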