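/-
Identities `ξ r v_k = n v_k'`, part 0.
Generated file (blueprints/R19/model_B_512).
-/
import Cfsg.Agent.BabyM.CertVec
set_option linter.all false

set_option autoImplicit false
set_option maxRecDepth 100000

namespace Cfsg.Agent.BabyM.CertXi0

open Cfsg.Agent.Monster.VecEngine Cfsg.Agent.Monster.VecSpace Cfsg.Agent.BabyM.Conc Cfsg.Agent.BabyM.CertVec

def r0 : List Ltr := []

def n0 : List Ltr := [.p, .p, .h, .p, .h, .p, .h, .p, .p, .p, .p, .h, .p, .p, .p, .y2, .y3, .y5, .y6, .y7, .y8]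

theorem c0 : check ((r0 ++ [Ltr.xi]).map Ltr.prog) v0 (n0.map Ltr.prog) v0 = true := by decide +kernel

def r1 : List Ltr := [.h]

def n1 : List Ltr := [.p, .h, .p, .p, .h, .p, .h, .p, .h, .p, .p, .p, .p, .p, .h, .p, .h, .p, .h, .p, .y6, .Z9]

theorem c1 : check ((r1 ++ [Ltr.xi]).map Ltr.prog) v0 (n1.map Ltr.prog) v1 = true := by decide +kernel

def r2 : List Ltr := []

def n2 : List Ltr := [.p, .p, .h, .p, .p, .h, .p, .p, .p, .p, .h, .p, .p, .h, .y1, .y2, .y3, .y5, .y6, .y7, .y8, .y10, .X9]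

theorem c2 : check ((r2 ++ [Ltr.xi]).map Ltr.prog) v1 (n2.map Ltr.prog) v0 = true := by decide +kernel

def r3 : List Ltr := [.y2]

def n3 : List Ltr := [.y1, .y6, .y9, .y10]

theorem c3 : check ((r3 ++ [Ltr.xi]).map Ltr.prog) v1 (n3.map Ltr.prog) v1 = true := by decide +kernel

def r4 : List Ltr := [.p, .h]

def n4 : List Ltr := [.p, .p, .p, .p, .p, .p, .h, .p, .p, .p, .p, .y1, .y2, .y3, .y4, .y5, .y7, .y8]

theorem c4 : check ((r4 ++ [Ltr.xi]).map Ltr.prog) v1 (n4.map Ltr.prog) v3 = true := by decide +kernel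

def r5 : List Ltr := [.p, .h, .p]

def n5 : List Ltr := [.p, .p, .h, .p, .p, .p, .p, .h, .p, .h, .p, .p, .h, .p, .p, .p, .y3, .y5, .y6, .y8, .y10, .Z8]

theorem c5 : check ((r5 ++ [Ltr.xi]).map Ltr.prog) v1 (n5.map Ltr.prog) v1 = true := by decide +kernel

def r6 : List Ltr := []

def n6 : List Ltr := [.p, .p, .h, .p, .p, .p, .h, .p, .p, .p, .p, .p, .h, .p, .h, .p, .y1, .y4, .y6, .y7, .Z9, .X6, .X10]

theorem c6 : check ((r6 ++ [Ltr.xi]).map Ltr.prog) v2 (n6.map Ltr.prog) v2 = true := by decide +kernel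

def r7 : List Ltr := [.p, .h]

def n7 : List Ltr := [.p, .p, .p, .p, .p, .p, .h, .p, .p, .h, .p, .p, .p, .y1, .y2, .y5, .y6, .Z8, .Z9]

theorem c7 : check ((r7 ++ [Ltr.xi]).map Ltr.prog) v2 (n7.map Ltr.prog) v4 = true := by decide +kernel

def r8 : List Ltr := [.p, .h, .p]

def n8 : List Ltr := [.h, .p, .p, .p, .h, .p, .h, .p, .p, .h, .p, .h, .p, .h, .p, .h, .p, .y1, .y2, .y3, .y9, .y10, .Z7, .Z9, .X8]

theorem c8 : check ((r8 ++ [Ltr.xi]).map Ltr.prog) v2 (n8.map Ltr.prog) v5 = true := by decide +kernel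

def r9 : List Ltr := []

def n9 : List Ltr := [.p, .p, .p, .p, .p, .p, .h, .p, .h, .p, .p, .p, .y1, .y2, .y3, .y4, .y9, .Z9]

theorem c9 : check ((r9 ++ [Ltr.xi]).map Ltr.prog) v3 (n9.map Ltr.prog) v1 = true := by decide +kernel

def r10 : List Ltr := [.y2]

def n10 : List Ltr := [.p, .p, .h, .p, .p, .p, .h, .p, .p, .h, .p, .p, .p, .h, .y1, .y2, .y6, .y7, .y9, .y10, .Z10]

theorem c10 : check ((r10 ++ [Ltr.xi]).map Ltr.prog) v3 (n10.map Ltr.prog) v3 = true := by decide +kernel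

def r11 : List Ltr := []

def n11 : List Ltr := [.p, .p, .p, .p, .p, .p, .h, .p, .h, .p, .h, .p, .h, .p, .y2, .y7, .y8, .X4, .X6, .X7, .X8]

theorem c11 : check ((r11 ++ [Ltr.xi]).map Ltr.prog) v4 (n11.map Ltr.prog) v2 = true := by decide +kernel

def r12 : List Ltr := [.y2]

def n12 : List Ltr := [.y1, .y3, .y4, .y5, .y7, .y8, .y9, .y10, .Z10]

theorem c12 : check ((r12 ++ [Ltr.xi]).map Ltr.prog) v4 (n12.map Ltr.prog) v4 = true := by decide +kernel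

def r13 : List Ltr := [.h]

def n13 : List Ltr := [.p, .p, .p, .p, .p, .p, .p, .p, .h, .p, .h, .p, .y1, .y7, .y8, .y10, .Z5, .Z6, .Z9]

theorem c13 : check ((r13 ++ [Ltr.xi]).map Ltr.prog) v4 (n13.map Ltr.prog) v4 = true := by decide +kernel

def r14 : List Ltr := [.p, .p]

def n14 : List Ltr := [.p, .h, .p, .p, .p, .h, .p, .p, .p, .h, .p, .p, .p, .h, .p, .p, .y1, .y4, .y6, .y8, .Z0, .Z7, .Z10]

theorem c14 : check ((r14 ++ [Ltr.xi]).map Ltr.prog) v4 (n14.map Ltr.prog) v8 = true := by decide +kernel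

def r15 : List Ltr := [.h, .p, .y2]

def n15 : List Ltr := [.h, .p, .p, .h, .p, .h, .p, .h, .p, .p, .h, .p, .h, .p, .h, .y1, .y4, .y5, .y6, .y9, .Z8, .Z9, .Z10, .X9, .X10]

theorem c15 : check ((r15 ++ [Ltr.xi]).map Ltr.prog) v4 (n15.map Ltr.prog) v4 = true := by decide +kernel

def r16 : List Ltr := [.h, .p]

def n16 : List Ltr := [.p, .p, .p, .p, .p, .p, .p, .p, .h, .p, .p, .h, .p, .y3, .y4, .y5, .y8, .Z6, .X2, .X10]

theorem c16 : check ((r16 ++ [Ltr.xi]).map Ltr.prog) v4 (n16.map Ltr.prog) v5 = true := by decide +kernel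

def r17 : List Ltr := []

def n17 : List Ltr := [.p, .p, .h, .p, .h, .p, .h, .p, .h, .p, .p, .h, .p, .h, .p, .p, .y1, .y4, .y8, .y9]

theorem c17 : check ((r17 ++ [Ltr.xi]).map Ltr.prog) v5 (n17.map Ltr.prog) v2 = true := by decide +kernel

def r18 : List Ltr := [.y2]

def n18 : List Ltr := [.p, .p, .p, .p, .p, .p, .h, .p, .p, .p, .p, .p, .y5, .y6, .y7, .y8, .X10]

theorem c18 : check ((r18 ++ [Ltr.xi]).map Ltr.prog) v5 (n18.map Ltr.prog) v5 = true := by decide +kernel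

def r19 : List Ltr := [.h, .p, .h]

def n19 : List Ltr := [.p, .p, .h, .p, .h, .p, .h, .p, .h, .p, .p, .p, .h, .p, .h, .p, .p, .y2, .y3, .y5, .y6, .y8, .Z5, .Z8, .Z9, .Z10]

theorem c19 : check ((r19 ++ [Ltr.xi]).map Ltr.prog) v5 (n19.map Ltr.prog) v8 = true := by decide +kernel

def r20 : List Ltr := [.h]

def n20 : List Ltr := [.h, .p, .h, .p, .p, .p, .h, .p, .p, .p, .p, .h, .p, .y2, .y3, .y4, .y5, .Z4, .Z6, .Z9]

theorem c20 : check ((r20 ++ [Ltr.xi]).map Ltr.prog) v5 (n20.map Ltr.prog) v4 = true := by decide +kernel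

def r21 : List Ltr := [.h, .p, .h, .p, .h]

def n21 : List Ltr := [.p, .p, .h, .p, .p, .p, .p, .h, .p, .h, .p, .y3, .y4, .y5, .y7, .y10, .Z9, .X9, .X10]

theorem c21 : check ((r21 ++ [Ltr.xi]).map Ltr.prog) v5 (n21.map Ltr.prog) v5 = true := by decide +kernel

def r22 : List Ltr := []

def n22 : List Ltr := [.p, .p, .p, .p, .p, .p, .p, .p, .h, .p, .p, .p, .y3, .y4, .y5, .y7, .y9, .Z7, .Z8, .X0, .X1, .X3, .X4, .X10]

theorem c22 : check ((r22 ++ [Ltr.xi]).map Ltr.prog) v6 (n22.map Ltr.prog) v7 = true := by decide +kernel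

def r23 : List Ltr := []

def n23 : List Ltr := [.h, .p, .p, .h, .p, .p, .p, .p, .h, .p, .p, .h, .p, .p, .p, .h, .p, .h, .p, .y10, .X0, .X2, .X3, .X6, .X7, .X8, .X9, .X10]

theorem c23 : check ((r23 ++ [Ltr.xi]).map Ltr.prog) v7 (n23.map Ltr.prog) v6 = true := by decide +kernel

def r24 : List Ltr := [.y2]

def n24 : List Ltr := [.h, .p, .p, .p, .p, .h, .p, .h, .p, .h, .p, .h, .p, .p, .h, .y1, .y2, .y4, .y5, .y8, .y10, .Z7, .Z8, .X0, .X1, .X4, .X5, .X8, .X9, .X10, .X0, .Z0, .X0, .Z0]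

theorem c24 : check ((r24 ++ [Ltr.xi]).map Ltr.prog) v7 (n24.map Ltr.prog) v7 = true := by decide +kernel

end Cfsg.Agent.BabyM.CertXi0
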