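/-
Identities `ξ r v_k = n v_k'`, part 1.
Generated file (blueprints/R19/model_B_512).
-/
import Cfsg.Agent.BabyM.CertVec
set_option linter.all false

set_option autoImplicit false
set_option maxRecDepth 100000

namespace Cfsg.Agent.BabyM.CertXi1

open Cfsg.Agent.Monster.VecEngine Cfsg.Agent.Monster.VecSpace Cfsg.Agent.BabyM.Conc Cfsg.Agent.BabyM.CertVec

def r25 : List Ltr := [.h]

def n25 : List Ltr := [.p, .p, .p, .p, .p, .p, .h, .p, .p, .h, .p, .p, .h, .y2, .y3, .y6, .y7, .y8, .Z6, .Z8, .Z9, .X0, .X4, .X5, .X6, .X9, .X10, .X0, .Z0, .X0, .Z0]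

theorem c25 : check ((r25 ++ [Ltr.xi]).map Ltr.prog) v7 (n25.map Ltr.prog) v9 = true := by decide +kernel

def r26 : List Ltr := [.p, .p]

def n26 : List Ltr := [.h, .p, .p, .p, .p, .p, .p, .p, .p, .p, .p, .h, .p, .h, .y1, .y5, .Z5, .Z6, .Z7, .X4, .X7, .X10, .X0, .Z0, .X0, .Z0]

theorem c26 : check ((r26 ++ [Ltr.xi]).map Ltr.prog) v7 (n26.map Ltr.prog) v10 = true := by decide +kernel

def r27 : List Ltr := [.h, .p]

def n27 : List Ltr := [.h, .p, .h, .p, .p, .p, .p, .h, .p, .p, .h, .p, .p, .p, .h, .p, .p, .y6, .y7, .y8, .Z3, .X2, .X3, .X8, .X10]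

theorem c27 : check ((r27 ++ [Ltr.xi]).map Ltr.prog) v7 (n27.map Ltr.prog) v7 = true := by decide +kernel

def r28 : List Ltr := []

def n28 : List Ltr := [.p, .p, .p, .p, .p, .p, .h, .p, .p, .p, .p, .p, .p, .p, .p, .y6, .y9, .y10, .Z2, .Z6, .Z8, .Z10]

theorem c28 : check ((r28 ++ [Ltr.xi]).map Ltr.prog) v8 (n28.map Ltr.prog) v4 = true := by decide +kernel

def r29 : List Ltr := [.y2]

def n29 : List Ltr := [.h, .p, .p, .p, .h, .p, .p, .p, .h, .p, .p, .h, .p, .p, .p, .h, .p, .y3, .y5, .y6, .y7, .y9, .Z5, .Z9]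

theorem c29 : check ((r29 ++ [Ltr.xi]).map Ltr.prog) v8 (n29.map Ltr.prog) v8 = true := by decide +kernel

def r30 : List Ltr := [.p, .p]

def n30 : List Ltr := [.p, .h, .p, .p, .h, .p, .h, .p, .h, .p, .h, .p, .p, .p, .p, .p, .y2, .y3, .y4, .y5, .y7, .y9, .y10, .Z3, .Z5, .Z6, .Z9]

theorem c30 : check ((r30 ++ [Ltr.xi]).map Ltr.prog) v8 (n30.map Ltr.prog) v8 = true := by decide +kernel

def r31 : List Ltr := [.h, .p, .p, .p, .p, .p, .h, .p]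

def n31 : List Ltr := [.h, .p, .h, .p, .h, .p, .p, .p, .p, .h, .y1, .y2, .y4, .y8, .Z2, .Z4, .Z9]

theorem c31 : check ((r31 ++ [Ltr.xi]).map Ltr.prog) v8 (n31.map Ltr.prog) v5 = true := by decide +kernel

def r32 : List Ltr := [.h, .p, .p, .p, .p, .p, .h, .p, .y2]

def n32 : List Ltr := [.p, .h, .p, .h, .p, .p, .p, .h, .p, .p, .p, .p, .p, .p, .y3, .y4, .y5, .y7, .y10, .Z5, .Z6, .Z7, .Z8, .Z9, .Z10]

theorem c32 : check ((r32 ++ [Ltr.xi]).map Ltr.prog) v8 (n32.map Ltr.prog) v8 = true := by decide +kernel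

def r33 : List Ltr := []

def n33 : List Ltr := [.h, .p, .p, .p, .p, .p, .p, .h, .p, .p, .p, .p, .p, .h, .p, .y2, .y3, .y7, .y8, .y9, .Z7, .Z8, .Z9, .X1, .X2, .X4, .X7, .X9, .X0, .Z0, .X0, .Z0]

theorem c33 : check ((r33 ++ [Ltr.xi]).map Ltr.prog) v9 (n33.map Ltr.prog) v7 = true := by decide +kernel

def r34 : List Ltr := [.y2]

def n34 : List Ltr := [.p, .p, .h, .p, .p, .h, .p, .p, .p, .p, .p, .p, .h, .p, .p, .y4, .y5, .y10, .Z5, .Z6, .Z8, .X2, .X4, .X5, .X7, .X9, .X10]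

theorem c34 : check ((r34 ++ [Ltr.xi]).map Ltr.prog) v9 (n34.map Ltr.prog) v9 = true := by decide +kernel

def r35 : List Ltr := [.h]

def n35 : List Ltr := [.h, .p, .p, .p, .p, .h, .p, .p, .p, .p, .p, .y2, .y4, .y5, .y6, .y9, .Z1, .Z2, .Z3, .Z4, .Z6, .X0, .X1, .X2, .X3, .X8, .X9, .X0, .Z0, .X0, .Z0]

theorem c35 : check ((r35 ++ [Ltr.xi]).map Ltr.prog) v9 (n35.map Ltr.prog) v12 = true := by decide +kernel

def r36 : List Ltr := [.h, .p]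

def n36 : List Ltr := [.h, .p, .p, .p, .p, .p, .p, .p, .p, .p, .h, .p, .h, .p, .p, .y2, .y3, .y10, .Z3, .Z4, .Z6, .Z8, .Z9, .Z10, .X0, .X3, .X4, .X8, .X9, .X10, .X0, .Z0, .X0, .Z0]

theorem c36 : check ((r36 ++ [Ltr.xi]).map Ltr.prog) v9 (n36.map Ltr.prog) v10 = true := by decide +kernel

def r37 : List Ltr := []

def n37 : List Ltr := [.p, .p, .p, .p, .p, .p, .p, .h, .p, .p, .h, .p, .p, .p, .p, .p, .y2, .y5, .y7, .y9, .Z6, .Z8, .Z9, .X2, .X3, .X4, .X8]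

theorem c37 : check ((r37 ++ [Ltr.xi]).map Ltr.prog) v10 (n37.map Ltr.prog) v7 = true := by decide +kernel

def r38 : List Ltr := [.y2]

def n38 : List Ltr := [.y1, .y2, .y3, .y4, .y8, .y10, .Z0, .Z6, .Z7, .Z9, .Z10, .X0, .X1, .X3, .X4, .X5, .X6, .X8, .X9, .X10]

theorem c38 : check ((r38 ++ [Ltr.xi]).map Ltr.prog) v10 (n38.map Ltr.prog) v10 = true := by decide +kernel

def r39 : List Ltr := [.p, .p, .p]

def n39 : List Ltr := [.p, .p, .h, .p, .h, .p, .h, .p, .p, .h, .p, .h, .p, .y1, .y4, .y6, .y7, .Z1, .Z5, .Z6, .Z8, .Z10, .X0, .X6, .X7, .X10, .X0, .Z0, .X0, .Z0]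

theorem c39 : check ((r39 ++ [Ltr.xi]).map Ltr.prog) v10 (n39.map Ltr.prog) v10 = true := by decide +kernel

def r40 : List Ltr := [.h]

def n40 : List Ltr := [.p, .p, .p, .p, .p, .h, .p, .h, .p, .y2, .y4, .y7, .y9, .Z6, .X1, .X5, .X10, .X0, .Z0, .X0, .Z0]

theorem c40 : check ((r40 ++ [Ltr.xi]).map Ltr.prog) v10 (n40.map Ltr.prog) v12 = true := by decide +kernel

def r41 : List Ltr := [.h, .p, .y2]

def n41 : List Ltr := [.p, .h, .p, .p, .p, .h, .p, .p, .p, .p, .p, .h, .p, .p, .p, .h, .p, .y1, .y3, .y5, .y9, .y10, .Z2, .Z5, .Z6, .Z9, .X0, .X4, .X5, .X7]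

theorem c41 : check ((r41 ++ [Ltr.xi]).map Ltr.prog) v10 (n41.map Ltr.prog) v9 = true := by decide +kernel

def r42 : List Ltr := [.h, .p]

def n42 : List Ltr := [.p, .p, .p, .p, .p, .h, .p, .h, .p, .h, .p, .p, .p, .p, .p, .h, .y1, .y3, .y4, .Z6, .Z7, .Z9, .Z10, .X0, .X1, .X3, .X5]

theorem c42 : check ((r42 ++ [Ltr.xi]).map Ltr.prog) v10 (n42.map Ltr.prog) v10 = true := by decide +kernel

def r43 : List Ltr := []

def n43 : List Ltr := [.p, .p, .p, .p, .p, .p, .h, .p, .p, .h, .p, .p, .p, .y1, .y3, .y4, .y5, .y7, .Z5, .Z8, .X2, .X4, .X8, .X9, .X10, .X0, .Z0, .X0, .Z0]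

theorem c43 : check ((r43 ++ [Ltr.xi]).map Ltr.prog) v11 (n43.map Ltr.prog) v13 = true := by decide +kernel

def r44 : List Ltr := [.p, .p]

def n44 : List Ltr := [.h, .p, .p, .p, .p, .p, .h, .p, .p, .h, .p, .p, .h, .p, .p, .h, .y3, .y5, .y6, .y8, .y10, .Z8, .X2, .X4]

theorem c44 : check ((r44 ++ [Ltr.xi]).map Ltr.prog) v11 (n44.map Ltr.prog) v14 = true := by decide +kernel

def r45 : List Ltr := [.h, .p, .p, .p, .p, .p, .h, .p]

def n45 : List Ltr := [.p, .p, .p, .p, .p, .p, .h, .p, .p, .h, .p, .h, .p, .p, .p, .h, .p, .y5, .y9, .y10, .Z8, .Z9, .X1, .X2, .X5, .X6, .X8, .X10, .X0, .Z0, .X0, .Z0]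

theorem c45 : check ((r45 ++ [Ltr.xi]).map Ltr.prog) v11 (n45.map Ltr.prog) v11 = true := by decide +kernel

def r46 : List Ltr := []

def n46 : List Ltr := [.p, .p, .p, .p, .p, .p, .h, .p, .h, .p, .p, .p, .p, .p, .y1, .y4, .y10, .Z5, .Z7, .Z9, .Z10, .X2, .X3, .X4, .X7, .X0, .Z0, .X0, .Z0]

theorem c46 : check ((r46 ++ [Ltr.xi]).map Ltr.prog) v12 (n46.map Ltr.prog) v9 = true := by decide +kernel

def r47 : List Ltr := [.y2]

def n47 : List Ltr := [.h, .p, .p, .p, .h, .p, .p, .p, .h, .p, .p, .p, .y2, .y4, .y7, .y9, .Z1, .Z2, .Z3, .Z4, .Z6, .X0, .X3, .X4, .X6, .X10]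

theorem c47 : check ((r47 ++ [Ltr.xi]).map Ltr.prog) v12 (n47.map Ltr.prog) v12 = true := by decide +kernel

def r48 : List Ltr := [.h, .y2]

def n48 : List Ltr := [.p, .h, .p, .h, .p, .p, .h, .p, .p, .p, .p, .p, .h, .p, .h, .y1, .y3, .y7, .y8, .y9, .y10, .Z0, .Z4, .Z5, .Z6, .Z7, .Z9, .Z10, .X8, .X0, .Z0, .X0, .Z0]

theorem c48 : check ((r48 ++ [Ltr.xi]).map Ltr.prog) v12 (n48.map Ltr.prog) v12 = true := by decide +kernel

def r49 : List Ltr := [.h]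

def n49 : List Ltr := [.p, .p, .p, .p, .p, .p, .p, .h, .p, .p, .p, .p, .h, .y1, .y3, .y6, .y7, .y8, .y9, .Z5, .Z7, .Z9, .X0, .X1, .X3, .X4, .X5, .X8, .X10]

theorem c49 : check ((r49 ++ [Ltr.xi]).map Ltr.prog) v12 (n49.map Ltr.prog) v10 = true := by decide +kernel

end Cfsg.Agent.BabyM.CertXi1
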