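/-
The 74 identities `ξ r v_k = n v_k'`: one for every orbit of the known stabiliser of `v_k` on the 462 neighbours of the
standard frame. Generated file (blueprints/R19/model_B_512).
-/
import Cfsg.Agent.BabyM.CertXi0
import Cfsg.Agent.BabyM.CertXi1
import Cfsg.Agent.BabyM.CertXi2
set_option linter.all false

set_option autoImplicit false
set_option maxRecDepth 100000

namespace Cfsg.Agent.BabyM.CertXi

open Cfsg.Agent.Monster.VecEngine Cfsg.Agent.Monster.VecSpace Cfsg.Agent.BabyM.Conc Cfsg.Agent.BabyM.CertVec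

/-- The source of the identity `i`. -/
def src : ℕ → ℕ
  | 0 => 0
  | 1 => 0
  | 2 => 1
  | 3 => 1
  | 4 => 1
  | 5 => 1
  | 6 => 2
  | 7 => 2
  | 8 => 2
  | 9 => 3
  | 10 => 3
  | 11 => 4
  | 12 => 4
  | 13 => 4
  | 14 => 4
  | 15 => 4
  | 16 => 4
  | 17 => 5
  | 18 => 5
  | 19 => 5
  | 20 => 5
  | 21 => 5
  | 22 => 6
  | 23 => 7
  | 24 => 7
  | 25 => 7
  | 26 => 7
  | 27 => 7
  | 28 => 8
  | 29 => 8
  | 30 => 8
  | 31 => 8
  | 32 => 8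
  | 33 => 9
  | 34 => 9
  | 35 => 9
  | 36 => 9
  | 37 => 10
  | 38 => 10
  | 39 => 10
  | 40 => 10
  | 41 => 10
  | 42 => 10
  | 43 => 11
  | 44 => 11
  | 45 => 11
  | 46 => 12
  | 47 => 12
  | 48 => 12
  | 49 => 12
  | 50 => 13
  | 51 => 13
  | 52 => 13
  | 53 => 13
  | 54 => 13
  | 55 => 14
  | 56 => 14
  | 57 => 14
  | 58 => 14
  | 59 => 14
  | 60 => 14
  | 61 => 15
  | 62 => 15
  | 63 => 16
  | 64 => 16
  | 65 => 16
  | 66 => 16
  | 67 => 16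
  | 68 => 17
  | 69 => 17
  | 70 => 17
  | 71 => 17
  | 72 => 18
  | 73 => 18
  | _ => 0

/-- The target of the identity `i`. -/
def dst : ℕ → ℕ
  | 0 => 0
  | 1 => 1
  | 2 => 0
  | 3 => 1
  | 4 => 3
  | 5 => 1
  | 6 => 2
  | 7 => 4
  | 8 => 5
  | 9 => 1
  | 10 => 3
  | 11 => 2
  | 12 => 4
  | 13 => 4
  | 14 => 8
  | 15 => 4
  | 16 => 5
  | 17 => 2
  | 18 => 5
  | 19 => 8
  | 20 => 4
  | 21 => 5
  | 22 => 7
  | 23 => 6
  | 24 => 7
  | 25 => 9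
  | 26 => 10
  | 27 => 7
  | 28 => 4
  | 29 => 8
  | 30 => 8
  | 31 => 5
  | 32 => 8
  | 33 => 7
  | 34 => 9
  | 35 => 12
  | 36 => 10
  | 37 => 7
  | 38 => 10
  | 39 => 10
  | 40 => 12
  | 41 => 9
  | 42 => 10
  | 43 => 13
  | 44 => 14
  | 45 => 11
  | 46 => 9
  | 47 => 12
  | 48 => 12
  | 49 => 10
  | 50 => 11
  | 51 => 13
  | 52 => 14
  | 53 => 16
  | 54 => 13
  | 55 => 11
  | 56 => 14
  | 57 => 14
  | 58 => 16
  | 59 => 14
  | 60 => 13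
  | 61 => 15
  | 62 => 17
  | 63 => 13
  | 64 => 16
  | 65 => 16
  | 66 => 14
  | 67 => 16
  | 68 => 15
  | 69 => 17
  | 70 => 18
  | 71 => 17
  | 72 => 17
  | 73 => 18
  | _ => 0

/-- The neighbour `(a, b, s)` of the identity `i`, mapped to `(1, 2, 0)` by `rw_`. -/
def nbr : ℕ → ℕ × ℕ × ℕ
  | 0 => (1, 2, 0)
  | 1 => (2, 8, 0)
  | 2 => (1, 2, 0)
  | 3 => (1, 2, 1)
  | 4 => (1, 4, 0)
  | 5 => (4, 6, 0)
  | 6 => (1, 2, 0)
  | 7 => (1, 4, 0)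
  | 8 => (4, 6, 0)
  | 9 => (1, 2, 0)
  | 10 => (1, 2, 1)
  | 11 => (1, 2, 0)
  | 12 => (1, 2, 1)
  | 13 => (2, 8, 0)
  | 14 => (6, 12, 0)
  | 15 => (8, 12, 1)
  | 16 => (8, 12, 0)
  | 17 => (1, 2, 0)
  | 18 => (1, 2, 1)
  | 19 => (5, 8, 0)
  | 20 => (2, 8, 0)
  | 21 => (5, 9, 0)
  | 22 => (1, 2, 0)
  | 23 => (1, 2, 0)
  | 24 => (1, 2, 1)
  | 25 => (2, 8, 0)
  | 26 => (6, 12, 0)
  | 27 => (8, 12, 0)
  | 28 => (1, 2, 0)
  | 29 => (1, 2, 1)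
  | 30 => (6, 12, 0)
  | 31 => (6, 14, 0)
  | 32 => (6, 14, 1)
  | 33 => (1, 2, 0)
  | 34 => (1, 2, 1)
  | 35 => (2, 8, 0)
  | 36 => (8, 12, 0)
  | 37 => (1, 2, 0)
  | 38 => (1, 2, 1)
  | 39 => (3, 6, 0)
  | 40 => (2, 8, 0)
  | 41 => (8, 12, 1)
  | 42 => (8, 12, 0)
  | 43 => (1, 2, 0)
  | 44 => (6, 12, 0)
  | 45 => (6, 14, 0)
  | 46 => (1, 2, 0)
  | 47 => (1, 2, 1)
  | 48 => (2, 8, 1)
  | 49 => (2, 8, 0)
  | 50 => (1, 2, 0)
  | 51 => (1, 2, 1)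
  | 52 => (3, 6, 0)
  | 53 => (2, 8, 0)
  | 54 => (8, 12, 0)
  | 55 => (1, 2, 0)
  | 56 => (1, 2, 1)
  | 57 => (2, 8, 0)
  | 58 => (6, 12, 0)
  | 59 => (8, 12, 0)
  | 60 => (8, 12, 1)
  | 61 => (1, 2, 0)
  | 62 => (2, 8, 0)
  | 63 => (1, 2, 0)
  | 64 => (1, 2, 1)
  | 65 => (2, 8, 0)
  | 66 => (8, 12, 0)
  | 67 => (6, 12, 0)
  | 68 => (1, 2, 0)
  | 69 => (1, 2, 1)
  | 70 => (1, 4, 0)
  | 71 => (4, 6, 0)
  | 72 => (1, 2, 0)
  | 73 => (1, 2, 1)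
  | _ => (1, 2, 0)

/-- The length of the orbit of the neighbour `i`. -/
def len : ℕ → ℕ
  | 0 => 42
  | 1 => 420
  | 2 => 15
  | 3 => 15
  | 4 => 192
  | 5 => 240
  | 6 => 30
  | 7 => 192
  | 8 => 240
  | 9 => 231
  | 10 => 231
  | 11 => 1
  | 12 => 1
  | 13 => 80
  | 14 => 320
  | 15 => 30
  | 16 => 30
  | 17 => 7
  | 18 => 7
  | 19 => 224
  | 20 => 168
  | 21 => 56
  | 22 => 462
  | 23 => 1
  | 24 => 1
  | 25 => 80
  | 26 => 320
  | 27 => 60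
  | 28 => 120
  | 29 => 120
  | 30 => 192
  | 31 => 15
  | 32 => 15
  | 33 => 15
  | 34 => 15
  | 35 => 192
  | 36 => 240
  | 37 => 7
  | 38 => 7
  | 39 => 168
  | 40 => 224
  | 41 => 28
  | 42 => 28
  | 43 => 240
  | 44 => 192
  | 45 => 30
  | 46 => 21
  | 47 => 21
  | 48 => 210
  | 49 => 210
  | 50 => 7
  | 51 => 7
  | 52 => 168
  | 53 => 224
  | 54 => 56
  | 55 => 1
  | 56 => 1
  | 57 => 80
  | 58 => 320
  | 59 => 30
  | 60 => 30
  | 61 => 42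
  | 62 => 420
  | 63 => 15
  | 64 => 15
  | 65 => 192
  | 66 => 120
  | 67 => 120
  | 68 => 15
  | 69 => 15
  | 70 => 192
  | 71 => 240
  | 72 => 231
  | 73 => 231
  | _ => 0

/-- The word `r`. -/
def wr : ℕ → List Ltr
  | 0 => CertXi0.r0
  | 1 => CertXi0.r1
  | 2 => CertXi0.r2
  | 3 => CertXi0.r3
  | 4 => CertXi0.r4
  | 5 => CertXi0.r5
  | 6 => CertXi0.r6
  | 7 => CertXi0.r7
  | 8 => CertXi0.r8
  | 9 => CertXi0.r9
  | 10 => CertXi0.r10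
  | 11 => CertXi0.r11
  | 12 => CertXi0.r12
  | 13 => CertXi0.r13
  | 14 => CertXi0.r14
  | 15 => CertXi0.r15
  | 16 => CertXi0.r16
  | 17 => CertXi0.r17
  | 18 => CertXi0.r18
  | 19 => CertXi0.r19
  | 20 => CertXi0.r20
  | 21 => CertXi0.r21
  | 22 => CertXi0.r22
  | 23 => CertXi0.r23
  | 24 => CertXi0.r24
  | 25 => CertXi1.r25
  | 26 => CertXi1.r26
  | 27 => CertXi1.r27
  | 28 => CertXi1.r28
  | 29 => CertXi1.r29
  | 30 => CertXi1.r30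
  | 31 => CertXi1.r31
  | 32 => CertXi1.r32
  | 33 => CertXi1.r33
  | 34 => CertXi1.r34
  | 35 => CertXi1.r35
  | 36 => CertXi1.r36
  | 37 => CertXi1.r37
  | 38 => CertXi1.r38
  | 39 => CertXi1.r39
  | 40 => CertXi1.r40
  | 41 => CertXi1.r41
  | 42 => CertXi1.r42
  | 43 => CertXi1.r43
  | 44 => CertXi1.r44
  | 45 => CertXi1.r45
  | 46 => CertXi1.r46
  | 47 => CertXi1.r47
  | 48 => CertXi1.r48
  | 49 => CertXi1.r49
  | 50 => CertXi2.r50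
  | 51 => CertXi2.r51
  | 52 => CertXi2.r52
  | 53 => CertXi2.r53
  | 54 => CertXi2.r54
  | 55 => CertXi2.r55
  | 56 => CertXi2.r56
  | 57 => CertXi2.r57
  | 58 => CertXi2.r58
  | 59 => CertXi2.r59
  | 60 => CertXi2.r60
  | 61 => CertXi2.r61
  | 62 => CertXi2.r62
  | 63 => CertXi2.r63
  | 64 => CertXi2.r64
  | 65 => CertXi2.r65
  | 66 => CertXi2.r66
  | 67 => CertXi2.r67
  | 68 => CertXi2.r68
  | 69 => CertXi2.r69
  | 70 => CertXi2.r70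
  | 71 => CertXi2.r71
  | 72 => CertXi2.r72
  | 73 => CertXi2.r73
  | _ => []

/-- The word `n`. -/
def wn : ℕ → List Ltr
  | 0 => CertXi0.n0
  | 1 => CertXi0.n1
  | 2 => CertXi0.n2
  | 3 => CertXi0.n3
  | 4 => CertXi0.n4
  | 5 => CertXi0.n5
  | 6 => CertXi0.n6
  | 7 => CertXi0.n7
  | 8 => CertXi0.n8
  | 9 => CertXi0.n9
  | 10 => CertXi0.n10
  | 11 => CertXi0.n11
  | 12 => CertXi0.n12
  | 13 => CertXi0.n13
  | 14 => CertXi0.n14
  | 15 => CertXi0.n15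
  | 16 => CertXi0.n16
  | 17 => CertXi0.n17
  | 18 => CertXi0.n18
  | 19 => CertXi0.n19
  | 20 => CertXi0.n20
  | 21 => CertXi0.n21
  | 22 => CertXi0.n22
  | 23 => CertXi0.n23
  | 24 => CertXi0.n24
  | 25 => CertXi1.n25
  | 26 => CertXi1.n26
  | 27 => CertXi1.n27
  | 28 => CertXi1.n28
  | 29 => CertXi1.n29
  | 30 => CertXi1.n30
  | 31 => CertXi1.n31
  | 32 => CertXi1.n32
  | 33 => CertXi1.n33
  | 34 => CertXi1.n34
  | 35 => CertXi1.n35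
  | 36 => CertXi1.n36
  | 37 => CertXi1.n37
  | 38 => CertXi1.n38
  | 39 => CertXi1.n39
  | 40 => CertXi1.n40
  | 41 => CertXi1.n41
  | 42 => CertXi1.n42
  | 43 => CertXi1.n43
  | 44 => CertXi1.n44
  | 45 => CertXi1.n45
  | 46 => CertXi1.n46
  | 47 => CertXi1.n47
  | 48 => CertXi1.n48
  | 49 => CertXi1.n49
  | 50 => CertXi2.n50
  | 51 => CertXi2.n51
  | 52 => CertXi2.n52
  | 53 => CertXi2.n53
  | 54 => CertXi2.n54
  | 55 => CertXi2.n55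
  | 56 => CertXi2.n56
  | 57 => CertXi2.n57
  | 58 => CertXi2.n58
  | 59 => CertXi2.n59
  | 60 => CertXi2.n60
  | 61 => CertXi2.n61
  | 62 => CertXi2.n62
  | 63 => CertXi2.n63
  | 64 => CertXi2.n64
  | 65 => CertXi2.n65
  | 66 => CertXi2.n66
  | 67 => CertXi2.n67
  | 68 => CertXi2.n68
  | 69 => CertXi2.n69
  | 70 => CertXi2.n70
  | 71 => CertXi2.n71
  | 72 => CertXi2.n72
  | 73 => CertXi2.n73
  | _ => []

theorem c (i : ℕ) (hi : i < 74) :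
    check ((wr i ++ [Ltr.xi]).map Ltr.prog) (yv (src i)) ((wn i).map Ltr.prog) (yv (dst i)) = true := by
  interval_cases i
  · exact CertXi0.c0
  · exact CertXi0.c1
  · exact CertXi0.c2
  · exact CertXi0.c3
  · exact CertXi0.c4
  · exact CertXi0.c5
  · exact CertXi0.c6
  · exact CertXi0.c7
  · exact CertXi0.c8
  · exact CertXi0.c9
  · exact CertXi0.c10
  · exact CertXi0.c11
  · exact CertXi0.c12
  · exact CertXi0.c13
  · exact CertXi0.c14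
  · exact CertXi0.c15
  · exact CertXi0.c16
  · exact CertXi0.c17
  · exact CertXi0.c18
  · exact CertXi0.c19
  · exact CertXi0.c20
  · exact CertXi0.c21
  · exact CertXi0.c22
  · exact CertXi0.c23
  · exact CertXi0.c24
  · exact CertXi1.c25
  · exact CertXi1.c26
  · exact CertXi1.c27
  · exact CertXi1.c28
  · exact CertXi1.c29
  · exact CertXi1.c30
  · exact CertXi1.c31
  · exact CertXi1.c32
  · exact CertXi1.c33
  · exact CertXi1.c34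
  · exact CertXi1.c35
  · exact CertXi1.c36
  · exact CertXi1.c37
  · exact CertXi1.c38
  · exact CertXi1.c39
  · exact CertXi1.c40
  · exact CertXi1.c41
  · exact CertXi1.c42
  · exact CertXi1.c43
  · exact CertXi1.c44
  · exact CertXi1.c45
  · exact CertXi1.c46
  · exact CertXi1.c47
  · exact CertXi1.c48
  · exact CertXi1.c49
  · exact CertXi2.c50
  · exact CertXi2.c51
  · exact CertXi2.c52
  · exact CertXi2.c53
  · exact CertXi2.c54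
  · exact CertXi2.c55
  · exact CertXi2.c56
  · exact CertXi2.c57
  · exact CertXi2.c58
  · exact CertXi2.c59
  · exact CertXi2.c60
  · exact CertXi2.c61
  · exact CertXi2.c62
  · exact CertXi2.c63
  · exact CertXi2.c64
  · exact CertXi2.c65
  · exact CertXi2.c66
  · exact CertXi2.c67
  · exact CertXi2.c68
  · exact CertXi2.c69
  · exact CertXi2.c70
  · exact CertXi2.c71
  · exact CertXi2.c72
  · exact CertXi2.c73

theorem xi_id (i : ℕ) (hi : i < 74) :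
    W (wr i ++ [.xi]) (vecU ℚ U (yv (src i))) = W (wn i) (vecU ℚ U (yv (dst i))) :=
  W_eq_of_check (c i hi)

theorem isN_wr (i : ℕ) (hi : i < 74) : (wr i).all isN = true := by interval_cases i <;> rfl

theorem isN_wn (i : ℕ) (hi : i < 74) : (wn i).all isN = true := by interval_cases i <;> rfl

end Cfsg.Agent.BabyM.CertXi
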