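import Cfsg.Agent.Leech.TransPair
import Cfsg.Agent.Leech.FrameStab
import Cfsg.Agent.SporadicStructure.StdCross
set_option linter.all false

/-!
# Generation of the stabiliser of a minimal vector in `Co0`

`λ₀ = v0 p q = (4, -4, 0^22)` (coordinates `p`, `q`), `w0 = (4, 4, 0^22)`.  The frames fixed by
`λ₀` are the minimal vectors orthogonal to `λ₀`, up to sign.  A subgroup `H` of `Co0` containing
the sign changes on the code words avoiding `p, q` and, for every tetrad `{p, q, k, l}`, Conway's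
map, is transitive on the minimal vectors orthogonal to `λ₀`.  If `H` contains in addition the
permutations in `M24` fixing `p` and `q`, then `H` contains the stabiliser of `λ₀`.
-/

set_option autoImplicit false

namespace Cfsg.Agent.BabyM.Co2Gen

open Cfsg Cfsg.Agent.Leech.Code Cfsg.Agent.Leech.Basic Cfsg.Agent.Leech.Co0Elts
  Cfsg.Agent.Leech.Xi Cfsg.Agent.Leech.Min Cfsg.Agent.Leech.Trans Cfsg.Agent.Leech.TransPair

/-- `x` can be moved to `y` by an element of `H`. -/
def R (H : Subgroup Co0) (x y : leechLattice) : Prop := ∃ g ∈ H, g • x = y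

variable {H : Subgroup Co0}

theorem R.refl (x : leechLattice) : R H x x := ⟨1, H.one_mem, one_smul _ _⟩

theorem R.symm {x y : leechLattice} (h : R H x y) : R H y x := by
  obtain ⟨g, hg, rfl⟩ := h
  exact ⟨g⁻¹, H.inv_mem hg, inv_smul_smul g x⟩

theorem R.trans {x y z : leechLattice} (h : R H x y) (h' : R H y z) : R H x z := by
  obtain ⟨g, hg, rfl⟩ := h
  obtain ⟨g', hg', rfl⟩ := h'
  exact ⟨g' * g, H.mul_mem hg' hg, mul_smul _ _ _⟩

theorem R.sqNorm_eq {x y : leechLattice} (h : R H x y) :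
    sqNorm (y : GolayPt → ℤ) = sqNorm (x : GolayPt → ℤ) := by
  obtain ⟨g, -, rfl⟩ := h
  exact sqNorm_smul g x

/-- The subgroup `H` fixes `v0 p q` and contains enough sign changes and enough of Conway's
maps. -/
structure Gen (p q : GolayPt) (hpq : p ≠ q) (H : Subgroup Co0) : Prop where
  fix : ∀ g ∈ H, g • v0 p q hpq = v0 p q hpq
  sgn_mem : ∀ (D : Finset GolayPt) (hD : D ∈ Words), p ∉ D → q ∉ D → sgn D hD ∈ H
  xi_mem : ∀ k l : GolayPt, k ≠ l → p ≠ k → p ≠ l → q ≠ k → q ≠ l → ∃ g ∈ H,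
    (∀ v : leechLattice, ∀ i ∈ ({p, q, k, l} : Finset GolayPt),
      ((g • v : leechLattice) : GolayPt → ℤ) i =
      (v : GolayPt → ℤ) i - (∑ j ∈ ({p, q, k, l} : Finset GolayPt), (v : GolayPt → ℤ) j) / 2) ∧
    (∀ v : leechLattice, (∀ i, i ∉ ({p, q, k, l} : Finset GolayPt) → (v : GolayPt → ℤ) i = 0) →
      ∀ i, i ∉ ({p, q, k, l} : Finset GolayPt) → ((g • v : leechLattice) : GolayPt → ℤ) i = 0)

section

variable {p q : GolayPt} {hpq : p ≠ q}

theorem R.dot_eq (hH : Gen p q hpq H) {x y : leechLattice} (h : R H x y) :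
    (y : GolayPt → ℤ) p - (y : GolayPt → ℤ) q = (x : GolayPt → ℤ) p - (x : GolayPt → ℤ) q := by
  obtain ⟨g, hg, rfl⟩ := h
  have h1 := dotInt_smul g (v0 p q hpq) x
  rw [hH.fix g hg, dot_v0, dot_v0] at h1
  omega

theorem R_xi (hH : Gen p q hpq H) (x : leechLattice) {k l : GolayPt} (hkl : k ≠ l) (hpk : p ≠ k)
    (hpl : p ≠ l) (hqk : q ≠ k) (hql : q ≠ l) :
    ∃ y : leechLattice, R H x y ∧ (∀ i ∈ ({p, q, k, l} : Finset GolayPt), (y : GolayPt → ℤ) i =
      (x : GolayPt → ℤ) i - ((x : GolayPt → ℤ) p + (x : GolayPt → ℤ) q + (x : GolayPt → ℤ) k +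
        (x : GolayPt → ℤ) l) / 2) ∧
      ((∀ i, i ∉ ({p, q, k, l} : Finset GolayPt) → (x : GolayPt → ℤ) i = 0) →
        ∀ i, i ∉ ({p, q, k, l} : Finset GolayPt) → (y : GolayPt → ℤ) i = 0) := by
  obtain ⟨g, hg, h1, h2⟩ := hH.xi_mem k l hkl hpk hpl hqk hql
  refine ⟨g • x, ⟨g, hg, rfl⟩, fun i hi => ?_, h2 x⟩
  rw [h1 x i hi, sum_four hpq hpk hpl hqk hql hkl]

/-- Sign of one coordinate outside `p, q` can be flipped while fixing `p`, `q` and one more
coordinate. -/
theorem R_flip (hH : Gen p q hpq H) (x : leechLattice) (k l : GolayPt) (hkl : k ≠ l) (hpk : p ≠ k)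
    (hqk : q ≠ k) : ∃ y : leechLattice, R H x y ∧
      (y : GolayPt → ℤ) k = -(x : GolayPt → ℤ) k ∧ (y : GolayPt → ℤ) l = (x : GolayPt → ℤ) l ∧
      (y : GolayPt → ℤ) p = (x : GolayPt → ℤ) p ∧ (y : GolayPt → ℤ) q = (x : GolayPt → ℤ) q ∧
      ∀ i, (y : GolayPt → ℤ) i = (x : GolayPt → ℤ) i ∨ (y : GolayPt → ℤ) i = -(x : GolayPt → ℤ) i := by
  obtain ⟨D, hD, hkD, hDs⟩ := exists_word k {p, q, l} (Finset.card_le_three.trans (by decide))
    (by
      simp only [Finset.mem_insert, Finset.mem_singleton, not_or]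
      exact ⟨Ne.symm hpk, Ne.symm hqk, hkl⟩)
  have hp : p ∉ D := hDs p (by simp)
  have hq : q ∉ D := hDs q (by simp)
  have hl : l ∉ D := hDs l (by simp)
  refine ⟨sgn D hD • x, ⟨sgn D hD, hH.sgn_mem D hD hp hq, rfl⟩, ?_, ?_, ?_, ?_, fun i => ?_⟩
  · rw [sgn_coe, sgnMap_apply, if_pos hkD]
  · rw [sgn_coe, sgnMap_apply, if_neg hl]
  · rw [sgn_coe, sgnMap_apply, if_neg hp]
  · rw [sgn_coe, sgnMap_apply, if_neg hq]
  · rw [sgn_coe, sgnMap_apply]; split_ifs
    · exact Or.inr rfl
    · exact Or.inl rfl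

theorem exists_two (p q : GolayPt) : ∃ k l : GolayPt, k ≠ l ∧ p ≠ k ∧ p ≠ l ∧ q ≠ k ∧ q ≠ l := by
  obtain ⟨k, hk⟩ := exists_notMem {p, q} (lt_of_le_of_lt Finset.card_le_two (by decide))
  obtain ⟨l, hl⟩ := exists_notMem {p, q, k} (lt_of_le_of_lt Finset.card_le_three (by decide))
  simp only [Finset.mem_insert, Finset.mem_singleton, not_or] at hk hl
  exact ⟨k, l, Ne.symm hl.2.2, Ne.symm hk.1, Ne.symm hl.1, Ne.symm hk.2, Ne.symm hl.2.1⟩

/-- Even vectors from odd ones. -/
theorem exists_even (hH : Gen p q hpq H) (x : leechLattice)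
    (hx : ∀ i, (x : GolayPt → ℤ) i % 2 = 1) :
    ∃ y : leechLattice, R H x y ∧ (y : GolayPt → ℤ) p % 2 = 0 := by
  obtain ⟨k, l, hkl, hpk, hpl, hqk, hql⟩ := exists_two p q
  obtain ⟨x', hE, hs', hodd'⟩ : ∃ x' : leechLattice, R H x x' ∧
      ((x' : GolayPt → ℤ) p + (x' : GolayPt → ℤ) q + (x' : GolayPt → ℤ) k +
        (x' : GolayPt → ℤ) l) % 4 = 2 ∧ (x' : GolayPt → ℤ) p % 2 = 1 := by
    by_cases h4 : ((x : GolayPt → ℤ) p + (x : GolayPt → ℤ) q + (x : GolayPt → ℤ) k +
        (x : GolayPt → ℤ) l) % 4 = 2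
    · exact ⟨x, R.refl _, h4, hx p⟩
    · obtain ⟨y, hE, hk, hl, hp, hq, -⟩ := R_flip hH x k l hkl hpk hqk
      refine ⟨y, hE, ?_, ?_⟩
      · rw [hk, hl, hp, hq]
        have h1 := hx p
        have h2 := hx q
        have h3 := hx k
        have h4 := hx l
        omega
      · rw [hp]; exact hx p
  obtain ⟨y, hE', hy, -⟩ := R_xi hH x' hkl hpk hpl hqk hql
  refine ⟨y, hE.trans hE', ?_⟩
  rw [hy p (by simp)]
  omega

/-- Type 2 vectors with support through `p` and `q`. -/
theorem type4_of_mem (hH : Gen p q hpq H) (x : leechLattice)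
    (hx : sqNorm (x : GolayPt → ℤ) = 32) (hd : (x : GolayPt → ℤ) p = (x : GolayPt → ℤ) q)
    {A : Finset GolayPt} (hA : A ∈ octads)
    (h2 : ∀ i ∈ A, (x : GolayPt → ℤ) i = 2 ∨ (x : GolayPt → ℤ) i = -2) (hpA : p ∈ A) :
    ∃ y : leechLattice, R H x y ∧ Type4 (y : GolayPt → ℤ) := by
  have h8 : A.card = 8 := hA.2
  obtain ⟨k, hk, l, hl, hkl⟩ : ∃ k ∈ (A.erase p).erase q, ∃ l ∈ (A.erase p).erase q, k ≠ l := by
    refine Finset.one_lt_card.1 ?_
    have h1 : (A.erase p).card = 7 := by rw [Finset.card_erase_of_mem hpA, h8]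
    have h2 : (A.erase p).card - 1 ≤ ((A.erase p).erase q).card := Finset.pred_card_le_card_erase
    omega
  rw [Finset.mem_erase, Finset.mem_erase] at hk hl
  have hpk := hk.2.1.symm
  have hqk := hk.1.symm
  have hpl := hl.2.1.symm
  have hql := hl.1.symm
  obtain ⟨x', hE, hlk, hk2, hp', hq'⟩ : ∃ x' : leechLattice, R H x x' ∧
      (x' : GolayPt → ℤ) l = -(x' : GolayPt → ℤ) k ∧
      ((x' : GolayPt → ℤ) k = 2 ∨ (x' : GolayPt → ℤ) k = -2) ∧
      (x' : GolayPt → ℤ) p = (x : GolayPt → ℤ) p ∧ (x' : GolayPt → ℤ) q = (x : GolayPt → ℤ) q := by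
    by_cases h : (x : GolayPt → ℤ) l = -(x : GolayPt → ℤ) k
    · exact ⟨x, R.refl _, h, h2 k hk.2.2, rfl, rfl⟩
    · obtain ⟨y, hE, hk', hl', hp', hq', -⟩ := R_flip hH x k l hkl hpk hqk
      refine ⟨y, hE, ?_, ?_, hp', hq'⟩
      · rw [hk', hl']
        rcases h2 k hk.2.2 with h' | h' <;> rcases h2 l hl.2.2 with h'' | h'' <;>
          rw [h', h''] at h ⊢ <;> omega
      · rw [hk']
        rcases h2 k hk.2.2 with h' | h' <;> rw [h'] <;> norm_num
  obtain ⟨y, hE', hy, -⟩ := R_xi hH x' hkl hpk hpl hqk hql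
  have hE2 := hE.trans hE'
  refine ⟨y, hE2, ?_⟩
  have hn : sqNorm (y : GolayPt → ℤ) = 32 := by rw [hE2.sqNorm_eq, hx]
  have hyk := hy k (by simp)
  have hyl := hy l (by simp)
  rw [hlk, hp', hq', ← hd] at hyk hyl
  have : ((y : GolayPt → ℤ) k = 4 ∨ (y : GolayPt → ℤ) k = -4) ∨
      ((y : GolayPt → ℤ) l = 4 ∨ (y : GolayPt → ℤ) l = -4) := by
    rcases h2 p hpA with h' | h' <;> rcases hk2 with h'' | h'' <;> rw [h', h''] at hyk hyl <;> omega
  rcases this with h | h
  · exact type4_of_coord y.2 hn h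
  · exact type4_of_coord y.2 hn h

theorem exists_type4_H (hH : Gen p q hpq H) (x : leechLattice)
    (hx : sqNorm (x : GolayPt → ℤ) = 32) (hd : (x : GolayPt → ℤ) p = (x : GolayPt → ℤ) q) :
    ∃ y : leechLattice, R H x y ∧ Type4 (y : GolayPt → ℤ) := by
  have heven : ∀ x : leechLattice, sqNorm (x : GolayPt → ℤ) = 32 →
      (x : GolayPt → ℤ) p = (x : GolayPt → ℤ) q → (∃ i, (x : GolayPt → ℤ) i % 2 = 0) →
      ∃ y : leechLattice, R H x y ∧ Type4 (y : GolayPt → ℤ) := by
    intro x hx hd ⟨i, hi⟩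
    rcases type2_or_type4_of_coord x.2 hx hi with h | h
    · exact ⟨x, R.refl _, h⟩
    obtain ⟨A, hA, h2, h0, -⟩ := h
    have h8 : A.card = 8 := hA.2
    by_cases hpA : p ∈ A
    · exact type4_of_mem hH x hx hd hA h2 hpA
    · have hqA : q ∉ A := by
        intro hq
        have h1 := h0 p hpA
        rcases h2 q hq with h | h <;> omega
      obtain ⟨k, hk, l, hl, hkl, hlk⟩ := exists_eq_pair (x := (x : GolayPt → ℤ)) (B := A)
        (by omega) h2
      have hpk : p ≠ k := fun h => hpA (h ▸ hk)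
      have hpl : p ≠ l := fun h => hpA (h ▸ hl)
      have hqk : q ≠ k := fun h => hqA (h ▸ hk)
      have hql : q ≠ l := fun h => hqA (h ▸ hl)
      obtain ⟨y, hE, hy, -⟩ := R_xi hH x hkl hpk hpl hqk hql
      have hn : sqNorm (y : GolayPt → ℤ) = 32 := by rw [hE.sqNorm_eq, hx]
      have hyp := hy p (by simp)
      have hyq := hy q (by simp)
      rw [hlk, h0 p hpA, h0 q hqA] at hyp hyq
      have hyp2 : (y : GolayPt → ℤ) p = 2 ∨ (y : GolayPt → ℤ) p = -2 := by
        rcases h2 k hk with h | h <;> rw [h] at hyp <;> omega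
      have hypq : (y : GolayPt → ℤ) p = (y : GolayPt → ℤ) q := by rw [hyp, hyq]
      rcases type2_or_type4_of_coord y.2 hn (i := p) (by omega) with h | h
      · exact ⟨y, hE, h⟩
      obtain ⟨B, hB, h2', h0', -⟩ := h
      have hpB : p ∈ B := by
        by_contra h; have := h0' p h; omega
      obtain ⟨z, hE', hz⟩ := type4_of_mem hH y hn hypq hB h2' hpB
      exact ⟨z, hE.trans hE', hz⟩
  by_cases hi : ∃ i, (x : GolayPt → ℤ) i % 2 = 0
  · exact heven x hx hd hi
  push Not at hi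
  obtain ⟨y, hE, hy⟩ := exists_even hH x fun i => by have := hi i; omega
  have h1 := hE.dot_eq hH
  obtain ⟨z, hE', hz⟩ := heven y (by rw [hE.sqNorm_eq, hx]) (by omega) ⟨p, hy⟩
  exact ⟨z, hE.trans hE', hz⟩

/-- From `(4, 4)` on `k, l` to `-w0`. -/
theorem R_lv_w0 (hH : Gen p q hpq H) {k l : GolayPt} (hkl : k ≠ l) (hpk : p ≠ k)
    (hpl : p ≠ l) (hqk : q ≠ k) (hql : q ≠ l) :
    R H (lv k l 4 4 hkl four_or four_or) (lv p q (-4) (-4) hpq neg_four_or neg_four_or) := by
  obtain ⟨y, hE, hy1, hy2⟩ := R_xi hH (lv k l 4 4 hkl four_or four_or) hkl hpk hpl hqk hql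
  rw [lv_coe, two_left, two_right hkl, two_other hpk hpl, two_other hqk hql] at hy1
  have : y = lv p q (-4) (-4) hpq neg_four_or neg_four_or := by
    apply Subtype.ext
    funext i
    rw [lv_coe]
    by_cases hip : i = p
    · subst hip
      rw [hy1 i (by simp), two_left, two_other hpk hpl]; rfl
    · by_cases hiq : i = q
      · subst hiq
        rw [hy1 i (by simp), two_right hpq, two_other hqk hql]; rfl
      · rw [two_other hip hiq]
        by_cases hik : i = k
        · subst hik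
          rw [hy1 i (by simp), two_left]; rfl
        · by_cases hil : i = l
          · subst hil
            rw [hy1 i (by simp), two_right hkl]; rfl
          · refine hy2 (fun j hj => ?_) i (by simp [hip, hiq, hik, hil])
            rw [lv_coe, two_other]
            · rintro rfl; exact hj (by simp)
            · rintro rfl; exact hj (by simp)
  rwa [this] at hE

/-- Sign changes on type 4 vectors off `p, q`. -/
theorem R_lv_flip (hH : Gen p q hpq H) {k l : GolayPt} (hkl : k ≠ l) (hpk : p ≠ k)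
    (hqk : q ≠ k) {b : ℤ} (hb : b = 4 ∨ b = -4) :
    R H (lv k l (-4) b hkl neg_four_or hb) (lv k l 4 b hkl four_or hb) := by
  obtain ⟨y, hE, hk, hl, hp, hq, h⟩ := R_flip hH (lv k l (-4) b hkl neg_four_or hb) k l hkl hpk hqk
  have : y = lv k l 4 b hkl four_or hb := by
    apply Subtype.ext
    funext i
    rw [lv_coe]
    by_cases hik : i = k
    · subst hik; rw [hk, lv_coe, two_left, two_left]; rfl
    · by_cases hil : i = l
      · subst hil; rw [hl, lv_coe, two_right hkl, two_right hkl]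
      · rw [two_other hik hil]
        have h1 := h i
        rw [lv_coe, two_other hik hil] at h1
        rcases h1 with h1 | h1 <;> rw [h1]; rfl
  rwa [this] at hE

theorem R_lv_pos (hH : Gen p q hpq H) {k l : GolayPt} (hkl : k ≠ l) (hpk : p ≠ k)
    (hpl : p ≠ l) (hqk : q ≠ k) (hql : q ≠ l) {a b : ℤ} (ha : a = 4 ∨ a = -4)
    (hb : b = 4 ∨ b = -4) :
    R H (lv k l a b hkl ha hb) (lv k l 4 4 hkl four_or four_or) := by
  have h1 : R H (lv k l a b hkl ha hb) (lv k l 4 b hkl four_or hb) := by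
    rcases ha with rfl | rfl
    · exact R.refl _
    · exact R_lv_flip hH hkl hpk hqk hb
  have h2 : R H (lv k l 4 b hkl four_or hb) (lv k l 4 4 hkl four_or four_or) := by
    rcases hb with rfl | rfl
    · exact R.refl _
    · have h3 := R_lv_flip hH hkl.symm hpl hql (b := 4) four_or
      have e1 : lv l k (-4) 4 hkl.symm neg_four_or four_or = lv k l 4 (-4) hkl four_or neg_four_or :=
        Subtype.ext (two_swap hkl.symm _ _)
      have e2 : lv l k 4 4 hkl.symm four_or four_or = lv k l 4 4 hkl four_or four_or :=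
        Subtype.ext (two_swap hkl.symm _ _)
      rwa [e1, e2] at h3
  exact h1.trans h2

/-- The base vector `w0 = 4 e_p + 4 e_q`. -/
def w0 (p q : GolayPt) (h : p ≠ q) : leechLattice := lv p q 4 4 h four_or four_or

theorem neg_lv (hpq : p ≠ q) : lv p q (-4) (-4) hpq neg_four_or neg_four_or = -w0 p q hpq := by
  apply Subtype.ext
  funext i
  show two p q (-4) (-4) i = -(two p q 4 4 i)
  unfold two
  split_ifs <;> rfl

theorem R_neg {x y : leechLattice} (h : R H x y) : R H (-x) (-y) := by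
  obtain ⟨g, hg, rfl⟩ := h
  exact ⟨g, hg, smul_neg_co0 g x⟩

theorem R_w0_neg (hH : Gen p q hpq H) : R H (-w0 p q hpq) (w0 p q hpq) := by
  obtain ⟨k, l, hkl, hpk, hpl, hqk, hql⟩ := exists_two p q
  have h1 := R_lv_w0 hH hkl hpk hpl hqk hql
  rw [neg_lv] at h1
  have h2 := R_neg h1
  rw [neg_neg] at h2
  have h3 : -lv k l 4 4 hkl four_or four_or = lv k l (-4) (-4) hkl neg_four_or neg_four_or := by
    apply Subtype.ext
    funext i
    show -(two k l 4 4 i) = two k l (-4) (-4) i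
    unfold two
    split_ifs <;> rfl
  rw [h3] at h2
  exact h1.symm.trans ((R_lv_pos hH hkl hpk hpl hqk hql neg_four_or neg_four_or).symm.trans h2)

/-- `H` is transitive on the minimal vectors orthogonal to `λ₀`. -/
theorem R_w0 (hH : Gen p q hpq H) (x : leechLattice)
    (hx : sqNorm (x : GolayPt → ℤ) = 32) (hd : (x : GolayPt → ℤ) p = (x : GolayPt → ℤ) q) :
    R H x (w0 p q hpq) := by
  obtain ⟨y, hE, hy⟩ := exists_type4_H hH x hx hd
  have h1 := hE.dot_eq hH
  have hd' : (y : GolayPt → ℤ) p = (y : GolayPt → ℤ) q := by omega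
  refine hE.trans ?_
  obtain ⟨k, l, hkl, a, b, ha, hb, e⟩ := eq_two_of_type4 hy
  by_cases hk : k = p ∨ k = q ∨ l = p ∨ l = q
  · have hyp : (y : GolayPt → ℤ) p ≠ 0 := by
      rcases hk with rfl | rfl | rfl | rfl
      · rw [e, two_left]; rcases ha with rfl | rfl <;> norm_num
      · rw [hd', e, two_left]; rcases ha with rfl | rfl <;> norm_num
      · rw [e, two_right hkl]; rcases hb with rfl | rfl <;> norm_num
      · rw [hd', e, two_right hkl]; rcases hb with rfl | rfl <;> norm_num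
    have hyq : (y : GolayPt → ℤ) q ≠ 0 := by rw [← hd']; exact hyp
    have hpkl : p = k ∨ p = l := by
      by_contra h
      push Not at h
      exact hyp (by rw [e, two_other h.1 h.2])
    have hqkl : q = k ∨ q = l := by
      by_contra h
      push Not at h
      exact hyq (by rw [e, two_other h.1 h.2])
    have h4 : (y : GolayPt → ℤ) p = 4 ∨ (y : GolayPt → ℤ) p = -4 := by
      rcases hpkl with rfl | rfl
      · rw [e, two_left]; exact ha
      · rw [e, two_right hkl]; exact hb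
    have h0 : ∀ i, i ≠ p → i ≠ q → (y : GolayPt → ℤ) i = 0 := by
      intro i hip hiq
      rw [e, two_other]
      · rintro rfl
        rcases hpkl with rfl | rfl
        · exact hip rfl
        · rcases hqkl with rfl | rfl
          · exact hiq rfl
          · exact hpq rfl
      · rintro rfl
        rcases hpkl with rfl | rfl
        · rcases hqkl with rfl | rfl
          · exact hpq rfl
          · exact hiq rfl
        · exact hip rfl
    rcases h4 with h4 | h4
    · have : y = w0 p q hpq := by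
        apply Subtype.ext
        funext i
        show _ = two p q 4 4 i
        by_cases hip : i = p
        · subst hip; rw [two_left, h4]
        · by_cases hiq : i = q
          · subst hiq; rw [two_right hpq, ← hd', h4]
          · rw [two_other hip hiq, h0 i hip hiq]
      rw [this]; exact R.refl _
    · have : y = -w0 p q hpq := by
        rw [← neg_lv]
        apply Subtype.ext
        funext i
        show _ = two p q (-4) (-4) i
        by_cases hip : i = p
        · subst hip; rw [two_left, h4]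
        · by_cases hiq : i = q
          · subst hiq; rw [two_right hpq, ← hd', h4]
          · rw [two_other hip hiq, h0 i hip hiq]
      rw [this]; exact R_w0_neg hH
  · push Not at hk
    have : y = lv k l a b hkl ha hb := Subtype.ext e
    rw [this]
    have h3 := R_lv_w0 hH hkl (Ne.symm hk.1) (Ne.symm hk.2.2.1) (Ne.symm hk.2.1) (Ne.symm hk.2.2.2)
    rw [neg_lv] at h3
    exact ((R_lv_pos hH hkl (Ne.symm hk.1) (Ne.symm hk.2.2.1) (Ne.symm hk.2.1)
      (Ne.symm hk.2.2.2) ha hb).trans h3).trans (R_w0_neg hH)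

/-! ### The stabiliser of `λ₀` -/

open Cfsg.Agent.Leech.FrameAux (e8 coe_e8 co0_ext)

theorem e8_left (hpq : p ≠ q) : e8 p = v0 p q hpq + w0 p q hpq := by
  apply Subtype.ext
  funext i
  show (e8 p : GolayPt → ℤ) i = two p q 4 (-4) i + two p q 4 4 i
  rw [coe_e8, Pi.single_apply]
  unfold two
  split_ifs <;> rfl

theorem e8_right (hpq : p ≠ q) : e8 q = w0 p q hpq - v0 p q hpq := by
  apply Subtype.ext
  funext i
  show (e8 q : GolayPt → ℤ) i = two p q 4 4 i - two p q 4 (-4) i
  rw [coe_e8, Pi.single_apply]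
  unfold two
  split_ifs with h1 h2 h3
  · exact absurd (h2.symm.trans h1) hpq
  · rfl
  · rfl
  · rfl

theorem smul_sub_co0 (g : Co0) (v w : leechLattice) : g • (v - w) = g • v - g • w := by
  rw [sub_eq_add_neg, sub_eq_add_neg, smul_add_co0, smul_neg_co0]

/-- An element of `Co0` fixing the two base vectors is monomial, and fixes `p` and `q`. -/
theorem exists_monomial_of_fix (g : Co0) (hv : g • v0 p q hpq = v0 p q hpq)
    (hw : g • w0 p q hpq = w0 p q hpq) :
    ∃ (σ : Equiv.Perm GolayPt) (hσ : σ ∈ M24) (c : Finset GolayPt) (hc : c ∈ Words),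
      σ p = p ∧ σ q = q ∧ p ∉ c ∧ q ∉ c ∧ g = sgn c hc * perm σ hσ := by
  have hp : g • e8 p = e8 p := by rw [e8_left hpq, smul_add_co0, hv, hw]
  have hq : g • e8 q = e8 q := by rw [e8_right hpq, smul_sub_co0, hv, hw]
  obtain ⟨τ, s, hs, -, -, hJ, -⟩ := Cfsg.Agent.Leech.FrameStab.exists_signed_perm g p hp
  have hcross : SporadicStructure.StdCross.PreservesCross g := by
    rintro v ⟨i, t, ht, hv'⟩
    have hv'' : v = e8 i ∨ v = -e8 i := by
      rcases ht with rfl | rfl
      · left; exact Subtype.ext hv'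
      · right
        apply Subtype.ext
        rw [hv']
        show _ = -(e8 i : GolayPt → ℤ)
        rw [coe_e8, ← Pi.single_neg]
    rcases hv'' with h | h
    · rw [h, hJ i]
      refine ⟨τ i, 8 * s i, ?_, rfl⟩
      rcases hs i with h' | h' <;> rw [h'] <;> norm_num
    · rw [h, smul_neg_co0]
      refine ⟨τ i, -(8 * s i), ?_, ?_⟩
      · rcases hs i with h' | h' <;> rw [h'] <;> norm_num
      · show -((g • e8 i : leechLattice) : GolayPt → ℤ) = _
        rw [hJ i, ← Pi.single_neg]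
  obtain ⟨σ, hσ, c, hc, h⟩ := SporadicStructure.StdCross.exists_signedPerm g hcross
  have key : ∀ r : GolayPt, g • e8 r = e8 r → σ r = r ∧ r ∉ c := by
    intro r hr
    have h1 := h (e8 r)
    rw [hr] at h1
    have h2 := congrFun h1 r
    have h3 : (e8 r : GolayPt → ℤ) r = 8 := by rw [coe_e8, Pi.single_eq_same]
    unfold signedPerm at h2
    rw [h3] at h2
    have h4 : (e8 r : GolayPt → ℤ) (σ.symm r) ≠ 0 := by
      intro h0
      rw [h0] at h2
      split_ifs at h2 <;> exact absurd h2 (by norm_num)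
    have h5 : σ.symm r = r := by
      by_contra h5
      exact h4 (by rw [coe_e8, Pi.single_eq_of_ne h5])
    refine ⟨?_, fun hrc => ?_⟩
    · rw [Equiv.symm_apply_eq] at h5; exact h5.symm
    · rw [if_pos hrc, h5, h3] at h2; exact absurd h2 (by norm_num)
  obtain ⟨h1, h2⟩ := key p hp
  obtain ⟨h3, h4⟩ := key q hq
  refine ⟨σ, hσ, c, hc, h1, h3, h2, h4, co0_ext fun v => ?_⟩
  rw [h v, mul_smul, sgn_coe, perm_coe]
  rfl

theorem stab_le (hH : Gen p q hpq H)
    (hperm : ∀ (σ : Equiv.Perm GolayPt) (hσ : σ ∈ M24), σ p = p → σ q = q → perm σ hσ ∈ H) :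
    MulAction.stabilizer Co0 (v0 p q hpq) ≤ H := by
  intro g hg
  rw [MulAction.mem_stabilizer_iff] at hg
  have hn : sqNorm ((g • w0 p q hpq : leechLattice) : GolayPt → ℤ) = 32 := by
    rw [sqNorm_smul]; exact sqNorm_lv _ _ _ _ _ _ _
  have hd : ((g • w0 p q hpq : leechLattice) : GolayPt → ℤ) p =
      ((g • w0 p q hpq : leechLattice) : GolayPt → ℤ) q := by
    have h1 := dotInt_smul g (v0 p q hpq) (w0 p q hpq)
    rw [hg, dot_v0, dot_v0] at h1
    have h2 : (w0 p q hpq : GolayPt → ℤ) p = 4 := two_left _ _ _ _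
    have h3 : (w0 p q hpq : GolayPt → ℤ) q = 4 := two_right hpq _ _
    rw [h2, h3] at h1
    omega
  obtain ⟨h, hh, hw⟩ := R_w0 hH _ hn hd
  obtain ⟨σ, hσ, c, hc, hσp, hσq, hpc, hqc, e⟩ := exists_monomial_of_fix (hpq := hpq) (h * g)
    (by rw [mul_smul, hg, hH.fix h hh]) (by rw [mul_smul, hw])
  have h1 : h * g ∈ H := by
    rw [e]
    exact H.mul_mem (hH.sgn_mem c hc hpc hqc) (hperm σ hσ hσp hσq)
  have h2 := H.mul_mem (H.inv_mem hh) h1
  rwa [inv_mul_cancel_left] at h2

/-- `H` is the stabiliser of `λ₀`. -/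
theorem eq_stab (hH : Gen p q hpq H)
    (hperm : ∀ (σ : Equiv.Perm GolayPt) (hσ : σ ∈ M24), σ p = p → σ q = q → perm σ hσ ∈ H) :
    H = MulAction.stabilizer Co0 (v0 p q hpq) :=
  le_antisymm (fun g hg => hH.fix g hg) (stab_le hH hperm)

end

end Cfsg.Agent.BabyM.Co2Gen
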