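import Cfsg.Agent.BabyM.Co2GenStd
set_option linter.all false

/-!
# The frame stabiliser and the 462 neighbours of the standard frame

`NN` is the stabiliser in `Co0` of `λ₀ = (4, -4, 0^22)` and of the pair `± w0`,
`w0 = (4, 4, 0^22)`; it is generated by ten sign changes, `p` and `-h`.  It acts on the `462` pairs
`± (4 e_a ± 4 e_b)`, `a, b` among the `22` points `1, …, 22`, numbered
`2 * rank (a, b) + s`, `s = 0` for `4 e_a + 4 e_b`, `s = 1` for `4 e_a - 4 e_b`.  The point `0`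
is the image of the pair `± w0` under `ξ`, its stabiliser is `NN ∩ ξ⁻¹ NN ξ`.
-/

set_option autoImplicit false

namespace Cfsg.Agent.BabyM.NbAct

open Cfsg Cfsg.Agent.Leech.Code Cfsg.Agent.Leech.Basic Cfsg.Agent.Leech.Co0Elts
  Cfsg.Agent.Leech.Xi Cfsg.Agent.Leech.Min Cfsg.Agent.Leech.Trans Cfsg.Agent.Leech.TransPair
  Cfsg.Agent.BabyM.Co2Gen Cfsg.Agent.BabyM.Co2GenStd Cfsg.Agent.SporadicA

open scoped Pointwise

/-! ### Tables -/

/-- entry `i` of a table packed with 9 bits per entry -/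
def look (t i : ℕ) : ℕ := (t >>> (9 * i)) % 512

/-- entry `i` of a table packed with 5 bits per entry -/
def look5 (t i : ℕ) : ℕ := (t >>> (5 * i)) % 32

/-- first points of the neighbours -/
def tA : ℕ :=
  0x2b5a52949ce739ce5294a5294a318c6318c6318421084210842107bdef7bdef7bdef7bdce739ce739ce739ce739ad6b5ad6b5ad6b5ad6b5ad6318c6318c6318c6318c6318c5ad6b5ad6b5ad6b5ad6b5ad6b5ad4a5294a5294a5294a5294a5294a529294a5294a5294a5294a5294a5294a5294210842108421084210842108421084210839ce739ce739ce739ce739ce739ce739ce739cc6318c6318c6318c6318c6318c6318c6318c6318a5294a5294a5294a5294a5294a5294a5294a5294a521084210842108421084210842108421084210842108418c6318c6318c6318c6318c6318c6318c6318c6318c6318c421084210842108421084210842108421084210842108421082108421084210842108421084210842108421084210842108421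

/-- second points of the neighbours -/
def tB : ℕ :=
  0x2d6b5ab5b5ab5a52d6ad6949ced6ad6949ce52b5ab5a527394a31b5ab5a527394a31842d6ad6949ce528c6107bed6ad6949ce528c6107bdceb5ab5a527394a31841ef739adb5ab5a527394a31841ef739ad632d6ad6949ce528c6107bdce6b58c5aed6ad6949ce528c6107bdce6b58c5ad4ab5ab5a527394a31841ef739ad6316b52929b5ab5a527394a31841ef739ad6316b52929422d6ad6949ce528c6107bdce6b58c5ad4a4a50839ed6ad6949ce528c6107bdce6b58c5ad4a4a50839cc6b5ab5a527394a31841ef739ad6316b52929420e7318a5b5ab5a527394a31841ef739ad6316b52929420e7318a5212d6ad6949ce528c6107bdce6b58c5ad4a4a50839cc62948418ed6ad6949ce528c6107bdce6b58c5ad4a4a50839cc62948418c42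

/-- tables of the ten sign changes on the 462 neighbours -/
def tY : ℕ → ℕ
  | 0 => 0x39bcce5f2b93c8e3f1b8bc4e1f0b83c0dfefb7bbcddeeb73b8dbedb6bb4d9ecb63b0d7ebb5bacd5eab53a8d3e9b4ba4d1e8b43a0cfe7b3b9ccde6b3398cbe5b2b94c9e4b2390c7e3b1b8cc5e2b1388c3e1b0985c160f0181bf5fef97dbd5eef179bb5dee975b9dcae370b7dbadb6cb5daad368b3d9acb64b1d8ac161af57eb95dad56eb159ab55ea955a954ea151a753e9b4ca552e9348a3d1a8b44a1d0a83409fcfa7b3c9dcea73389b4de6b34994ce633097cba5b2c95caa532893c9a4b2491c8a43208f47e3b1c8d46e33188b45e29158944e21118743e190d8542e11098341e0b048140e03007f3fdf8fd7dbe9f2f87bbd9eaf479bc9e2f077bb9daec75ba9d0e973b99c8e571b89c2e06f37dbadc6db69b2d86bb59aad469b49a2d067b399acc6532d92c86331d8ac461b0980c15faf978bd5d2ed70b95b2dd68b5592cd60b1572bd58ad55aa950a953a9948a55128d42a04f27d389d4d26d30994b25d28954924d20914723d188d4522d12884321d0a844120d00813f9f8f87d3d1ecf2783b1dce875391cce071371bcd86d351acd0693319cca643118cc2602f17cb85d2d968b0592b15caa5429948a0512713c984d2512c90492311c88452110c80411f8f8783d1d8e870391b0dc6a34190cc6031178b85a2c158a850291309c48251108c40210f07c381d0d06c30190b85828150984820110703c1a0c0502c1009038180a04018080200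
  | 1 => 0x39bcce5f2b93c8e3f1b8bc4e1f0b83c0dfefb7bbcddeeb73b8dbedb6bb4d9ecb63b0d7ebb5bacd5eab53a8d3e9b4ba4d1e8b43a0cfe7b3b9ccde6b3398cbe5b2995c964f2191c763f198dc562f1189c361f0b84c1e0b0380bfdfafb7cbddeaf378bbddae975b95cee171b75bed96db55aed169b359ec965b1d8ac161afd7abb5cadd6ab358abd5aab54a9d4aa350a753e9b4ca552e9348a3d1a8b44a1d0a83409fcfa7b3c9dcea71399bcda693599cca6131974be592d954ae51299349e49259148e43208f47e3b1c8d46e31198bc5a2b1489c4a231087c3a1b0c85c2a13088341e0b048140e03007fbf9f8fd7dbe9f2f87bbd9eaf479bc9e2f077bb9daec753add2e87339dcae471b89c0e16fb79b8dd6d36db0d96b35da8d56934da0d16733d9acc6532d92c86331d88c561b0980c15f2fd78bd5d2ed70b95b2dd68b5592cd60b1572bd5aac552ad52a85329d48a551a8940a14f27d3a9c4d26d30994b25d28954924d20914723d188d45a29108943a1908854120d02803f1fcf87d3d9e8f2783b1dce875391cce071371bcd86d351acd06933998c86531988c0612f17cba5c2d16cb0592b958aa5429948a0512713c984d2512c90492311c88452110c82401f0fc7a3c1d0ec70391b8d86835190cc6230178b85a2c158a85228138984a241188842200f8783a1c0d86830190b85828150984822100703c1a0c0582810090301c08050100c0001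
  | 2 => 0x39bcce5f2b93c8e3f1b8bc4e1f0b83c0dfefb7bbcddeeb73b8dbedb6bb4d9ecb63b0d7ebb5bacd5eab53a8d3e9b4ba4d168f41a1cf67f399dcd66f3199cb65f2b94c9e4b2390c7e3b1b8cc5e2b1388c361f0b84c1e0b0380bfdfafb7cbddeaf378bb5deeb74b9dcae370b7dbadb6cb5daad368b3d9ac965b1d8ac360af57eb95dad56eb159ab55ea955a954ea350a753e994da552e9149a351e8945a150e81419f4fe793d9dcea71399b4de693599cca633097cba5b2c95caa532893c9a4b249148e43208fc7a3b1c8d46e31198b45e29158944e21118743e190d8542e13088341e09058140e03007fbf9f8fd7d3edf0f97b3dde8f5793cde0f1773bddaec753add0e97339dcae471b89c0e16fb79b8dd6d36db0d96b35da8d56934da0d167b3998cd6532d90c963b198ac46130d82c05faf97abc5dae972b85bad96ab459ac962b0572bd5aac55aa952a85329d48a551a8940a14f27d389d4da6932984ba592a9449a49229047a39188d45a29128843a1908854120d02803f1fcf87d3d1ecf2783b9d8ea74399c8e270379b8da6c359a8d06933998ca6431988c0612f17cba5c2d16cb0592b15caa5429948a0512713c984d2512c90492311c88452190880411f0fc783d1d8e872381b0dc6a34198c86230170bc582d150ac50291309c48251108c40210f07c381d0d86830190b05c28150984822100703c1a0c0582812080301c08050100c0200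
  | 3 => 0x39bcce5f2b93c8e3f1b8bc4e1f0b83c0dfefb7bbcddeeb73b8dbedb6bb4d9ecb63b0d76bf59add56af51a9d369f49a5d1e8b43a0cfe7b3b9ccde6b3398cb65f2b94c9e4b2390c7e3b1b8cc5e2b1189c3e1b0b84c1e0b0380bfdfafb7cbddeaf179bbddaeb74b95cee171b75bed96db55aed169b3d9ac965b158ec161af57eb95dad56eb159ab55ea955a9d4aa151a753e994da5d2a9348a3d1a8b44a1d0a83409fcfa793d9dcea73389bcda6935994ce6131974be592d954ae51299349e4b249148e41218f47e3b1c8dc6a31198b45e29158944e21118743e190d85c2a11098341e090581c0a03007f3fdfafc7d3edf0f97b3dde8f5793cde0f177bb9d8ed753add0e973b99cae47138dc2e06fb79badc6db69b2d86bb59aad469b49a0d167b399acc65b2990c96331d8ac46130d80c15f2fd7abc5dae972b85bad96ab459ac960b157ab95aac55aa950a95329d4aa45128d40a14f27d3a9c4da6932984ba592a9449a4922904723d1a8c45a2912884321d088541a0900813f1fcf87d3d9e8f2783b1dce875391cce071371bcd86d359a8d0693319cc86531988c2602f17cba5c2d968b2582b15ca8552914ca0512713c984d2512c90492311c8a442110c80411f0fc7a3c1d8e870391b8d86a34198c86031170bc582d158a85228138984a241188842200f878381d0d86832180b85828150904c22100703c180d0502c1208038180a040100c0001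
  | 4 => 0x39bcce5f2b93c8e3f1b8bc4e1f0b83c0dfefb7bbcddeeb71b9db6df69b5d96cf61b1d7ebb5bacd5eab53a8d3e9b49a5d1e8b43a0cfe7b3b9ccde6b3199cbe5b2b94c9e4b2390c7e3b1b8cc562f1388c3e1b0b84c1e0b0380bfdfafb7cbd5eef378bbddaeb74b95cee171b75bed96db55aed368b359ec965b158ec161af57eb95dad56eb159ab55eab54a954ea151a753e994da5d2a9149a351e8945a150e81419fcfa793d9d4ee71399b4de6b3499cca6131974be592d954ae512993c9a49259148e41218f47e3b1c8dc6a33188bc5a2b1489c4a231087c3a190d85c2a130883c1a0b048140e01017f3fdf8fd7dbe9f2f87bbd9eaf479bc9e0f177bb9daec75ba9d2e87339dc8e57138dc0e16fb79badc6db69b2d86bb59aad46934da2d067b399acc65b2990c96331d88c56130d82c05faf978bd5d2ed70b95b2dd68b559ac960b1572bd58ad552ad52a853a994aa451a8940a14f27d389d4da6932984ba592a9449a49209147a391a8c45a2912884321d08854120d00813f9f8fa7c3d9e8f0793b9d8ea74399c8e270379b8d86d359a8d26833998ca643118cc0612f17cb85d2d968b2582b958a85529948a0512713c984d2512c90492391888452110c80411f0fc7a3c1d8e872381b8d86835190cc6031178b8582d150ac50291309c48251108c40210f878381d0d06c30190b05c2a1409848221007838180d0502c10090381808050100c0200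
  | 5 => 0x39bcce5f2b93c8e3f1b8bc4e1f0b81c1df6ff79bddd6ef73b8dbedb6bb4d9ecb61b1d7ebb5bacd5eab53a8d369f4ba4d1e8b43a0cfe7b3b9ccd66f3398cbe5b2b94c9e4b2390c7e3b198dc5e2b1388c3e1b0b84c1e0b0380bfdfaf97dbddeaf378bbddaeb74b95cee171b75bed96db5daad169b359ec965b158ec161afd7abb5cadd6ab358ab55eab54a9d4aa350a7d3a9b4ca552e9149a351e8945a150e83409f4fe793d9d4ee71399b4de6b34994ce633097cba5b2c95caa512993c9a4b2491c8a43208fc7a391d8dc6a31198b45e29158944e211187c3a190d8542e11098341e090581c0a01017fbf9f8fd7dbe9f2f87bbd9eaf4793cde2f077bb9daec75ba9d2e87339dcae47138dc2e06f37db8dd6d36db0d96b35daad46934da0d16733d98cd6532d92c86331d8ac46130d82c05f2fd78bd5d2ed70b95b2dd6ab4592cd60b1572bd58ad552ad52a85329d4aa45128d42a04f27d3a9c4d26d30994b25d289549a4920914723d188d4522d108943a19088541a0900813f9f8f87d3d9e8f2783b9d8ea74399c8e270371bcda6c359a8d26833998ca643118cc2602f17cba5c2d16cb2582b15ca8552914ca250279389a4c259289049239188a442190882401f8f8783d1d8e870391b8d86835198c86031170bc582d158a850291309c48251108c42200f07c381d0d06c30190b05c2a140904c22100703c1a0c0502c1208038180a040100c0001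
  | 6 => 0x39bcce5f2b93c8e371f89c5e170f83c0dfefb7bbcdd6ef73b8dbedb6bb4d96cf63b0d7ebb5bacd5eab51a9d3e9b4ba4d1e8b43a0cfe7b399dcde6b3398cbe5b2b94c9e4b2390c763f1b8cc5e2b1388c3e1b0b84c1e0b0380bf5fefb7cbddeaf378bbddaeb74b9dcae370b7dbad96db5daad368b3d9acb64b1d8ac360afd7abb5cadd6ab159abd5aab54a9d4aa350a7d3a9b4ca5d2a9348a3d1a8b44a150e83409fcfa7b3c9dcea73389bcda6b3499cca6131974be592d95caa51299349e49259148e41218f47e391d8d46e31198b45e29158944e23108743e190d8542e11098341e09058140e01017f3fdfafc7d3edf0f97b3ddeaf4793cde0f1773bdd8ed753add0e97339dc8e57138dc2e06fb79b8dd6d36db0d96bb59a8d56934da0d16733d98cd6532d90c96331d88c561b0982c05faf97abc5dae972b85b2dd6ab459ac962b057ab95aac55aa952a853a994aa45128d40a14f27d389d4d26d30994b25d2a944924d20914723d188d4522d10894321d08854120d02803f9f8fa7c3d9e8f0793b1dce875391cce270371bcd86d351acd0693319cc8653118cc0612f17cba5c2d968b2582b958a85529948a250279389a4c2512c9248239188a442190882401f8f87a3c1d8e872381b0dc6835190cc6031178b8582d150ac50291309c48251188840210f07c381d0d06c30190b05c28150904c2011078381a0c0582812080301c0a04018080001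
  | 7 => 0x39bcce572f91c9e3f1b8bc4e170f83c0dfefb79bdddeeb73b8dbedb69b5d9ecb63b0d7ebb5bacd56af53a8d3e9b4ba4d1e8b43a0cf67f3b9ccde6b3398cbe5b2b94c9e4b2191c7e3b1b8cc5e2b1388c3e1b0b84c1e0b0181bfdfafb7cbddeaf378bbddaeb74b9dcae370b75bedb6cb5daad368b3d9acb64b1d8ac360afd7abb5cad56eb358abd5aab54a9d4aa350a7d3a9b4ca5d2a9149a351e8b44a150e81419f4fe793d9d4ee71399b4de6935994ce6131974be5b2c954ae51299349e49259148e41218f47e391d8d46e33188b45e291589c4a21118743e190d8542e11098341e09058140e01017fbf9fafc7d3edf0f97bbd9e8f5793cde0f1773bdd8ed753add0e97339dc8e571b89c2e06fb79badc6db69b0d96bb59aad469b49a2d067b399acc65b2992c863b1988c56130d80c15f2fd78bd5d2ed72b85b2dd68b5592cd60b1572bd58ad552ad50a95329d4aa451a8942a04fa79389d4d26d30994ba5928954924d20914723d188d4522d10894321d088541a0902803f9f8fa7c3d1ecf2783b9d8ea74391cce270379b8da6c359a8d26833998ca6431988c2602f17cb85d2d16cb0592b958a8552914ca0512713c9a4c2512c90492311c88452110c80411f0fc783d1d0ec72381b8d86a34198c86031178b85a2c150ac52281389848251188842200f8783a1c0d86832180b8582a140984820110703c180d0502c12080301c0805018080001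
  | 8 => 0x399cde5f2b91c9e3f1b89c5e1f0b83c0df6ff7bbcddeeb73b8db6df6bb4d9ecb63b0d7ebb59add5eab53a8d3e9b4ba4d1e8b41a1cfe7b3b9ccde6b3398cbe5b2b94c964f2390c7e3b1b8cc5e2b1388c3e1b0b84c160f0380bfdfafb7cbddeaf378bbddaeb74b9dcae171b7dbadb6cb5daad368b3d9acb64b1d8ac360af57ebb5cad56eb159ab55ea955a954ea151a753e994da552e9149a3d1a8945a150e81419f4fe793d9d4ee71399b4de693599cca613197cba592d954ae51299349e49259148e41218f47e391d8dc6a33188b45e2b148944e21118743e190d8542e11098341e09058140e03007fbf9fafc7dbe9f0f97bbd9eaf479bc9e2f077bb9daec75ba9d2e873b99c8e57138dc0e16f37db8dd6db69b0d96b35da8d56934da0d16733d98cd6532d90c963b198ac461b0982c05f2fd78bd5dae970b95b2dd68b5592cd60b1572bd58ad552ad50a953a994aa451a8942a04f27d3a9c4da6930994ba592a9449a49229047a391a8c45a29128843a1908854120d00813f1fcfa7c3d1ecf0793b1dcea74391cce071371bcd86d351acd0693319cc8653118cc2602f978ba5c2d968b0592b958aa542914ca2502713c9a4c259289248239188a442190882401f8f87a3c1d0ec70391b0dc6835198c86031170bc5a2c150ac52281309c4a241188842200f8783a1c0d86832180b8582a140904c20110703c180d0582810090301c0a040100c0200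
  | 9 => 0x399cde572f93c8e371f8bc4e1f0b81c1dfefb7bbcddeeb71b9dbedb6bb4d9ecb63b0d76bf5bacd5eab53a8d3e9b4ba4d168f43a0cfe7b3b9ccde6b3398cbe5b2995c9e4b2390c7e3b1b8cc5e2b1388c3e1b0985c1e0b0380bfdfafb7cbddeaf378bbddaeb74b9dcae171b75bed96db55aed169b359ec965b158ec161afd7ab95dad56eb159ab55ea955a954ea151a753e994da5d2a9348a351e8945a150e81419f4fe793d9d4ee71399b4de6b3499cca6330974be592d954ae51299349e49259148e41218f47e3b1c8dc6a33188b45e2b1489c4a231087c3a1b0c85c2a130883c1a0b048140e01017f3fdf8fd7dbe9f0f97b3dde8f5793cde0f1773bdd8ed753add0e973b99cae471b89c2e06f37dbadc6d36db0d96b35da8d56934da0d16733d98cd6532d92c863b198ac461b0980c15faf978bd5dae972b85bad96ab459ac962b057ab95aac55aa950a95329d48a55128d42a04f27d389d4da6930994b25d28954924d20914723d188d4522d108943a190a8441a0902803f1fcfa7c3d9e8f0793b1dcea74399c8e270379b8da6c359a8d26833998ca643118cc0612f17cb85d2d968b0592b15caa542914ca051279389a4c259289248239188a442190882401f8f8783d1d0ec70391b0dc6a34190cc6031178b8582d158a85029138984a241188842200f8783a1c0d86832180b85828150904c20110703c1a0c0502c1009038180805018080200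
  | _ => 0

/-- table of `p` on the 462 neighbours -/
def tP : ℕ :=
  0x38bc4dbedb67b2d0e833b9ccce630782bfdfaf77abbddabb5cacd62ab54a8d429b4c97cba572a93c9a47228fc7a371a7cbe1eaf478bc1daec74ba1cae470b8176ba5bad966b257ab956aa53a9946a24fa78ea74389c0da6c349a0ca6430980ba5c2c960aa541389846220f878361a0b858261207838160a038180602e6f338fc6dcee347a2c2e12bf5e98cc1f6fa5eaf0ee76148a393c8e1f0b6bb4cfe7b0380add6a5b2c7bbd972b8399c84a24e5f2b7fbeddeeb63b0cde6afb7cabd5a532879bc96ab4379b84220e0f037bbcd6eb353a8d2e932f96bcde2a75292c91deee58ac0d66a0e8735faed5eab4fa6c9e4b1f8ec5e2b0f86badd29f4e90c81d6ea56ab0ce660c8632b94c8e431b8cc4e22e370b6db2d368b2d92c360a5d2a3b1c73b9952a8319882a14b9dcadf6eb5daacf66b1d8a8f46a1d0a7f3e9dcea6f3699cca331871b894aa42f9782210a4d228b44a0d027b3c9cce26b348ac52231086c32130882c1203007ebf1bede50a80b65a068322f1689c4a1f0e85c2a0f0681c09fefe6db69aed669b499ece65b298ec661b097ebe4ea70ae5604821badc6cb61aad468b419acc64b218ac460b0132984aa51229046a31128842a1102803e9f0f278299480a044da692e9649a491e8e45a290e8641a08fe7e3d9e89e4e259288e46219087e3e1d8e86e36198c85e2e158a80200289409a4c249208a44209007a3c1c8e06a34188c05a2c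

/-- table of `h` on the 462 neighbours -/
def tH : ℕ :=
  0x367b2d4ea34ba4e3f1b73b8d7ebb77bad8ec34fa6e0f038bc4dbedb5bace6f337fbee1f0b6bb4d5eab97cadeef393c87abd1e2f077bb9f6fa79bc9f2f87bbda572a93c9a4b2498cc2532897cba5b2c70b82ff7ebddeaf378c2e12fb7cc1e0b038074ba23f1eb6db2d368b3d9ae772b5daae370b7db9cee68ec72c360acd62ab54a9d4abf5eabd5abb5cadd69cae48dc6a9b4ca5d2a87429fcfa7b3ca4d228340a3d1a8b4471b8a33189bcda6b3499ccb1f8ec5e2b1388cae531b8cc9e4b239075baa4320badd2c762a7d3a7338118883e1e0e8705228108804e2612890160a078382e160a8502612088403218cee733398cbe5b47a2cde6b43a0cfe79daec91c8aef76b2d92a3509dceb0f860d869aed669b49a2d06eb71aad46db69b2d85faf986c265b2992c863b198ac466b30120867b392a9448a411e8e4da6926924ca612e963e9f1028044a210e8642a11068245a280a0446a30f67a5bad966b258ac17abc5aad176ba5cae13e9e51a8956aa54aa14ea652a915aac038195eae4ea70f278389c0da6c359a8ee76379b8ea74399c8b2582e970ca6431988c2602f978ce6601808d2682b958a6522a950964a239188a44289409248279389a4c198c86e361f8f87a3c1d8e87238209000200219086230168b05e2e158aa231086c32170a8bc5a1f0e8ac5227126fb79fafc82c12070280c01fefe83c181a0c84c2182c03f9f942a02d9686a34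

/-- first point -/
def fA (i : ℕ) : ℕ := look5 tA i

/-- second point -/
def fB (i : ℕ) : ℕ := look5 tB i

theorem fAB : ∀ i < 462, fA i < fB i ∧ fB i < 23 ∧ 1 ≤ fA i ∧
    2 * ((fA i - 1) * 22 - (fA i - 1) * fA i / 2 + (fB i - fA i - 1)) + i % 2 = i := by
  decide +kernel

/-- the check for a permutation with table `tab` of the 24 points -/
def okPerm (tab : List ℕ) (t : ℕ) : Bool :=
  (List.range 462).all fun i =>
    let j := look t i
    Nat.ble (j + 1) 462 && Nat.beq (j % 2) (i % 2) &&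
      ((Nat.beq (fA j) (tab.getD (fA i) 0) && Nat.beq (fB j) (tab.getD (fB i) 0)) ||
        (Nat.beq (fA j) (tab.getD (fB i) 0) && Nat.beq (fB j) (tab.getD (fA i) 0)))

/-- the check for a sign change -/
def okSgn (m t : ℕ) : Bool :=
  (List.range 462).all fun i =>
    let j := look t i
    Nat.ble (j + 1) 462 && Nat.beq (fA j) (fA i) && Nat.beq (fB j) (fB i) &&
      Nat.beq (j % 2) ((i + (m >>> fA i) + (m >>> fB i)) % 2)

theorem okP : okPerm DuadGen.tabP tP = true := by decide +kernel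

theorem okH : okPerm DuadGen.tabH tH = true := by decide +kernel

theorem okY : ∀ k < 10, okSgn (dMask k) (tY k) = true := by decide +kernel

theorem beq_iff {a b : ℕ} : Nat.beq a b = true ↔ a = b :=
  ⟨Nat.eq_of_beq_eq_true, fun h => h ▸ Nat.beq_refl a⟩

theorem okPerm_spec {tab : List ℕ} {t : ℕ} (h : okPerm tab t = true) {i : ℕ} (hi : i < 462) :
    look t i < 462 ∧ look t i % 2 = i % 2 ∧
      ((fA (look t i) = tab.getD (fA i) 0 ∧ fB (look t i) = tab.getD (fB i) 0) ∨
        (fA (look t i) = tab.getD (fB i) 0 ∧ fB (look t i) = tab.getD (fA i) 0)) := by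
  have h1 := List.all_eq_true.1 h i (List.mem_range.2 hi)
  simp only [Bool.and_eq_true, Bool.or_eq_true, Nat.ble_eq, beq_iff] at h1
  obtain ⟨⟨h1, h2⟩, h3⟩ := h1
  exact ⟨h1, h2, h3⟩

theorem okSgn_spec {m t : ℕ} (h : okSgn m t = true) {i : ℕ} (hi : i < 462) :
    look t i < 462 ∧ fA (look t i) = fA i ∧ fB (look t i) = fB i ∧
      look t i % 2 = (i + (m >>> fA i) + (m >>> fB i)) % 2 := by
  have h1 := List.all_eq_true.1 h i (List.mem_range.2 hi)
  simp only [Bool.and_eq_true, Nat.ble_eq, beq_iff] at h1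
  obtain ⟨⟨⟨h1, h2⟩, h3⟩, h4⟩ := h1
  exact ⟨h1, h2, h3, h4⟩

/-! ### The neighbours as lattice vectors -/

/-- sign of a neighbour -/
def fS (i : ℕ) : ℤ := if i % 2 = 0 then 4 else -4

theorem fS_or (i : ℕ) : fS i = 4 ∨ fS i = -4 := by
  unfold fS; split_ifs
  · exact Or.inl rfl
  · exact Or.inr rfl

theorem pt_ne {i : ℕ} (hi : i < 462) : GolayBase.pt (fA i) ≠ GolayBase.pt (fB i) := by
  obtain ⟨h1, h2, -, -⟩ := fAB i hi
  intro h
  have h3 := congrArg GolayBase.idx h
  rw [GolayBase.idx_pt (by omega), GolayBase.idx_pt (by omega)] at h3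
  omega

/-- `4 e_a ± 4 e_b` -/
def nb (i : Fin 462) : leechLattice :=
  lv (GolayBase.pt (fA i)) (GolayBase.pt (fB i)) 4 (fS i) (pt_ne i.2) four_or (fS_or i)

theorem nb_coe (i : Fin 462) :
    (nb i : GolayPt → ℤ) = two (GolayBase.pt (fA i)) (GolayBase.pt (fB i)) 4 (fS i) := rfl

/-- the pair `± nb i` -/
def fr (i : Fin 462) : Set leechLattice := {nb i, -nb i}

theorem smul_pair (g : Co0) (v : leechLattice) :
    g • ({v, -v} : Set leechLattice) = {g • v, -(g • v)} := by
  rw [Set.smul_set_insert, Set.smul_set_singleton, smul_neg_co0]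

theorem pair_eq_of {v w : leechLattice} (h : v = w ∨ v = -w) :
    ({v, -v} : Set leechLattice) = {w, -w} := by
  rcases h with rfl | rfl
  · rfl
  · rw [neg_neg, Set.pair_comm]

theorem pair_eq_iff {v w : leechLattice} :
    ({v, -v} : Set leechLattice) = {w, -w} ↔ v = w ∨ v = -w := by
  refine ⟨fun h => ?_, pair_eq_of⟩
  have : v ∈ ({w, -w} : Set leechLattice) := by rw [← h]; exact Set.mem_insert _ _
  simpa using this

theorem fr_smul_of {g : Co0} {i j : Fin 462} (h : g • nb i = nb j ∨ g • nb i = -nb j) :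
    g • fr i = fr j := by
  unfold fr
  rw [smul_pair]
  exact pair_eq_of h

theorem four_ne : (4 : ℤ) ≠ 0 := by norm_num

/-- The code of a neighbour is determined by the pair. -/
theorem nb_inj {i j : Fin 462} (h : nb i = nb j ∨ nb i = -nb j) : i = j := by
  obtain ⟨a1, a2, a3, a4⟩ := fAB i i.2
  obtain ⟨b1, b2, b3, b4⟩ := fAB j j.2
  -- values
  have hval : ∃ ε : ℤ, (ε = 1 ∨ ε = -1) ∧ ∀ x, two (GolayBase.pt (fA i)) (GolayBase.pt (fB i)) 4
      (fS i) x = ε * two (GolayBase.pt (fA j)) (GolayBase.pt (fB j)) 4 (fS j) x := by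
    rcases h with h | h
    · refine ⟨1, Or.inl rfl, fun x => ?_⟩
      rw [one_mul, ← nb_coe, ← nb_coe, h]
    · refine ⟨-1, Or.inr rfl, fun x => ?_⟩
      rw [← nb_coe, ← nb_coe, h]
      show -(nb j : GolayPt → ℤ) x = _
      ring
  obtain ⟨ε, hε, hval⟩ := hval
  have hε0 : ε ≠ 0 := by rcases hε with rfl | rfl <;> norm_num
  have hSj : fS j ≠ 0 := by rcases fS_or j with h | h <;> rw [h] <;> norm_num
  have hSi : fS i ≠ 0 := by rcases fS_or i with h | h <;> rw [h] <;> norm_num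
  have hpt : ∀ {a b : ℕ}, a < 24 → b < 24 → GolayBase.pt a = GolayBase.pt b → a = b := by
    intro a b ha hb hab
    have := congrArg GolayBase.idx hab
    rwa [GolayBase.idx_pt ha, GolayBase.idx_pt hb] at this
  have hA : fA i = fA j ∨ fA i = fB j := by
    by_contra hcon
    push Not at hcon
    have h1 := hval (GolayBase.pt (fA i))
    rw [two_left, two_other (fun h => hcon.1 (hpt (by omega) (by omega) h))
      (fun h => hcon.2 (hpt (by omega) (by omega) h)), mul_zero] at h1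
    exact four_ne h1
  have hB : fB i = fA j ∨ fB i = fB j := by
    by_contra hcon
    push Not at hcon
    have h1 := hval (GolayBase.pt (fB i))
    rw [two_right (pt_ne i.2), two_other (fun h => hcon.1 (hpt (by omega) (by omega) h))
      (fun h => hcon.2 (hpt (by omega) (by omega) h)), mul_zero] at h1
    exact hSi h1
  have hA' : fA i = fA j := by omega
  have hB' : fB i = fB j := by omega
  have h1 := hval (GolayBase.pt (fA i))
  rw [two_left, hA', two_left] at h1
  have hε1 : ε = 1 := by omega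
  have h2 := hval (GolayBase.pt (fB i))
  rw [two_right (pt_ne i.2), hB', two_right (pt_ne j.2), hε1, one_mul] at h2
  have h3 : (i : ℕ) % 2 = (j : ℕ) % 2 := by
    unfold fS at h2
    split_ifs at h2 <;> omega
  apply Fin.ext
  rw [← a4, ← b4, hA', hB', h3]

theorem fr_inj {i j : Fin 462} (h : fr i = fr j) : i = j := nb_inj (pair_eq_iff.1 h)

/-! ### The action of monomial elements -/

theorem sgn_two {v : leechLattice} {c : Finset GolayPt} (hc : c ∈ Words) {p q : GolayPt}
    (hpq : p ≠ q) {a b : ℤ} (hv : (v : GolayPt → ℤ) = two p q a b) :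
    ((sgn c hc • v : leechLattice) : GolayPt → ℤ) =
      two p q (if p ∈ c then -a else a) (if q ∈ c then -b else b) := by
  funext x
  rw [sgn_coe, sgnMap_apply, hv]
  by_cases hp : x = p
  · subst hp; rw [two_left, two_left]
  · by_cases hq : x = q
    · subst hq; rw [two_right hpq, two_right hpq]
    · rw [two_other hp hq, two_other hp hq]; split_ifs <;> rfl

theorem perm_two {v : leechLattice} {σ : Equiv.Perm GolayPt} (hσ : σ ∈ M24) {p q : GolayPt}
    {a b : ℤ} (hv : (v : GolayPt → ℤ) = two p q a b) :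
    ((perm σ hσ • v : leechLattice) : GolayPt → ℤ) = two (σ p) (σ q) a b := by
  funext x
  rw [perm_coe, permMap_apply, hv]
  unfold two
  simp only [Equiv.symm_apply_eq]

theorem idx_eq_pidx (x : GolayPt) : GolayBase.idx x = M24Gens.pidx x := by
  cases x <;> rfl

theorem perm_pt {σ : Equiv.Perm GolayPt} {tab : List ℕ}
    (htab : ∀ x, M24Gens.pidx (σ x) = tab.getD (M24Gens.pidx x) 0) {a : ℕ} (ha : a < 24) :
    σ (GolayBase.pt a) = GolayBase.pt (tab.getD a 0) := by
  have h1 := htab (GolayBase.pt a)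
  rw [← idx_eq_pidx, ← idx_eq_pidx, GolayBase.idx_pt ha] at h1
  rw [← h1, GolayBase.pt_idx]

theorem fS_mod {i j : ℕ} (h : i % 2 = j % 2) : fS i = fS j := by
  unfold fS; rw [h]

theorem lat_ext {v w : leechLattice} (h : (v : GolayPt → ℤ) = w) : v = w := Subtype.ext h

/-- A permutation with a checked table acts as the table says. -/
theorem perm_fr {σ : Equiv.Perm GolayPt} (hσ : σ ∈ M24) {tab : List ℕ} {t : ℕ}
    (htab : ∀ x, M24Gens.pidx (σ x) = tab.getD (M24Gens.pidx x) 0) (ht : okPerm tab t = true)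
    (i : Fin 462) : perm σ hσ • fr i = fr ⟨look t i, (okPerm_spec ht i.2).1⟩ := by
  obtain ⟨a1, a2, a3, -⟩ := fAB i i.2
  obtain ⟨h1, h2, h3⟩ := okPerm_spec ht i.2
  have hv := perm_two hσ (nb_coe i)
  rw [perm_pt htab (by omega), perm_pt htab (by omega)] at hv
  apply fr_smul_of
  rcases h3 with ⟨h3, h4⟩ | ⟨h3, h4⟩
  · left
    apply lat_ext
    rw [hv, nb_coe]
    simp only [h3, h4, fS_mod h2]
  · have hne : GolayBase.pt (tab.getD (fB i) 0) ≠ GolayBase.pt (tab.getD (fA i) 0) := by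
      rw [← h3, ← h4]; exact pt_ne h1
    rcases fS_or i with h5 | h5
    · left
      apply lat_ext
      rw [hv, nb_coe]
      simp only [h3, h4, fS_mod h2]
      rw [h5, two_swap hne.symm]
    · right
      apply lat_ext
      rw [hv]
      show _ = -(nb _ : GolayPt → ℤ)
      rw [nb_coe]
      simp only [h3, h4, fS_mod h2]
      rw [h5, two_swap hne.symm]
      funext x
      show _ = -(two _ _ _ _ x)
      unfold two
      split_ifs <;> rfl

theorem testBit_shift (m a : ℕ) : (m >>> a) % 2 = if m.testBit a then 1 else 0 := by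
  rw [GolayBase.ite_testBit]

/-- A sign change with a checked table acts as the table says. -/
theorem sgn_fr {m t : ℕ} (hm : GolayBase.fin m ∈ Words) (ht : okSgn m t = true) (i : Fin 462) :
    sgn (GolayBase.fin m) hm • fr i = fr ⟨look t i, (okSgn_spec ht i.2).1⟩ := by
  obtain ⟨a1, a2, a3, -⟩ := fAB i i.2
  obtain ⟨h1, h2, h3, h4⟩ := okSgn_spec ht i.2
  have hv := sgn_two hm (pt_ne i.2) (nb_coe i)
  have hmem : ∀ a : ℕ, a < 24 → (GolayBase.pt a ∈ GolayBase.fin m ↔ (m >>> a) % 2 = 1) := by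
    intro a ha
    rw [GolayBase.mem_fin, GolayBase.idx_pt ha, testBit_shift]
    cases m.testBit a <;> simp
  have hA := hmem (fA i) (by omega)
  have hB := hmem (fB i) (by omega)
  simp only [hA, hB] at hv
  have e : ∀ (j : Fin 462), fA j = fA i → fB j = fB i →
      (nb j : GolayPt → ℤ) = two (GolayBase.pt (fA i)) (GolayBase.pt (fB i)) 4 (fS j) := by
    intro j hj1 hj2
    rw [nb_coe, hj1, hj2]
  apply fr_smul_of
  have hp : (m >>> fA i) % 2 = 0 ∨ (m >>> fA i) % 2 = 1 := by omega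
  have hq : (m >>> fB i) % 2 = 0 ∨ (m >>> fB i) % 2 = 1 := by omega
  have hj := e ⟨look t i, h1⟩ h2 h3
  have hi2 : (i : ℕ) % 2 = 0 ∨ (i : ℕ) % 2 = 1 := by omega
  rcases hp with hp | hp
  · left
    apply lat_ext
    rw [hv, hj]
    simp only [hp]
    rcases hq with hq | hq <;> rcases hi2 with hi2 | hi2
    · have : look t i % 2 = 0 := by omega
      simp [fS, hq, hi2, this]
    · have : look t i % 2 = 1 := by omega
      simp [fS, hq, hi2, this]
    · have : look t i % 2 = 1 := by omega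
      simp [fS, hq, hi2, this]
    · have : look t i % 2 = 0 := by omega
      simp [fS, hq, hi2, this]
  · right
    apply lat_ext
    show _ = -(nb _ : GolayPt → ℤ)
    rw [hv, hj]
    simp only [hp]
    have hneg : ∀ a b : ℤ, -(two (GolayBase.pt (fA i)) (GolayBase.pt (fB i)) a b) =
        two (GolayBase.pt (fA i)) (GolayBase.pt (fB i)) (-a) (-b) := by
      intro a b
      funext x
      show -(two _ _ _ _ x) = _
      unfold two
      split_ifs <;> simp
    rw [hneg]
    rcases hq with hq | hq <;> rcases hi2 with hi2 | hi2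
    · have : look t i % 2 = 1 := by omega
      simp [fS, hq, hi2, this]
    · have : look t i % 2 = 0 := by omega
      simp [fS, hq, hi2, this]
    · have : look t i % 2 = 0 := by omega
      simp [fS, hq, hi2, this]
    · have : look t i % 2 = 1 := by omega
      simp [fS, hq, hi2, this]

theorem negOne_fr (i : Fin 462) : negOne • fr i = fr i := by
  apply fr_smul_of
  right
  exact negOne_smul _

/-! ### The frame stabiliser -/

section

variable {p h : Equiv.Perm GolayPt}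

open Cfsg.Agent.SporadicA.M24Gens (pidx pidx_injective)
open Cfsg.Agent.BabyM.DuadGen (tabP tabH duad)

/-- The generators of the frame stabiliser. -/
inductive IsGenN (hpM : p ∈ M24) (hhM : h ∈ M24) : Co0 → Prop
  | sgn (k : ℕ) (hk : k < 10) : IsGenN hpM hhM (sgn (GolayBase.fin (dMask k)) (fin_dMask_mem k hk))
  | p : IsGenN hpM hhM (perm p hpM)
  | h : IsGenN hpM hhM (negOne * perm h hhM)

/-- `w0 = (4, 4, 0^22)` -/
abbrev w₀ : leechLattice := w0 none (some 0) hne

/-- The frame stabiliser. -/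
def NN : Subgroup Co0 where
  carrier := {g | g • l₀ = l₀ ∧ (g • w₀ = w₀ ∨ g • w₀ = -w₀)}
  one_mem' := ⟨one_smul _ _, Or.inl (one_smul _ _)⟩
  mul_mem' := by
    rintro a b ⟨ha, ha'⟩ ⟨hb, hb'⟩
    refine ⟨by rw [mul_smul, hb, ha], ?_⟩
    rw [mul_smul]
    rcases hb' with hb' | hb' <;> rw [hb']
    · exact ha'
    · rw [smul_neg_co0]
      rcases ha' with ha' | ha' <;> rw [ha']
      · exact Or.inr rfl
      · exact Or.inl (neg_neg _)
  inv_mem' := by
    rintro a ⟨ha, ha'⟩
    refine ⟨by rw [inv_smul_eq_iff, ha], ?_⟩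
    rcases ha' with ha' | ha'
    · left; rw [inv_smul_eq_iff, ha']
    · right; rw [inv_smul_eq_iff, smul_neg_co0, ha', neg_neg]

theorem mem_NN {g : Co0} : g ∈ NN ↔ g • l₀ = l₀ ∧ (g • w₀ = w₀ ∨ g • w₀ = -w₀) := Iff.rfl

theorem NN_le : NN ≤ MulAction.stabilizer Co0 l₀ := fun _ hg => hg.1

theorem sgn_w₀ {c : Finset GolayPt} (hc : c ∈ Words) (h1 : (none : GolayPt) ∉ c)
    (h2 : (some 0 : GolayPt) ∉ c) : sgn c hc • w₀ = w₀ := by
  apply Subtype.ext
  rw [sgn_two hc hne (show (w₀ : GolayPt → ℤ) = two none (some 0) 4 4 from rfl), if_neg h1, if_neg h2]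
  rfl

theorem sgn_l₀ {c : Finset GolayPt} (hc : c ∈ Words) (h1 : (none : GolayPt) ∉ c)
    (h2 : (some 0 : GolayPt) ∉ c) : sgn c hc • l₀ = l₀ := by
  apply Subtype.ext
  rw [sgn_two hc hne (show (l₀ : GolayPt → ℤ) = two none (some 0) 4 (-4) from rfl), if_neg h1,
    if_neg h2]
  rfl

theorem perm_w₀ {σ : Equiv.Perm GolayPt} (hσ : σ ∈ M24) (h1 : σ none = none)
    (h2 : σ (some 0) = some 0) : perm σ hσ • w₀ = w₀ := by
  apply Subtype.ext
  rw [perm_two hσ (show (w₀ : GolayPt → ℤ) = two none (some 0) 4 4 from rfl), h1, h2]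
  rfl

theorem neg_perm_w₀ {σ : Equiv.Perm GolayPt} (hσ : σ ∈ M24) (h1 : σ none = some 0)
    (h2 : σ (some 0) = none) : (negOne * perm σ hσ) • w₀ = -w₀ := by
  rw [mul_smul, negOne_smul]
  congr 1
  apply Subtype.ext
  rw [perm_two hσ (show (w₀ : GolayPt → ℤ) = two none (some 0) 4 4 from rfl), h1, h2]
  exact two_swap hne.symm _ _

/-- **The frame stabiliser is generated by the explicit monomial generators.** -/
theorem closure_eq_NN (hp : ∀ x, pidx (p x) = tabP.getD (pidx x) 0)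
    (hh : ∀ x, pidx (h x) = tabH.getD (pidx x) 0) :
    Subgroup.closure {g | IsGenN (DuadGen.p_mem hp) (DuadGen.h_mem hh) g} = NN := by
  have hp0 : p none = none := by apply pidx_injective; rw [hp]; rfl
  have hp1 : p (some 0) = some 0 := by apply pidx_injective; rw [hp]; rfl
  have hh0 : h none = some 0 := by apply pidx_injective; rw [hh]; rfl
  have hh1 : h (some 0) = none := by apply pidx_injective; rw [hh]; rfl
  have hmem : ∀ g, IsGenN (DuadGen.p_mem hp) (DuadGen.h_mem hh) g →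
      g ∈ Subgroup.closure {g | IsGenN (DuadGen.p_mem hp) (DuadGen.h_mem hh) g} :=
    fun g hg => Subgroup.subset_closure hg
  apply le_antisymm
  · rw [Subgroup.closure_le]
    rintro x hx
    show x • l₀ = l₀ ∧ (x • w₀ = w₀ ∨ x • w₀ = -w₀)
    cases hx with
    | sgn k hk =>
      exact ⟨sgn_l₀ _ (none_notMem_dMask k hk) (zero_notMem_dMask k hk),
        Or.inl (sgn_w₀ _ (none_notMem_dMask k hk) (zero_notMem_dMask k hk))⟩
    | p => exact ⟨perm_l₀ _ hp0 hp1, Or.inl (perm_w₀ _ hp0 hp1)⟩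
    | h => exact ⟨neg_perm_l₀ _ hh0 hh1, Or.inr (neg_perm_w₀ _ hh0 hh1)⟩
  · have key : ∀ g : Co0, g • l₀ = l₀ → g • w₀ = w₀ →
        g ∈ Subgroup.closure {g | IsGenN (DuadGen.p_mem hp) (DuadGen.h_mem hh) g} := by
      intro g h1 h2
      obtain ⟨σ, hσ, c, hc, hσ1, hσ2, hc1, hc2, rfl⟩ := exists_monomial_of_fix g h1 h2
      refine mul_mem (sgn_mem_of (fun k hk => hmem _ (.sgn k hk)) hc hc1 hc2) ?_
      exact (perm_mem_gen hp hh (hmem _ .p) (hmem _ .h) hσ).1 hσ1 hσ2
    rintro g ⟨h1, h2 | h2⟩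
    · exact key g h1 h2
    · have h3 := hmem _ .h
      have h4 : (negOne * perm h (DuadGen.h_mem hh)) * g ∈
          Subgroup.closure {g | IsGenN (DuadGen.p_mem hp) (DuadGen.h_mem hh) g} := by
        apply key
        · rw [mul_smul, h1]; exact neg_perm_l₀ _ hh0 hh1
        · rw [mul_smul, h2, smul_neg_co0, neg_perm_w₀ _ hh0 hh1, neg_neg]
      exact (Subgroup.mul_mem_cancel_left _ h3).1 h4

end

/-! ### The standard frame and `ξ` -/

/-- the standard frame -/
def F₀ : Set leechLattice := {w₀, -w₀}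

theorem smul_F₀_iff {g : Co0} : g • F₀ = F₀ ↔ g • w₀ = w₀ ∨ g • w₀ = -w₀ := by
  unfold F₀
  rw [smul_pair, pair_eq_iff]

theorem mem_NN_iff {g : Co0} : g ∈ NN ↔ g • l₀ = l₀ ∧ g • F₀ = F₀ := by
  rw [mem_NN, smul_F₀_iff]

theorem ξ_mul_self : ξ * ξ = 1 := by
  apply Cfsg.Agent.Leech.FrameAux.co0_ext
  intro v
  rw [mul_smul, one_smul]
  unfold ξ
  rw [xi_coe, xi_coe]
  exact xiMap_xiMap S₀_mem T₁_mem v.2

theorem ξ_inv : ξ⁻¹ = ξ := inv_eq_of_mul_eq_one_left ξ_mul_self

theorem pt_fA_zero : GolayBase.pt (fA 0) = some 1 := by decide +kernel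

theorem pt_fB_zero : GolayBase.pt (fB 0) = some 2 := by decide +kernel

theorem nb_zero : (nb 0 : GolayPt → ℤ) = two (some 1) (some 2) 4 4 := by
  rw [nb_coe]
  show two (GolayBase.pt (fA 0)) (GolayBase.pt (fB 0)) 4 (fS 0) = _
  rw [pt_fA_zero, pt_fB_zero]
  rfl

theorem ξ_w₀ : ξ • w₀ = -nb 0 := by
  have h12 : (some 1 : GolayPt) ≠ some 2 := by decide
  have hneg : ((-nb 0 : leechLattice) : GolayPt → ℤ) = two (some 1) (some 2) (-4) (-4) := by
    show -(nb 0 : GolayPt → ℤ) = _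
    rw [nb_zero]
    funext x
    show -(two _ _ _ _ x) = _
    unfold two
    split_ifs <;> rfl
  apply lat_ext
  rw [hneg]
  funext x
  have hw : ∀ i, i ∉ T₀ → (w₀ : GolayPt → ℤ) i = 0 := by
    intro i hi
    rw [T₀_eq] at hi
    show two none (some 0) 4 4 i = 0
    exact two_other (fun h => hi (by simp [h])) (fun h => hi (by simp [h])) _ _
  by_cases hx : x ∈ T₀
  · rw [ξ_apply _ x hx]
    have hs : ∑ j ∈ T₀, (w₀ : GolayPt → ℤ) j = 8 := by
      rw [T₀_eq, sum_four hne (by simp) (by simp) (by decide) (by decide) h12]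
      show two none (some 0) 4 4 none + two none (some 0) 4 4 (some 0) +
        two none (some 0) 4 4 (some 1) + two none (some 0) 4 4 (some 2) = 8
      rw [two_left, two_right hne, two_other (by simp) (by decide), two_other (by simp) (by decide)]
      norm_num
    rw [hs]
    show two none (some 0) 4 4 x - 8 / 2 = _
    rw [T₀_eq] at hx
    simp only [Finset.mem_insert, Finset.mem_singleton] at hx
    rcases hx with rfl | rfl | rfl | rfl
    · rw [two_left, two_other (by simp) (by simp)]; norm_num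
    · rw [two_right hne, two_other (by decide) (by decide)]; norm_num
    · rw [two_left, two_other (by simp) (by decide)]; norm_num
    · rw [two_right h12, two_other (by simp) (by decide)]; norm_num
  · rw [ξ_supp _ hw x hx, two_other]
    · rintro rfl; exact hx (by rw [T₀_eq]; simp)
    · rintro rfl; exact hx (by rw [T₀_eq]; simp)

theorem ξ_F₀ : ξ • F₀ = fr 0 := by
  unfold F₀ fr
  rw [smul_pair, ξ_w₀]
  exact pair_eq_of (Or.inr rfl)

theorem ξ_fr_zero : ξ • fr 0 = F₀ := by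
  rw [← ξ_F₀, ← mul_smul, ξ_mul_self, one_smul]

/-- The stabiliser of the neighbour `0` in the frame stabiliser `NN` is `NN ∩ ξ NN ξ⁻¹`. -/
theorem smul_fr_zero_iff {g : Co0} (hg : g • l₀ = l₀) : g • fr 0 = fr 0 ↔ ξ * g * ξ⁻¹ ∈ NN := by
  rw [mem_NN_iff]
  have h1 : (ξ * g * ξ⁻¹) • l₀ = l₀ := by
    rw [mul_smul, mul_smul, ξ_inv, ξ_l₀, hg, ξ_l₀]
  have h2 : (ξ * g * ξ⁻¹) • F₀ = ξ • g • fr 0 := by
    rw [mul_smul, mul_smul, ξ_inv, ξ_F₀]
  rw [h2]
  constructor
  · intro h; rw [h, ξ_fr_zero]; exact ⟨h1, rfl⟩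
  · rintro ⟨-, h⟩
    rw [← ξ_fr_zero] at h
    exact MulAction.injective ξ h

/-! ### The action on the 462 neighbours -/

/-- `g` permutes the 462 pairs. -/
def Perms (g : Co0) : Prop := ∀ i : Fin 462, ∃ j : Fin 462, g • fr i = fr j

theorem Perms.mul {g h : Co0} (hg : Perms g) (hh : Perms h) : Perms (g * h) := by
  intro i
  obtain ⟨j, hj⟩ := hh i
  obtain ⟨k, hk⟩ := hg j
  exact ⟨k, by rw [mul_smul, hj, hk]⟩

theorem Perms.inv {g : Co0} (hg : Perms g) : Perms g⁻¹ := by
  choose f hf using hg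
  have hinj : Function.Injective f := by
    intro i j hij
    apply fr_inj
    have := hf i
    rw [hij, ← hf j] at this
    exact MulAction.injective g this
  have hsurj : Function.Surjective f := Finite.injective_iff_surjective.1 hinj
  intro k
  obtain ⟨i, rfl⟩ := hsurj k
  exact ⟨i, by rw [← hf i, inv_smul_smul]⟩

section

variable {p h : Equiv.Perm GolayPt}

open Cfsg.Agent.SporadicA.M24Gens (pidx pidx_injective)
open Cfsg.Agent.BabyM.DuadGen (tabP tabH duad)

theorem perms_of_mem (hp : ∀ x, pidx (p x) = tabP.getD (pidx x) 0)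
    (hh : ∀ x, pidx (h x) = tabH.getD (pidx x) 0) {g : Co0} (hg : g ∈ NN) : Perms g := by
  rw [← closure_eq_NN hp hh] at hg
  induction hg using Subgroup.closure_induction with
  | mem x hx =>
    intro i
    cases hx with
    | sgn k hk => exact ⟨_, sgn_fr _ (okY k hk) i⟩
    | p => exact ⟨_, perm_fr _ hp okP i⟩
    | h => exact ⟨_, by rw [mul_smul, perm_fr _ hh okH i]; exact negOne_fr _⟩
  | one => exact fun i => ⟨i, one_smul _ _⟩
  | mul x y _ _ hx hy => exact hx.mul hy
  | inv x _ hx => exact hx.inv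

end

/-- the permutation `p` of the 24 points -/
noncomputable def pPerm : Equiv.Perm GolayPt :=
  Equiv.ofBijective (fun x => GolayBase.pt (DuadGen.tabP.getD (GolayBase.idx x) 0))
    (by decide +kernel)

/-- the permutation `h` of the 24 points -/
noncomputable def hPerm : Equiv.Perm GolayPt :=
  Equiv.ofBijective (fun x => GolayBase.pt (DuadGen.tabH.getD (GolayBase.idx x) 0))
    (by decide +kernel)

theorem pPerm_tab (x : GolayPt) : M24Gens.pidx (pPerm x) = DuadGen.tabP.getD (M24Gens.pidx x) 0 := by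
  rw [← idx_eq_pidx, ← idx_eq_pidx]
  show GolayBase.idx (GolayBase.pt (DuadGen.tabP.getD (GolayBase.idx x) 0)) = _
  revert x
  decide +kernel

theorem hPerm_tab (x : GolayPt) : M24Gens.pidx (hPerm x) = DuadGen.tabH.getD (M24Gens.pidx x) 0 := by
  rw [← idx_eq_pidx, ← idx_eq_pidx]
  show GolayBase.idx (GolayBase.pt (DuadGen.tabH.getD (GolayBase.idx x) 0)) = _
  revert x
  decide +kernel

theorem perms_NN (g : NN) : Perms (g : Co0) := perms_of_mem pPerm_tab hPerm_tab g.2

/-- the map of the 462 neighbours defined by `g` -/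
noncomputable def act (g : NN) (i : Fin 462) : Fin 462 := Classical.choose (perms_NN g i)

theorem fr_act (g : NN) (i : Fin 462) : fr (act g i) = (g : Co0) • fr i :=
  (Classical.choose_spec (perms_NN g i)).symm

/-- The action of the frame stabiliser on the 462 neighbours. -/
noncomputable instance : MulAction NN (Fin 462) where
  smul := act
  one_smul i := fr_inj ((fr_act 1 i).trans (one_smul _ _))
  mul_smul g h i := fr_inj (((fr_act (g * h) i).trans (mul_smul _ _ _)).trans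
    ((congrArg _ (fr_act h i).symm).trans (fr_act g (act h i)).symm))

theorem fr_smul (g : NN) (i : Fin 462) : fr (g • i) = (g : Co0) • fr i := fr_act g i

theorem smul_eq_of {g : NN} {i j : Fin 462} (h : (g : Co0) • fr i = fr j) : g • i = j :=
  fr_inj ((fr_smul g i).trans h)

/-- The stabiliser of the point `0`. -/
theorem smul_zero_iff (g : NN) : g • (0 : Fin 462) = 0 ↔ ξ * (g : Co0) * ξ⁻¹ ∈ NN := by
  rw [← smul_fr_zero_iff g.2.1]
  constructor
  · intro h
    rw [← fr_smul, h]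
  · intro h
    exact smul_eq_of h

end Cfsg.Agent.BabyM.NbAct
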