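import Cfsg.Agent.Leech.Min
import Cfsg.Agent.Leech.Co0Elts
set_option linter.all false

/-!
# Rigidity of the 4600 minimal vectors having inner product 2 with a minimal vector

`u = (4, 4, 0^22)`; `R` is the set of the 4600 minimal vectors `r` with `(r, u) = 16` (customary
inner product 2).  Every map `R → R` preserving inner products is `r ↦ c r` or `r ↦ u - c r` for an
element `c` of `Co0` fixing `u`.  Equivalently, every isometry of the 23-space orthogonal to `u`
preserving the 4600 vectors `2 r - u` is plus or minus an element of `Co2`.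
-/

set_option autoImplicit false

namespace Cfsg.Agent.BabyM.Rigid23

open Cfsg Cfsg.Agent.Leech.Code Cfsg.Agent.Leech.Basic Cfsg.Agent.Leech.Min
open Cfsg.Agent.SporadicA

/-- The minimal vector `(4, 4, 0^22)`. -/
abbrev u : GolayPt → ℤ := Spor.vecU

theorem u_apply (p : GolayPt) : u p = if p = none ∨ p = some 0 then 4 else 0 := rfl

theorem u_mem : u ∈ leechLattice := AddSubgroup.subset_closure Spor.vecU_mem_leechSet

theorem none_ne : (none : GolayPt) ≠ some 0 := by decide

theorem dotInt_u (x : GolayPt → ℤ) : dotInt x u = 4 * (x none + x (some 0)) := by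
  unfold dotInt
  rw [Finset.sum_eq_add (none : GolayPt) (some 0) none_ne
      (fun i _ hi => by rw [u_apply, if_neg (by tauto), mul_zero])
      (fun h => absurd (Finset.mem_univ _) h) (fun h => absurd (Finset.mem_univ _) h)]
  rw [u_apply, u_apply, if_pos (Or.inl rfl), if_pos (Or.inr rfl)]
  ring

theorem sqNorm_u : sqNorm u = 32 := by
  rw [← dotInt_self, dotInt_u, u_apply, u_apply, if_pos (Or.inl rfl), if_pos (Or.inr rfl)]
  norm_num

/-- The 4600 minimal vectors with inner product 16 (customary 2) with `u`. -/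
def R : Set (GolayPt → ℤ) := {r | r ∈ leechLattice ∧ sqNorm r = 32 ∧ dotInt r u = 16}

/-- The lattice generated by `R`. -/
def L : AddSubgroup (GolayPt → ℤ) := AddSubgroup.closure R

theorem R_sub_L {x : GolayPt → ℤ} (h : x ∈ R) : x ∈ L := AddSubgroup.subset_closure h

/-- The vector with `a` at `i` and `0` elsewhere. -/
def e (i : GolayPt) (a : ℤ) : GolayPt → ℤ := fun k => if k = i then a else 0

theorem e_apply (i : GolayPt) (a : ℤ) (k : GolayPt) : e i a k = if k = i then a else 0 := rfl

theorem type4_e {i j : GolayPt} (hij : i ≠ j) {a b : ℤ} (ha : a = 4 ∨ a = -4) (hb : b = 4 ∨ b = -4) :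
    Type4 (e i a + e j b) := by
  refine ⟨i, j, hij, ?_, ?_, fun k hk hk' => ?_⟩
  · rw [Pi.add_apply, e_apply, e_apply, if_pos rfl, if_neg hij, add_zero]; exact ha
  · rw [Pi.add_apply, e_apply, e_apply, if_pos rfl, if_neg hij.symm, zero_add]; exact hb
  · rw [Pi.add_apply, e_apply, e_apply, if_neg hk, if_neg hk', add_zero]

theorem e_mem_R {i j : GolayPt} (hi : i = none ∨ i = some 0) (hj : j ≠ none) (hj' : j ≠ some 0)
    {b : ℤ} (hb : b = 4 ∨ b = -4) : e i 4 + e j b ∈ R := by
  have hij : i ≠ j := by rintro rfl; tauto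
  have h4 := type4_e hij (Or.inl rfl : (4 : ℤ) = 4 ∨ (4 : ℤ) = -4) hb
  refine ⟨(isLeech_of_type4 h4).mem, sqNorm_of_type4 h4, ?_⟩
  rw [dotInt_u, Pi.add_apply, Pi.add_apply, e_apply, e_apply, e_apply, e_apply, if_neg hj.symm,
    if_neg hj'.symm]
  rcases hi with rfl | rfl
  · rw [if_pos rfl, if_neg none_ne.symm]; norm_num
  · rw [if_pos rfl, if_neg none_ne]; norm_num

theorem e_add (i : GolayPt) (a b : ℤ) : e i (a + b) = e i a + e i b := by
  funext k
  rw [Pi.add_apply, e_apply, e_apply, e_apply]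
  split_ifs <;> ring

theorem e_neg (i : GolayPt) (a : ℤ) : e i (-a) = -e i a := by
  funext k
  rw [Pi.neg_apply, e_apply, e_apply]
  split_ifs <;> ring

theorem e_zsmul (i : GolayPt) (n a : ℤ) : e i (n * a) = n • e i a := by
  funext k
  rw [Pi.smul_apply, e_apply, e_apply, smul_eq_mul]
  split_ifs <;> ring

/-- `4 e_i - 4 e_0` lies in `L`. -/
theorem diff_mem_L (i : GolayPt) : e i 4 - e (some 0) 4 ∈ L := by
  have h1 : (some 1 : GolayPt) ≠ none := by decide
  have h1' : (some 1 : GolayPt) ≠ some 0 := by decide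
  by_cases hi0 : i = some 0
  · subst hi0; rw [sub_self]; exact L.zero_mem
  by_cases hin : i = none
  · subst hin
    have ha := R_sub_L (e_mem_R (Or.inl rfl : (none : GolayPt) = none ∨ _) h1 h1'
      (Or.inl rfl : (4 : ℤ) = 4 ∨ _))
    have hb := R_sub_L (e_mem_R (Or.inr rfl : (some 0 : GolayPt) = none ∨ _) h1 h1'
      (Or.inl rfl : (4 : ℤ) = 4 ∨ _))
    have h := L.sub_mem ha hb
    have he : e none 4 + e (some 1) 4 - (e (some 0) 4 + e (some 1) 4) = e none 4 - e (some 0) 4 := by
      abel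
    rwa [he] at h
  · have hb := R_sub_L (e_mem_R (Or.inr rfl : (some 0 : GolayPt) = none ∨ _) hin hi0
      (Or.inr rfl : (-4 : ℤ) = 4 ∨ _))
    have h := L.neg_mem hb
    rw [e_neg] at h
    have he : -(e (some 0) 4 + -e i 4) = e i 4 - e (some 0) 4 := by abel
    rwa [he] at h

theorem eight_mem_L : e (some 0) 8 ∈ L := by
  have h1 : (some 1 : GolayPt) ≠ none := by decide
  have h1' : (some 1 : GolayPt) ≠ some 0 := by decide
  have ha := R_sub_L (e_mem_R (Or.inr rfl : (some 0 : GolayPt) = none ∨ _) h1 h1'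
    (Or.inl rfl : (4 : ℤ) = 4 ∨ _))
  have hb := R_sub_L (e_mem_R (Or.inr rfl : (some 0 : GolayPt) = none ∨ _) h1 h1'
    (Or.inr rfl : (-4 : ℤ) = 4 ∨ _))
  have h := L.add_mem ha hb
  rw [e_neg] at h
  have he : e (some 0) 4 + e (some 1) 4 + (e (some 0) 4 + -e (some 1) 4) = e (some 0) 8 := by
    rw [show (8 : ℤ) = 4 + 4 by norm_num, e_add]
    abel
  rwa [he] at h

/-- `4 a` lies in `L` when the coordinate sum of `a` is even. -/
theorem four_mem_L {a : GolayPt → ℤ} (ha : Even (∑ i, a i)) : (fun i => 4 * a i) ∈ L := by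
  obtain ⟨k, hk⟩ := ha
  have h1 : (fun i => 4 * a i) = (∑ i, a i • (e i 4 - e (some 0) 4)) + k • e (some 0) 8 := by
    funext j
    rw [Pi.add_apply, Finset.sum_apply, Pi.smul_apply, e_apply, smul_eq_mul]
    have h2 : ∀ i, (a i • (e i 4 - e (some 0) 4)) j =
        (if j = i then 4 * a i else 0) - a i * (if j = some 0 then 4 else 0) := by
      intro i
      rw [Pi.smul_apply, Pi.sub_apply, e_apply, e_apply, smul_eq_mul]
      split_ifs <;> ring
    simp only [h2, Finset.sum_sub_distrib, Finset.sum_ite_eq, Finset.mem_univ, if_true,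
      ← Finset.sum_mul]
    rw [hk]
    split_ifs <;> ring
  rw [h1]
  refine L.add_mem (L.sum_mem fun i _ => L.zsmul_mem (diff_mem_L i) _)
    (L.zsmul_mem eight_mem_L _)

/-! ### The code words meeting `{∞, 0}` evenly -/

/-- Eleven octads through `∞` and `0`. -/
def octMask : ℕ → ℕ
  | 0 => 13062145
  | 1 => 9347075
  | 2 => 11100169
  | 3 => 8966165
  | 4 => 10846245
  | 5 => 9506893
  | 6 => 14254209
  | 7 => 11731203
  | 8 => 12325377
  | 9 => 10630149
  | 10 => 15747077
  | _ => 0

/-- The dual functionals. -/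
def funMask : ℕ → ℕ
  | 0 => 3771
  | 1 => 258
  | 2 => 72
  | 3 => 16
  | 4 => 32
  | 5 => 64
  | 6 => 128
  | 7 => 256
  | 8 => 512
  | 9 => 1024
  | 10 => 2048
  | _ => 0

/-- The partial combination of the eleven octads. -/
def combo (m : ℕ) : ℕ → ℕ
  | 0 => 0
  | k + 1 => combo m k ^^^ (GolayBase.popcount (m &&& funMask k) % 2 * octMask k)

/-- The check on a code word. -/
def comboCheck (i : ℕ) : Bool :=
  !(Nat.beq ((GolayBase.enc i >>> 23) % 2) (GolayBase.enc i % 2)) ||
    Nat.beq (combo (GolayBase.enc i) 11) (GolayBase.enc i)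

theorem combo_ok : GolayBase.allR 12 0 comboCheck = true := by decide +kernel

theorem octMask_ok : ∀ k < 11, GolayBase.isCode (octMask k) = true ∧
    GolayBase.popcount (octMask k) = 8 ∧ octMask k < 2 ^ 24 ∧ (octMask k).testBit 23 = true ∧
    (octMask k).testBit 0 = true := by decide +kernel

theorem chi_symmDiff (A B : Finset GolayPt) (i : GolayPt) :
    chi (symmDiff A B) i = chi A i + chi B i - 2 * chi (A ∩ B) i := by
  unfold chi
  simp only [Finset.mem_symmDiff, Finset.mem_inter]
  by_cases h1 : i ∈ A <;> by_cases h2 : i ∈ B <;> simp [h1, h2]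

theorem two_chi_symmDiff {A B : Finset GolayPt} (hA : A ∈ Words) (hB : B ∈ Words)
    (hA' : (fun i => 2 * chi A i) ∈ L) (hB' : (fun i => 2 * chi B i) ∈ L) :
    (fun i => 2 * chi (symmDiff A B) i) ∈ L := by
  have hev : Even (∑ i, chi (A ∩ B) i) := by
    rw [sum_chi]
    exact_mod_cast even_inter hA hB
  have h4 := four_mem_L hev
  have h := L.sub_mem (L.add_mem hA' hB') h4
  have he : ((fun i => 2 * chi A i) + (fun i => 2 * chi B i)) - (fun i => 4 * chi (A ∩ B) i) =
      fun i => 2 * chi (symmDiff A B) i := by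
    funext i
    simp only [Pi.sub_apply, Pi.add_apply, chi_symmDiff]
    ring
  rwa [he] at h

theorem two_chi_oct (k : ℕ) (hk : k < 11) : (fun i => 2 * chi (GolayBase.fin (octMask k)) i) ∈ L := by
  obtain ⟨h1, h2, h3, h4, h5⟩ := octMask_ok k hk
  set A := GolayBase.fin (octMask k) with hA
  have hoct : A ∈ octads := (GolayBase.fin_mem_octads_iff h3).2 ⟨h1, h2⟩
  have hn : (none : GolayPt) ∈ A := GolayBase.mem_fin.2 h4
  have h0 : (some 0 : GolayPt) ∈ A := GolayBase.mem_fin.2 h5
  have hT : Type2 (fun i => 2 * chi A i) := by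
    refine ⟨A, hoct, fun i hi => Or.inl (by show 2 * chi A i = 2; rw [chi_mem hi]; norm_num),
      fun i hi => by show 2 * chi A i = 0; rw [chi_not_mem hi]; norm_num, ?_⟩
    have : (A.filter fun i => 2 * chi A i = -2) = ∅ := by
      apply Finset.filter_false_of_mem
      intro i hi h
      rw [chi_mem hi] at h
      norm_num at h
    rw [this]
    exact ⟨0, rfl⟩
  refine R_sub_L ⟨(isLeech_of_type2 hT).mem, sqNorm_of_type2 hT, ?_⟩
  rw [dotInt_u, chi_mem hn, chi_mem h0]
  norm_num

theorem combo_mem (m : ℕ) : ∀ k ≤ 11, combo m k < 2 ^ 24 ∧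
    GolayBase.fin (combo m k) ∈ Words ∧ (fun i => 2 * chi (GolayBase.fin (combo m k)) i) ∈ L := by
  intro k
  induction k with
  | zero =>
    intro _
    have h0 : GolayBase.fin 0 = ∅ := by
      ext i
      rw [GolayBase.mem_fin]
      simp
    refine ⟨by show 0 < 2 ^ 24; norm_num, ?_, ?_⟩
    · change GolayBase.fin 0 ∈ Words
      rw [h0]; exact empty_mem
    · change (fun i => 2 * chi (GolayBase.fin 0) i) ∈ L
      rw [h0]
      have : (fun i => 2 * chi (∅ : Finset GolayPt) i) = 0 := by
        funext i; rw [chi_not_mem (Finset.notMem_empty i)]; rfl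
      rw [this]; exact L.zero_mem
  | succ k ih =>
    intro hk
    obtain ⟨i1, i2, i3⟩ := ih (by omega)
    obtain ⟨h1, h2, h3, h4, h5⟩ := octMask_ok k (by omega)
    have hlt : GolayBase.popcount (m &&& funMask k) % 2 < 2 := Nat.mod_lt _ (by norm_num)
    change combo m k ^^^ (GolayBase.popcount (m &&& funMask k) % 2 * octMask k) < 2 ^ 24 ∧
      GolayBase.fin (combo m k ^^^ (GolayBase.popcount (m &&& funMask k) % 2 * octMask k)) ∈ Words ∧
      (fun i => 2 * chi (GolayBase.fin (combo m k ^^^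
        (GolayBase.popcount (m &&& funMask k) % 2 * octMask k))) i) ∈ L
    interval_cases hb : GolayBase.popcount (m &&& funMask k) % 2
    · rw [zero_mul, Nat.xor_zero]; exact ⟨i1, i2, i3⟩
    · rw [one_mul, GolayBase.fin_xor]
      have hw : GolayBase.fin (octMask k) ∈ Words := (GolayBase.fin_mem_supports_iff h3).2 h1
      exact ⟨Nat.xor_lt_two_pow i1 h3, symmDiff_mem i2 hw,
        two_chi_symmDiff i2 hw i3 (two_chi_oct k (by omega))⟩

/-- Twice the indicator vector of a code word meeting `{∞, 0}` evenly lies in `L`. -/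
theorem two_chi_mem {A : Finset GolayPt} (hA : A ∈ Words) (h : none ∈ A ↔ some 0 ∈ A) :
    (fun i => 2 * chi A i) ∈ L := by
  have hc := (GolayBase.mem_supports_iff A).1 hA
  rw [GolayBase.isCode_iff] at hc
  have hmod : GolayBase.enc (GolayBase.maskOf A % 4096) = GolayBase.maskOf A := by
    rw [GolayBase.enc_mod, hc]
  have hck := GolayBase.allR_zero_spec combo_ok (GolayBase.maskOf A % 4096)
    (Nat.mod_lt _ (by norm_num))
  unfold comboCheck at hck
  rw [hmod, Bool.or_eq_true] at hck
  have h23 : (GolayBase.maskOf A).testBit 23 = decide ((none : GolayPt) ∈ A) :=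
    GolayBase.testBit_maskOf A none
  have h0 : (GolayBase.maskOf A).testBit 0 = decide ((some 0 : GolayPt) ∈ A) :=
    GolayBase.testBit_maskOf A (some 0)
  have heq : (GolayBase.maskOf A >>> 23) % 2 = GolayBase.maskOf A % 2 := by
    have e1 := GolayBase.ite_testBit (GolayBase.maskOf A) 23
    have e2 := GolayBase.ite_testBit (GolayBase.maskOf A) 0
    rw [Nat.shiftRight_zero] at e2
    rw [← e1, ← e2, h23, h0]
    simp only [decide_eq_true_eq]
    by_cases hn : none ∈ A
    · rw [if_pos hn, if_pos (h.1 hn)]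
    · rw [if_neg hn, if_neg (fun h' => hn (h.2 h'))]
  rcases hck with hck | hck
  · rw [heq] at hck
    simp at hck
  · have hcomb := Nat.eq_of_beq_eq_true hck
    obtain ⟨-, -, h3⟩ := combo_mem (GolayBase.maskOf A) 11 le_rfl
    rw [hcomb, GolayBase.fin_maskOf] at h3
    exact h3

end Cfsg.Agent.BabyM.Rigid23
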